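import Cfsg.Agent.Lib.Recog.Zassenhaus.Nonsolvable
import Cfsg.Agent.Lib.ZStar.SLTwoThree
import Cfsg.Agent.Lib.Recog.SimpleSixty

/-!
# Recognition of `SL(2,3)` and `SL(2,5)` by order
-/

set_option autoImplicit false
set_option linter.all false
set_option maxRecDepth 10000

namespace CfsgLib.Recog.Zassenhaus

open Subgroup CfsgLib.ZStar
open scoped MatrixGroups commutatorElement

/-- A group of order 24 with a normal quaternion subgroup moved by an element of order three is `SL(2,3)`. -/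
theorem nonempty_sl23 {G : Type*} [Group G] [Finite G] (hG : Nat.card G = 24) (Q : Subgroup G) [Q.Normal]
    (e : Q ≃* QuaternionGroup 2) {g : G} (hg : g ^ 3 = 1) (hgQ : g ∉ centralizer (Q : Set G)) :
    Nonempty (G ≃* Matrix.SpecialLinearGroup (Fin 2) (ZMod 3)) := by
  let β : MulAut (QuaternionGroup 2) := MulAut.congr e (MulAut.conjNormal g)
  have hβ3 : β ^ 3 = 1 := by
    show (MulAut.congr e (MulAut.conjNormal g)) ^ 3 = 1
    rw [← map_pow, ← map_pow, hg, map_one, map_one]
  have hβ : β ≠ 1 := by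
    intro h
    refine hgQ (mem_centralizer_iff.2 fun x hx => ?_)
    have h1 : MulAut.conjNormal (H := Q) g = 1 := (MulAut.congr e).injective (by rw [map_one]; exact h)
    have h2 := congrArg Subtype.val (DFunLike.congr_fun h1 ⟨x, hx⟩)
    rw [MulAut.conjNormal_apply, MulAut.one_apply] at h2
    exact (mul_inv_eq_iff_eq_mul.1 h2).symm
  obtain ⟨c, hc, i, hi, hci⟩ := exists_twist β (j := 3) (by decide) hβ3 hβ
  let ι : QuaternionGroup 2 →* G := Q.subtype.comp (e.symm.toMonoidHom.comp c)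
  have hι : Function.Injective ι := Q.subtype_injective.comp (e.symm.injective.comp hc)
  set t := g ^ i with ht
  have ht3 : t ^ 3 = 1 := by rw [ht, ← pow_mul, mul_comm, pow_mul, hg, one_pow]
  have hconj : ∀ z, t * ι z * t⁻¹ = ι (q8Sigma z) := by
    intro z
    have h1 : (MulAut.congr e) (MulAut.conjNormal t) (c z) = c (q8Sigma z) := by
      rw [ht, map_pow, map_pow]
      exact hci z
    have h2 := congrArg (fun w => ((e.symm w : Q) : G)) h1
    simpa [ι, MulAut.congr, MulAut.conjNormal_apply] using h2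
  have hpow : ∀ (k : ℕ) z, t ^ k * ι z = ι (q8Sigma^[k] z) * t ^ k := by
    intro k
    induction k with
    | zero => intro z; simp
    | succ k ih =>
      intro z
      rw [pow_succ, mul_assoc, show t * ι z = ι (q8Sigma z) * t by rw [← hconj z]; group,
        ← mul_assoc, ih, Function.iterate_succ_apply, mul_assoc]
  have htmod : ∀ k : ℕ, t ^ (k % 3) = t ^ k := fun k => by
    conv_rhs => rw [← Nat.div_add_mod k 3, pow_add, pow_mul, ht3, one_pow, one_mul]
  let F : QuaternionGroup 2 × Fin 3 → G := fun p => ι p.1 * t ^ (p.2 : ℕ)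
  have hF : ∀ p q, F p * F q = F (p.1 * q8Sigma^[(p.2 : ℕ)] q.1, p.2 + q.2) := by
    intro p q
    show ι p.1 * t ^ (p.2 : ℕ) * (ι q.1 * t ^ (q.2 : ℕ)) = ι (p.1 * q8Sigma^[(p.2 : ℕ)] q.1) * t ^ ((p.2 + q.2 : Fin 3) : ℕ)
    rw [Fin.val_add, htmod, pow_add, map_mul, mul_assoc, ← mul_assoc (t ^ (p.2 : ℕ)), hpow]
    simp only [mul_assoc]
  let E : QuaternionGroup 2 × Fin 3 ≃ SL(2, ZMod 3) :=
    Equiv.ofBijective slCoord ⟨fun p q => slCoord_injective p q, slCoord_surjective⟩
  let f : SL(2, ZMod 3) →* G := MonoidHom.mk' (fun A => F (E.symm A)) fun A B => by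
    obtain ⟨p, rfl⟩ := E.surjective A
    obtain ⟨q, rfl⟩ := E.surjective B
    rw [E.symm_apply_apply, E.symm_apply_apply, hF,
      show E p * E q = E (p.1 * q8Sigma^[(p.2 : ℕ)] q.1, p.2 + q.2) from slCoord_mul p q, E.symm_apply_apply]
  have hsurj : Function.Surjective f := by
    rw [← MonoidHom.range_eq_top]
    have hQ : Q ≤ f.range := by
      intro x hx
      obtain ⟨z, hz⟩ := (Finite.injective_iff_surjective.1 hc) (e ⟨x, hx⟩)
      exact ⟨E (z, 0), by simp [f, F, ι, hz]⟩
    have htm : t ∈ f.range := ⟨E (1, 1), by simp [f, F]⟩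
    have hgm : g ∈ f.range := by
      rcases hi with rfl | rfl
      · rwa [ht, pow_one] at htm
      · have : g = t * t := by
          calc g = g * g ^ 3 := by rw [hg, mul_one]
            _ = _ := by rw [ht]; group
        rw [this]; exact mul_mem htm htm
    refine eq_top_of_card_eq _ (Nat.dvd_antisymm (card_subgroup_dvd_card _) ?_)
    rw [hG]
    have h8 := card_dvd_of_le hQ
    rw [Nat.card_congr e.toEquiv, Nat.card_eq_fintype_card, QuaternionGroup.card] at h8
    have hg1 : g ≠ 1 := fun h => hgQ (h ▸ one_mem _)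
    have h3 : 3 ∣ Nat.card f.range := by
      have := Subgroup.orderOf_dvd_natCard f.range hgm
      rwa [orderOf_eq_prime hg hg1] at this
    exact (Nat.Coprime.mul_dvd_of_dvd_of_dvd (by norm_num : Nat.Coprime 8 3) h8 h3)
  have hcard : Nat.card SL(2, ZMod 3) = 24 := by
    rw [← Nat.card_congr E, Nat.card_prod, Nat.card_fin, Nat.card_eq_fintype_card, QuaternionGroup.card]
  exact ⟨(MulEquiv.ofBijective f ((Nat.bijective_iff_surjective_and_card f).2 ⟨hsurj, hcard.trans hG.symm⟩)).symm⟩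

/-- A group generated by lifts of an icosahedral pair over a central involution. -/
theorem nonempty_sl25_of_pair {K : Type*} [Group K] [Finite K] (hK : Nat.card K = 120) (hperf : commutator K = ⊤)
    (N : Subgroup K) [N.Normal] (hN : N ≤ center K) (hN2 : Nat.card N = 2) (e : K ⧸ N ≃* alternatingGroup (Fin 5)) :
    Nonempty (K ≃* Matrix.SpecialLinearGroup (Fin 2) (ZMod 5)) := by
  obtain ⟨ε⟩ := Cfsg.Agent.S3377.result
  set q : K →* PresentedGroup ({FreeGroup.of (0 : Fin 2) ^ 3, FreeGroup.of (1 : Fin 2) ^ 5,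
      (FreeGroup.of (0 : Fin 2) * FreeGroup.of 1) ^ 2} : Set (FreeGroup (Fin 2))) :=
    (e.trans ε.symm).toMonoidHom.comp (QuotientGroup.mk' N) with hq
  have hqs : Function.Surjective q := (e.trans ε.symm).surjective.comp (QuotientGroup.mk'_surjective N)
  have hqker : ∀ k, q k = 1 → k ∈ N := fun k hk =>
    (QuotientGroup.eq_one_iff k).1 ((e.trans ε.symm).injective (by rw [map_one]; exact hk))
  have hlift : ∀ (w : PresentedGroup ({FreeGroup.of (0 : Fin 2) ^ 3, FreeGroup.of (1 : Fin 2) ^ 5,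
      (FreeGroup.of (0 : Fin 2) * FreeGroup.of 1) ^ 2} : Set (FreeGroup (Fin 2)))) (n : ℕ), Odd n → w ^ n = 1 →
      ∃ x : K, q x = w ∧ x ^ n = 1 := by
    intro w n hn hjn
    obtain ⟨x, hx⟩ := hqs w
    refine ⟨x ^ (n + 1), by rw [map_pow, hx, pow_succ w n, hjn, one_mul], ?_⟩
    have hmem : x ^ n ∈ N := hqker _ (by rw [map_pow, hx, hjn])
    have h2 : (x ^ n) ^ 2 = 1 := orderOf_dvd_iff_pow_eq_one.1 (hN2 ▸ N.orderOf_dvd_natCard hmem)
    obtain ⟨m, rfl⟩ := hn
    rw [← pow_mul, show (2 * m + 1 + 1) * (2 * m + 1) = (2 * m + 1) * 2 * (m + 1) by ring, pow_mul, pow_mul, h2, one_pow]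
  obtain ⟨x, hx, hx3⟩ := hlift (PresentedGroup.of 0) 3 (by decide) (PresentedGroup.one_of_mem (x := FreeGroup.of 0 ^ 3) (Or.inl rfl))
  obtain ⟨y, hy, hy5⟩ := hlift (PresentedGroup.of 1) 5 (by decide) (PresentedGroup.one_of_mem (x := FreeGroup.of 1 ^ 5) (Or.inr (Or.inl rfl)))
  have hzN : (x * y) ^ 2 ∈ N := hqker _ (by
    rw [map_pow, map_mul, hx, hy]
    exact PresentedGroup.one_of_mem (x := (FreeGroup.of 0 * FreeGroup.of 1) ^ 2) (Or.inr (Or.inr rfl)))
  set H := Subgroup.closure ({x, y} : Set K) with hH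
  have hHN : H ⊔ N = ⊤ := by
    have hmap : H.map q = ⊤ := by
      rw [hH, MonoidHom.map_closure, eq_top_iff, ← PresentedGroup.closure_range_of, closure_le]
      rintro _ ⟨j, rfl⟩
      fin_cases j
      · exact subset_closure ⟨x, Set.mem_insert _ _, hx⟩
      · exact subset_closure ⟨y, Set.mem_insert_of_mem _ rfl, hy⟩
    rw [eq_top_iff]
    intro k _
    obtain ⟨h, hh, hhk⟩ := hmap.ge (mem_top (q k))
    rw [show k = h * (h⁻¹ * k) by group]
    exact mul_mem (mem_sup_left hh) (mem_sup_right (hqker _ (by rw [map_mul, map_inv, hhk, inv_mul_cancel])))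
  have hgen : H = ⊤ := by
    rw [eq_top_iff, ← hperf, _root_.commutator_def, commutator_le]
    intro a _ b _
    obtain ⟨a₁, ha₁, a₂, ha₂, rfl⟩ := (Subgroup.mem_sup_of_normal_right).1 (hHN.ge (mem_top a))
    obtain ⟨b₁, hb₁, b₂, hb₂, rfl⟩ := (Subgroup.mem_sup_of_normal_right).1 (hHN.ge (mem_top b))
    have ca := fun w => (mem_center_iff.1 (hN ha₂) w)
    have cb := fun w => (mem_center_iff.1 (hN hb₂) w)
    have e1 : ⁅a₁ * a₂, b₁ * b₂⁆ = ⁅a₁, b₁⁆ := by
      rw [commutatorElement_def, commutatorElement_def]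
      calc a₁ * a₂ * (b₁ * b₂) * (a₁ * a₂)⁻¹ * (b₁ * b₂)⁻¹
          = a₁ * (a₂ * b₁) * (b₂ * a₂⁻¹) * a₁⁻¹ * b₂⁻¹ * b₁⁻¹ := by group
        _ = a₁ * (b₁ * a₂) * (a₂⁻¹ * b₂) * a₁⁻¹ * b₂⁻¹ * b₁⁻¹ := by
            rw [ca b₁, show b₂ * a₂⁻¹ = a₂⁻¹ * b₂ from (cb a₂⁻¹).symm]
        _ = a₁ * b₁ * (b₂ * a₁⁻¹) * b₂⁻¹ * b₁⁻¹ := by group
        _ = _ := by rw [← cb a₁⁻¹]; group
    rw [e1, commutatorElement_def]
    exact mul_mem (mul_mem (mul_mem ha₁ hb₁) (inv_mem ha₁)) (inv_mem hb₁)
  have hzc := hN hzN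
  refine nonempty_mulEquiv hx3 hy5 rfl (by
    have := orderOf_dvd_iff_pow_eq_one.1 (N.orderOf_dvd_natCard hzN)
    rwa [hN2] at this) ?_ ?_
    (mem_center_iff.1 hzc x).symm (mem_center_iff.1 hzc y).symm hgen
  · intro h
    obtain ⟨f, hf⟩ := exists_hom_icosahedral hx3 hy5 h hgen
    have := Nat.card_le_card_of_surjective f hf
    rw [hK, card_alt_five] at this
    norm_num at this
  · intro h
    rw [hH, h] at hgen
    haveI : IsMulCommutative (⊤ : Subgroup K) := hgen ▸ isMulCommutative_closure (by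
      rintro a (rfl | rfl) b (rfl | rfl) <;> simp)
    haveI : Group.IsSolvable K := Group.isSolvable_of_comm fun a b =>
      congrArg Subtype.val (mul_comm' (⟨a, mem_top a⟩ : (⊤ : Subgroup K)) ⟨b, mem_top b⟩)
    haveI : Nontrivial K := Finite.one_lt_card_iff_nontrivial.1 (by rw [hK]; norm_num)
    exact (Group.IsSolvable.commutator_lt_top_of_nontrivial K).ne hperf

/-- A nonsoluble group of order 60 is simple. -/
theorem isSimple_of_sixty {T : Type*} [Group T] [Finite T] (h : Nat.card T = 60) (hns : ¬ Group.IsSolvable T) :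
    IsSimpleGroup T := by
  haveI : Nontrivial T := Finite.one_lt_card_iff_nontrivial.1 (by rw [h]; norm_num)
  refine { eq_bot_or_eq_top_of_normal := fun M hM => ?_ }
  by_contra hh
  simp only [not_or] at hh
  obtain ⟨hb, ht⟩ := hh
  have hmul := M.card_mul_index
  rw [h] at hmul
  have hM1 : Nat.card M ≠ 1 := fun e => hb (Subgroup.eq_bot_of_card_eq M e)
  have hi1 : M.index ≠ 1 := fun e => ht (index_eq_one.1 e)
  haveI : Group.IsSolvable M := CfsgLib.Recog.Sixty.isSolvable_of_dvd_sixty (Dvd.intro _ hmul)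
    (fun e => hi1 (by rw [e] at hmul; omega))
  haveI : Group.IsSolvable (T ⧸ M) := CfsgLib.Recog.Sixty.isSolvable_of_dvd_sixty
    (by rw [← index_eq_card]; exact Dvd.intro_left _ hmul)
    (fun e => hM1 (by rw [← index_eq_card] at e; rw [e] at hmul; omega))
  exact hns (Group.isSolvable_of_ker_le_range M.subtype (QuotientGroup.mk' M)
    (by rw [QuotientGroup.ker_mk', Subgroup.range_subtype]))

/-- Proper divisors of 120 other than 60 are orders of soluble groups only. -/
theorem isSolvable_of_dvd_120 {T : Type*} [Group T] [Finite T] (hd : Nat.card T ∣ 120) (h1 : Nat.card T ≠ 120)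
    (h2 : Nat.card T ≠ 60) : Group.IsSolvable T := by
  have key : ∀ n ∈ Nat.divisors 120, n ∣ 60 ∨ n = 8 ∨ n = 24 ∨ n = 40 ∨ n = 120 := by decide
  rcases key _ (Nat.mem_divisors.2 ⟨hd, by norm_num⟩) with e | e | e | e | e
  · exact CfsgLib.Recog.Sixty.isSolvable_of_dvd_sixty e h2
  · exact CfsgLib.Burnside.isSolvable_of_card_eq (a := 3) (b := 0) Nat.prime_two Nat.prime_three (by simp [e])
  · exact CfsgLib.Burnside.isSolvable_of_card_eq (a := 3) (b := 1) Nat.prime_two Nat.prime_three (by simp [e])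
  · exact CfsgLib.Burnside.isSolvable_of_card_eq (a := 3) (b := 1) Nat.prime_two Nat.prime_five (by simp [e])
  · exact absurd e h1

/-- No simple group has order 120. -/
theorem not_isSimpleGroup_120 {K : Type*} [Group K] [Finite K] (hK : Nat.card K = 120) : ¬ IsSimpleGroup K := by
  intro hs
  haveI : Fact (Nat.Prime 5) := ⟨by norm_num⟩
  have hc : ¬ IsMulCommutative K := CfsgLib.Perm.not_comm_of_not_prime (by rw [hK]; norm_num)
  obtain ⟨P⟩ := (inferInstance : Nonempty (Sylow 5 K))
  have hP5 : Nat.card (P : Subgroup K) = 5 :=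
    (CfsgLib.Perm.sylow_card_eq P (k := 1) (m := 24) (by rw [hK]; norm_num) (by norm_num)).trans (pow_one 5)
  have hd : Nat.card (Sylow 5 K) ∣ 24 := CfsgLib.Perm.card_sylow_dvd_of_card_eq (k := 1) (by rw [hK]; norm_num)
  have hmod : Nat.card (Sylow 5 K) % 5 = 1 := card_sylow_modEq_one 5 K
  have hn : Nat.card (Sylow 5 K) = 1 ∨ Nat.card (Sylow 5 K) = 6 := by
    have key : ∀ n ∈ Nat.divisors 24, n % 5 = 1 → n = 1 ∨ n = 6 := by decide
    exact key _ (Nat.mem_divisors.2 ⟨hd, by norm_num⟩) hmod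
  rcases hn with h1 | h6
  · haveI := (Nat.card_eq_one_iff_unique.1 h1).1
    haveI : (P : Subgroup K).Characteristic := P.characteristic_of_subsingleton
    rcases (inferInstance : (P : Subgroup K).Normal).eq_bot_or_eq_top with h | h
    · rw [h, Subgroup.card_bot] at hP5; omega
    · rw [h, Subgroup.card_top, hK] at hP5; omega
  · have hidx : (normalizer ((P : Subgroup K) : Set K)).index = 6 := (Sylow.card_eq_index_normalizer P).symm.trans h6
    have hne : normalizer ((P : Subgroup K) : Set K) ≠ ⊤ := fun h => by rw [h, index_top] at hidx; omega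
    obtain ⟨f, hf⟩ : ∃ f : K →* alternatingGroup (Fin 6), Function.Injective f := by
      have := CfsgLib.Perm.embeds_alternating hc _ hne
      rwa [hidx] at this
    have hA : Nat.card (alternatingGroup (Fin 6)) = 360 := by
      have := two_mul_nat_card_alternatingGroup (α := Fin 6)
      rw [Nat.card_perm, Nat.card_fin] at this
      rw [show Nat.factorial 6 = 720 from rfl] at this
      omega
    haveI : IsSimpleGroup (alternatingGroup (Fin 6)) := alternatingGroup.isSimpleGroup (by simp)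
    have hr : f.range.index = 3 := by
      have := f.range.card_mul_index
      rw [← Nat.card_congr (MonoidHom.ofInjective hf).toEquiv, hK, hA] at this
      omega
    have hd6 := CfsgLib.Perm.two_mul_card_dvd_factorial_index
      (CfsgLib.Perm.not_comm_of_not_prime (G := alternatingGroup (Fin 6)) (by rw [hA]; norm_num)) f.range
      (fun h => by rw [h, index_top] at hr; omega)
    rw [hr, hA] at hd6
    norm_num [Nat.factorial] at hd6

/-- A nonsoluble group of order 120 with quaternion Sylow 2-subgroups is `SL(2,5)`. -/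
theorem nonempty_sl25_of_card {K : Type*} [Group K] [Finite K] (hK : Nat.card K = 120) (hns : ¬ Group.IsSolvable K)
    (h2 : ∀ P : Sylow 2 K, Nonempty ((P : Subgroup K) ≃* QuaternionGroup 2)) :
    Nonempty (K ≃* Matrix.SpecialLinearGroup (Fin 2) (ZMod 5)) := by
  haveI : Fact (Nat.Prime 2) := ⟨Nat.prime_two⟩
  haveI : Nontrivial K := Finite.one_lt_card_iff_nontrivial.1 (by rw [hK]; norm_num)
  -- elements squaring to one are central or trivial
  have hinv : ∀ a b : K, a * a = 1 → b * b = 1 → a * b = b * a → a = 1 ∨ b = 1 ∨ a = b := by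
    intro a b ha hb hab
    have hp : IsPGroup 2 (Subgroup.closure ({a, b} : Set K)) := by
      haveI : IsMulCommutative (Subgroup.closure ({a, b} : Set K)) := isMulCommutative_closure (by
        rintro u (rfl | rfl) v (rfl | rfl)
        exacts [rfl, hab, hab.symm, rfl])
      intro w
      refine ⟨1, Subtype.ext ?_⟩
      rw [Subgroup.coe_pow, OneMemClass.coe_one, pow_one]
      obtain ⟨w, hw⟩ := w
      simp only
      induction hw using Subgroup.closure_induction with
      | mem u hu => rcases hu with rfl | rfl <;> rw [pow_two] <;> assumption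
      | one => exact one_pow 2
      | mul u v hu hv eu ev =>
        have hc : Commute u v := congrArg Subtype.val (mul_comm' (⟨u, hu⟩ : Subgroup.closure ({a, b} : Set K)) ⟨v, hv⟩)
        rw [hc.mul_pow, eu, ev, one_mul]
      | inv u _ eu => rw [inv_pow, eu, inv_one]
    obtain ⟨P, hP⟩ := hp.exists_le_sylow
    obtain ⟨e⟩ := h2 P
    have key : ∀ u v : QuaternionGroup 2, u * u = 1 → v * v = 1 → u = 1 ∨ v = 1 ∨ u = v := by decide
    rcases key (e ⟨a, hP (subset_closure (Set.mem_insert _ _))⟩) (e ⟨b, hP (subset_closure (Set.mem_insert_of_mem _ rfl))⟩)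
      (by rw [← map_mul, ← map_one e]; exact congrArg e (Subtype.ext ha))
      (by rw [← map_mul, ← map_one e]; exact congrArg e (Subtype.ext hb)) with h | h | h
    · exact Or.inl (congrArg Subtype.val ((map_eq_one_iff _ e.injective).1 h))
    · exact Or.inr (Or.inl (congrArg Subtype.val ((map_eq_one_iff _ e.injective).1 h)))
    · exact Or.inr (Or.inr (congrArg Subtype.val (e.injective h)))
  have nosixty : ∀ (T : Subgroup K) (e : T ≃* alternatingGroup (Fin 5)), False := by
    intro T e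
    obtain ⟨u, v, h1, h2', h3, h4, h5, h6⟩ : ∃ u v : alternatingGroup (Fin 5), u ≠ 1 ∧ v ≠ 1 ∧ u ≠ v ∧
        u * u = 1 ∧ v * v = 1 ∧ u * v = v * u :=
      ⟨⟨Equiv.swap 0 1 * Equiv.swap 2 3, Equiv.Perm.mem_alternatingGroup.2 (by decide)⟩,
        ⟨Equiv.swap 0 2 * Equiv.swap 1 3, Equiv.Perm.mem_alternatingGroup.2 (by decide)⟩,
        by decide, by decide, by decide, by decide, by decide, by decide⟩
    have hm : ∀ {a b c : alternatingGroup (Fin 5)}, a * b = c → ((e.symm a : T) : K) * (e.symm b : T) = (e.symm c : T) :=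
      fun h => by rw [← Subgroup.coe_mul, ← map_mul, h]
    rcases hinv (e.symm u : T) (e.symm v : T) ((hm h4).trans (by simp)) ((hm h5).trans (by simp))
      ((hm h6).trans (hm rfl).symm) with h | h | h
    · exact h1 (e.symm.injective (by rw [map_one]; exact Subtype.ext h))
    · exact h2' (e.symm.injective (by rw [map_one]; exact Subtype.ext h))
    · exact h3 (e.symm.injective (Subtype.ext h))
  obtain ⟨M, hM, hMb, hMt⟩ : ∃ M : Subgroup K, M.Normal ∧ M ≠ ⊥ ∧ M ≠ ⊤ := by
    by_contra h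
    refine not_isSimpleGroup_120 hK { eq_bot_or_eq_top_of_normal := fun M hM => ?_ }
    by_contra hh
    simp only [not_or] at hh
    exact h ⟨M, hM, hh⟩
  have hmul := M.card_mul_index
  rw [hK] at hmul
  have hM1 : Nat.card M ≠ 1 := fun e => hMb (Subgroup.eq_bot_of_card_eq M e)
  have hi1 : M.index ≠ 1 := fun e => hMt (index_eq_one.1 e)
  have hMs : Group.IsSolvable M := by
    by_contra hns'
    have h60 : Nat.card M = 60 := by
      by_contra h
      exact hns' (isSolvable_of_dvd_120 (Dvd.intro _ hmul) (fun e => hi1 (by rw [e] at hmul; omega)) h)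
    haveI := isSimple_of_sixty h60 hns'
    obtain ⟨e⟩ := CfsgLib.Recog.Sixty.iso_alt_five (G := M) h60
    exact nosixty M e
  have hqns : ¬ Group.IsSolvable (K ⧸ M) := fun _ =>
    hns (Group.isSolvable_of_ker_le_range M.subtype (QuotientGroup.mk' M)
      (by rw [QuotientGroup.ker_mk', Subgroup.range_subtype]))
  have hq60 : Nat.card (K ⧸ M) = 60 := by
    by_contra h
    exact hqns (isSolvable_of_dvd_120 (by rw [← index_eq_card]; exact Dvd.intro_left _ hmul)
      (fun e => hM1 (by rw [← index_eq_card] at e; rw [e] at hmul; omega)) h)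
  haveI := isSimple_of_sixty hq60 hqns
  obtain ⟨e⟩ := CfsgLib.Recog.Sixty.iso_alt_five (G := K ⧸ M) hq60
  have hM2 : Nat.card M = 2 := by rw [← index_eq_card] at hq60; rw [hq60] at hmul; omega
  have hMc : M ≤ center K := by
    intro m hm
    refine mem_center_iff.2 fun g => ?_
    by_cases hm1 : m = 1
    · simp [hm1]
    obtain ⟨m0, hm0, huniq⟩ := (Nat.card_eq_two_iff' (1 : M)).1 hM2
    have h1 := huniq ⟨m, hm⟩ (fun h => hm1 (congrArg Subtype.val h))
    have h2 := huniq ⟨g * m * g⁻¹, hM.conj_mem m hm g⟩ (fun h => hm1 (conj_eq_one_iff.1 (congrArg Subtype.val h)))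
    exact mul_inv_eq_iff_eq_mul.1 (congrArg Subtype.val (h2.trans h1.symm))
  have hperf : commutator K = ⊤ := by
    by_contra hne
    have hmap : (commutator K).map (QuotientGroup.mk' M) = ⊤ := by
      rw [_root_.commutator_def, map_commutator, map_top_of_surjective _ (QuotientGroup.mk'_surjective M),
        ← _root_.commutator_def]
      rcases (commutator_normal (⊤ : Subgroup (K ⧸ M)) ⊤).eq_bot_or_eq_top with h | h
      · refine absurd (Group.isSolvable_of_comm fun a b => ?_) hqns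
        exact commutatorElement_eq_one_iff_mul_comm.1
          (mem_bot.1 (h ▸ commutator_mem_commutator (mem_top a) (mem_top b)))
      · rw [_root_.commutator_def]; exact h
    have hd60 : 60 ∣ Nat.card (commutator K) := by
      have := card_map_dvd (commutator K) (QuotientGroup.mk' M)
      rwa [hmap, card_top, hq60] at this
    have h60 : Nat.card (commutator K) = 60 := by
      have h120 := Subgroup.card_subgroup_dvd_card (commutator K)
      rw [hK] at h120
      have hne' : Nat.card (commutator K) ≠ 120 := fun h => hne (eq_top_of_card_eq _ (h.trans hK.symm))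
      have key : ∀ n ∈ Nat.divisors 120, 60 ∣ n → n ≠ 120 → n = 60 := by decide
      exact key _ (Nat.mem_divisors.2 ⟨h120, by norm_num⟩) hd60 hne'
    have hns' : ¬ Group.IsSolvable (commutator K) := fun _ => hns (by
      haveI : Group.IsSolvable (K ⧸ commutator K) := Group.isSolvable_of_comm fun a b =>
        @mul_comm (Abelianization K) _ a b
      exact Group.isSolvable_of_ker_le_range (commutator K).subtype (QuotientGroup.mk' (commutator K))
        (by rw [QuotientGroup.ker_mk', Subgroup.range_subtype]))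
    haveI := isSimple_of_sixty h60 hns'
    obtain ⟨e'⟩ := CfsgLib.Recog.Sixty.iso_alt_five (G := commutator K) h60
    exact nosixty _ e'
  exact nonempty_sl25_of_pair hK hperf M hMc hM2 e

/-- The binary icosahedral presentation of `SL(2,5)`. -/
theorem nonempty_presentation_sl25 :
    Nonempty (PresentedGroup ({FreeGroup.of (0 : Fin 3) ^ 3, FreeGroup.of (1 : Fin 3) ^ 5, FreeGroup.of (2 : Fin 3) ^ 2,
        (FreeGroup.of (2 : Fin 3))⁻¹ * FreeGroup.of 0 * FreeGroup.of 2 * (FreeGroup.of (0 : Fin 3))⁻¹,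
        (FreeGroup.of (2 : Fin 3))⁻¹ * FreeGroup.of 1 * FreeGroup.of 2 * (FreeGroup.of (1 : Fin 3))⁻¹,
        (FreeGroup.of (0 : Fin 3) * FreeGroup.of 1) ^ 2 * (FreeGroup.of (2 : Fin 3))⁻¹} : Set (FreeGroup (Fin 3)))
      ≃* Matrix.SpecialLinearGroup (Fin 2) (ZMod 5)) := by
  set R : Set (FreeGroup (Fin 3)) := {FreeGroup.of 0 ^ 3, FreeGroup.of 1 ^ 5, FreeGroup.of 2 ^ 2,
        (FreeGroup.of 2)⁻¹ * FreeGroup.of 0 * FreeGroup.of 2 * (FreeGroup.of 0)⁻¹,
        (FreeGroup.of 2)⁻¹ * FreeGroup.of 1 * FreeGroup.of 2 * (FreeGroup.of 1)⁻¹,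
        (FreeGroup.of 0 * FreeGroup.of 1) ^ 2 * (FreeGroup.of 2)⁻¹} with hR
  obtain ⟨a, ha⟩ : ∃ a : PresentedGroup R, a = PresentedGroup.of 0 := ⟨_, rfl⟩
  obtain ⟨b, hb⟩ : ∃ b : PresentedGroup R, b = PresentedGroup.of 1 := ⟨_, rfl⟩
  obtain ⟨c, hc⟩ : ∃ c : PresentedGroup R, c = PresentedGroup.of 2 := ⟨_, rfl⟩
  have r1 : a ^ 3 = 1 := ha ▸ PresentedGroup.one_of_mem (x := FreeGroup.of 0 ^ 3) (Or.inl rfl)
  have r2 : b ^ 5 = 1 := hb ▸ PresentedGroup.one_of_mem (x := FreeGroup.of 1 ^ 5) (Or.inr (Or.inl rfl))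
  have r3 : c ^ 2 = 1 := hc ▸ PresentedGroup.one_of_mem (x := FreeGroup.of 2 ^ 2) (Or.inr (Or.inr (Or.inl rfl)))
  have r4 : c⁻¹ * a * c * a⁻¹ = 1 := by
    rw [ha, hc]
    exact PresentedGroup.one_of_mem (x := (FreeGroup.of 2)⁻¹ * FreeGroup.of 0 * FreeGroup.of 2 * (FreeGroup.of 0)⁻¹)
      (Or.inr (Or.inr (Or.inr (Or.inl rfl))))
  have r5 : c⁻¹ * b * c * b⁻¹ = 1 := by
    rw [hb, hc]
    exact PresentedGroup.one_of_mem (x := (FreeGroup.of 2)⁻¹ * FreeGroup.of 1 * FreeGroup.of 2 * (FreeGroup.of 1)⁻¹)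
      (Or.inr (Or.inr (Or.inr (Or.inr (Or.inl rfl)))))
  have r6 : (a * b) ^ 2 * c⁻¹ = 1 := by
    rw [ha, hb, hc]
    exact PresentedGroup.one_of_mem (x := (FreeGroup.of 0 * FreeGroup.of 1) ^ 2 * (FreeGroup.of 2)⁻¹)
      (Or.inr (Or.inr (Or.inr (Or.inr (Or.inr rfl)))))
  have hab : (a * b) ^ 2 = c := mul_inv_eq_one.1 r6
  have hca : Commute c a := by
    show c * a = a * c
    calc c * a = c * (c⁻¹ * a * c) := by rw [mul_inv_eq_one.1 r4]
      _ = a * c := by group
  have hcb : Commute c b := by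
    show c * b = b * c
    calc c * b = c * (c⁻¹ * b * c) := by rw [mul_inv_eq_one.1 r5]
      _ = b * c := by group
  have hgen : Subgroup.closure ({a, b} : Set (PresentedGroup R)) = ⊤ := by
    rw [eq_top_iff, ← PresentedGroup.closure_range_of, closure_le]
    have hA : a ∈ Subgroup.closure ({a, b} : Set (PresentedGroup R)) := subset_closure (Set.mem_insert _ _)
    have hB : b ∈ Subgroup.closure ({a, b} : Set (PresentedGroup R)) := subset_closure (Set.mem_insert_of_mem _ rfl)
    rintro _ ⟨j, rfl⟩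
    fin_cases j
    · exact ha ▸ hA
    · exact hb ▸ hB
    · show PresentedGroup.of 2 ∈ _
      rw [← hc, ← hab]
      exact pow_mem (mul_mem hA hB) 2
  haveI : Finite (PresentedGroup R) := by
    have hzc := center_of_gen hgen hca hcb
    haveI : (zpowers c).Normal := ⟨fun n hn g => by rw [mem_center_iff.1 (hzc hn) g, mul_inv_cancel_right]; exact hn⟩
    obtain ⟨f, hf⟩ := exists_hom_icosahedral (x := (a : PresentedGroup R ⧸ zpowers c)) (y := (b : PresentedGroup R ⧸ zpowers c))
      (by rw [← QuotientGroup.mk_pow, r1, QuotientGroup.mk_one]) (by rw [← QuotientGroup.mk_pow, r2, QuotientGroup.mk_one])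
      (by rw [← QuotientGroup.mk_mul, ← QuotientGroup.mk_pow, hab, QuotientGroup.eq_one_iff]; exact mem_zpowers c)
      (by
        have h := MonoidHom.map_closure (QuotientGroup.mk' (zpowers c)) {a, b}
        rw [hgen, map_top_of_surjective _ (QuotientGroup.mk'_surjective _), Set.image_pair] at h
        exact h.symm)
    haveI : Finite (PresentedGroup R ⧸ zpowers c) := Finite.of_surjective f hf
    haveI : Finite (zpowers c) := finite_zpowers.2 (isOfFinOrder_iff_pow_eq_one.2 ⟨2, by norm_num, r3⟩)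
    exact Finite.of_equiv _ (Subgroup.groupEquivQuotientProdSubgroup (s := zpowers c)).symm
  obtain ⟨X, Y, Z, hX, hY, hZ, hZ2, hZ1, hX1, hZX, hZY⟩ : ∃ X Y Z : SL(2, ZMod 5), X ^ 3 = 1 ∧ Y ^ 5 = 1 ∧
      (X * Y) ^ 2 = Z ∧ Z ^ 2 = 1 ∧ Z ≠ 1 ∧ X ≠ 1 ∧ Z * X = X * Z ∧ Z * Y = Y * Z :=
    ⟨genX, genY, -1, gen_facts⟩
  have hrel : ∀ r ∈ R, FreeGroup.lift ![X, Y, Z] r = 1 := by
    intro r hr
    rw [hR] at hr
    rcases hr with rfl | rfl | rfl | rfl | rfl | rfl
    · simp [hX]
    · simp [hY]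
    · simp [hZ2]
    · simp only [map_mul, map_inv, FreeGroup.lift_apply_of]
      show Z⁻¹ * X * Z * X⁻¹ = 1
      rw [mul_inv_eq_one, mul_assoc, ← hZX, inv_mul_cancel_left]
    · simp only [map_mul, map_inv, FreeGroup.lift_apply_of]
      show Z⁻¹ * Y * Z * Y⁻¹ = 1
      rw [mul_inv_eq_one, mul_assoc, ← hZY, inv_mul_cancel_left]
    · simp [hZ]
  have hc1 : c ≠ 1 := by
    intro h
    apply hZ1
    have h1 : PresentedGroup.toGroup hrel c = Z := by rw [hc, PresentedGroup.toGroup.of]; rfl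
    rw [← h1, h, map_one]
  have ha1 : a ≠ 1 := by
    intro h
    apply hX1
    have h1 : PresentedGroup.toGroup hrel a = X := by rw [ha, PresentedGroup.toGroup.of]; rfl
    rw [← h1, h, map_one]
  exact nonempty_mulEquiv r1 r2 hab r3 hc1 ha1 hca hcb hgen

end CfsgLib.Recog.Zassenhaus
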