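import Cfsg.Agent.Lib.Recog.Zassenhaus.Sylow
import Cfsg.Agent.Lib.Transfer.Fusion
import Cfsg.Agent.Lib.TwoGroups.Automizer
import Cfsg.Agent.Lib.Fusion.MaximalCyclic
import Cfsg.Agent.Lib.Components.CyclicSylowSimple

/-!
# Elements of order three in a perfect fixed point free group
-/

set_option autoImplicit false
set_option linter.all false

namespace CfsgLib.Recog.Zassenhaus

open Subgroup
open scoped commutatorElement

/-- A homomorphism from a perfect group to a soluble group is trivial. -/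
theorem hom_trivial_of_perfect {G H : Type*} [Group G] [Group H] [Group.IsSolvable H] (hperf : commutator G = ⊤)
    (f : G →* H) (g : G) : f g = 1 := by
  haveI : Group.IsSolvable f.range := inferInstance
  by_contra hg
  haveI : Nontrivial f.range := ⟨⟨⟨f g, ⟨g, rfl⟩⟩, 1, fun e => hg (congrArg Subtype.val e)⟩⟩
  have hlt := Group.IsSolvable.commutator_lt_top_of_nontrivial f.range
  refine hlt.ne ?_
  rw [eq_top_iff, ← map_top_of_surjective f.rangeRestrict f.rangeRestrict_surjective, ← hperf, _root_.commutator_def,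
    map_commutator, _root_.commutator_def]
  exact Subgroup.commutator_mono le_top le_top

theorem eq_one_of_odd_of_two_pow {M : Type*} [Monoid M] {b : M} {n k : ℕ} (hn : n.Coprime 2) (h : b ^ n = 1)
    (h2 : b ^ 2 ^ k = 1) : b = 1 := by
  rw [← orderOf_eq_one_iff]
  exact Nat.eq_one_of_dvd_coprimes (hn.pow_right k) (orderOf_dvd_of_pow_eq_one h) (orderOf_dvd_of_pow_eq_one h2)

/-- An element that fixes or inverts `a`, twice, fixes it. -/
theorem commutator_fix {G : Type*} [Group G] {a g h : G} (hg : g * a * g⁻¹ = a ∨ g * a * g⁻¹ = a⁻¹)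
    (hh : h * a * h⁻¹ = a ∨ h * a * h⁻¹ = a⁻¹) : ⁅g, h⁆ ∈ centralizer ({a} : Set G) := by
  rw [mem_centralizer_singleton_iff, commutatorElement_def]
  have key : ∀ u : G, (u * a * u⁻¹ = a → u⁻¹ * a * u = a) ∧ (u * a * u⁻¹ = a⁻¹ → u⁻¹ * a * u = a⁻¹) := by
    refine fun u => ⟨fun e => ?_, fun e => ?_⟩
    · conv_lhs => rw [← e]
      group
    · calc u⁻¹ * a * u = u⁻¹ * (u * a * u⁻¹)⁻¹ * u := by rw [e, inv_inv]
        _ = a⁻¹ := by group
  have inv : ∀ u : G, (u * a * u⁻¹ = a → u * a⁻¹ * u⁻¹ = a⁻¹) ∧ (u * a * u⁻¹ = a⁻¹ → u * a⁻¹ * u⁻¹ = a) := by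
    refine fun u => ⟨fun e => ?_, fun e => ?_⟩
    · conv_rhs => rw [← e]
      group
    · calc u * a⁻¹ * u⁻¹ = (u * a * u⁻¹)⁻¹ := by group
        _ = a := by rw [e, inv_inv]
  have : g * h * g⁻¹ * h⁻¹ * a * (g * h * g⁻¹ * h⁻¹)⁻¹ = a := by
    calc g * h * g⁻¹ * h⁻¹ * a * (g * h * g⁻¹ * h⁻¹)⁻¹ = g * (h * (g⁻¹ * (h⁻¹ * a * h) * g) * h⁻¹) * g⁻¹ := by group
      _ = a := by
          rcases hh with eh | eh <;> rcases hg with eg | eg
          · rw [(key h).1 eh, (key g).1 eg, eh, eg]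
          · rw [(key h).1 eh, (key g).2 eg, (inv h).1 eh, (inv g).2 eg]
          · rw [(key h).2 eh, show g⁻¹ * a⁻¹ * g = (g⁻¹ * a * g)⁻¹ by group, (key g).1 eg, (inv h).2 eh, eg]
          · rw [(key h).2 eh, show g⁻¹ * a⁻¹ * g = (g⁻¹ * a * g)⁻¹ by group, (key g).2 eg, inv_inv, eh,
              (inv g).2 eg]
  calc g * h * g⁻¹ * h⁻¹ * a = g * h * g⁻¹ * h⁻¹ * a * (g * h * g⁻¹ * h⁻¹)⁻¹ * (g * h * g⁻¹ * h⁻¹) := by group
    _ = a * (g * h * g⁻¹ * h⁻¹) := by rw [this]

theorem central_of_pm {G : Type*} [Group G] (hperf : commutator G = ⊤) {a : G}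
    (h : ∀ g : G, g * a * g⁻¹ = a ∨ g * a * g⁻¹ = a⁻¹) (g : G) : g * a = a * g := by
  have hle : commutator G ≤ centralizer ({a} : Set G) := by
    rw [_root_.commutator_def, commutator_le]
    exact fun x _ y _ => commutator_fix (h x) (h y)
  rw [hperf] at hle
  exact mem_centralizer_singleton_iff.1 (hle (mem_top g))

namespace Rep

variable {G L V : Type*} [Group G] [Field L] [AddCommGroup V] [Module L V] (P : Rep G L V)
variable [Finite G] [IsAlgClosed L] [FiniteDimensional L V] [Nontrivial V] [Nontrivial G]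

include P in
theorem two_dvd_of_perfect (hperf : commutator G = ⊤) : 2 ∣ Nat.card G := by
  by_contra h
  haveI := P.isSolvable_of_odd h
  exact (Group.IsSolvable.commutator_lt_top_of_nontrivial G).ne hperf

include P in
theorem two_ne_zero_of_perfect (hperf : commutator G = ⊤) (p : ℕ) [Fact p.Prime] [CharP L p] : (2 : L) ≠ 0 := by
  intro h
  have hd : p ∣ 2 := (CharP.cast_eq_zero_iff L p 2).1 (by exact_mod_cast h)
  exact P.not_dvd_card (p := p) (hd.trans (P.two_dvd_of_perfect hperf))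

include P in
theorem exists_cube (hperf : commutator G = ⊤) : ∃ a : G, Cube a := by
  haveI : Fact (Nat.Prime 2) := ⟨Nat.prime_two⟩
  obtain ⟨S⟩ : Nonempty (Sylow 2 G) := inferInstance
  have hno : ¬ Cfsg.HasNormalPComplement 2 G := by
    rintro ⟨T, N, hN, hc⟩
    haveI := hN
    have hcard : Nat.card (G ⧸ N) = Nat.card (T : Subgroup G) := by
      rw [← Subgroup.index_eq_card, hc.symm.index_eq_card]
    obtain ⟨k, hk⟩ := IsPGroup.iff_card.1 T.2
    haveI : Group.IsNilpotent (G ⧸ N) := (IsPGroup.of_card (p := 2) (n := k) (hcard.trans hk)).isNilpotent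
    have htop : N = ⊤ := eq_top_iff.2 fun g _ =>
      (QuotientGroup.eq_one_iff g).1 (hom_trivial_of_perfect hperf (QuotientGroup.mk' N) g)
    have := T.ne_bot_of_dvd_card (P.two_dvd_of_perfect hperf)
    exact this (by rw [← inf_top_eq (T : Subgroup G), inf_comm, ← htop, hc.disjoint.eq_bot])
  rw [CfsgLib.Transfer.hasNormalPComplement_iff_centralizes S] at hno
  push Not at hno
  obtain ⟨X, hXS, g, hg, hcop, hgC⟩ := hno
  by_cases h3 : 3 ∣ orderOf g
  · refine ⟨g ^ (orderOf g / 3), ?_, fun e => ?_⟩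
    · rw [← pow_mul, Nat.div_mul_cancel h3, pow_orderOf_eq_one]
    · have := orderOf_dvd_of_pow_eq_one e
      have := Nat.le_of_dvd (Nat.div_pos (Nat.le_of_dvd (orderOf_pos g) h3) (by norm_num)) this
      have := Nat.div_lt_self (orderOf_pos g) (show 1 < 3 by norm_num)
      omega
  exfalso
  apply hgC
  set φ := X.normalizerMonoidHom with hφ
  have hmem : φ ⟨g, hg⟩ = 1 → g ∈ centralizer (X : Set G) := fun h => by
    have h' : (⟨g, hg⟩ : normalizer (X : Set G)) ∈ φ.ker := h
    rw [hφ, normalizerMonoidHom_ker] at h'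
    exact h'
  apply hmem
  have hord : φ ⟨g, hg⟩ ^ orderOf g = 1 := by
    rw [← map_pow, show (⟨g, hg⟩ : normalizer (X : Set G)) ^ orderOf g = 1 from
      Subtype.ext (by rw [Subgroup.coe_pow, pow_orderOf_eq_one]; rfl), map_one]
  have hXp : IsPGroup 2 X := S.2.to_le hXS
  have hcyc : IsCyclic X → φ ⟨g, hg⟩ = 1 := fun hX => by
    obtain ⟨n, hn⟩ := IsPGroup.iff_card.1 hXp
    refine eq_one_of_odd_of_two_pow (k := n - 1) hcop hord ?_
    rcases Nat.eq_zero_or_pos n with rfl | hn0
    · haveI : Subsingleton X := (Nat.card_eq_one_iff_unique.1 (by simpa using hn)).1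
      ext x; exact congrArg Subtype.val (Subsingleton.elim _ _)
    · have h := pow_card_eq_one' (x := φ ⟨g, hg⟩)
      rwa [IsCyclic.card_mulAut, hn, Nat.totient_prime_pow Nat.prime_two hn0, show 2 - 1 = 1 from rfl, mul_one] at h
  rcases P.pGroup_cases X hXp with h | ⟨-, n, ⟨e⟩⟩
  · exact hcyc h
  rcases n with - | - | n
  · haveI := QuaternionGroup.quaternionGroup_one_isCyclic
    exact hcyc (isCyclic_of_surjective e.symm.toMonoidHom e.symm.surjective)
  · -- `Q₈`
    have h6 : g ^ 6 ∈ X ⊔ centralizer (X : Set G) := by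
      have hd := CfsgLib.TwoGroups.quat_relIndex_dvd_six (Q := X) e
      haveI : ((X ⊔ centralizer (X : Set G)).subgroupOf (normalizer (X : Set G))).Normal := by
        rw [← CfsgLib.TwoGroups.threeKer_quat (Q := X) e]; exact MonoidHom.normal_ker _
      obtain ⟨t, ht⟩ := hd
      have h := Subgroup.pow_index_mem ((X ⊔ centralizer (X : Set G)).subgroupOf (normalizer (X : Set G))) ⟨g, hg⟩
      have := pow_mem h t
      rw [← pow_mul, ← Subgroup.relIndex, ← ht, mem_subgroupOf, Subgroup.coe_pow] at this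
      exact this
    have hco : Nat.Coprime (orderOf g) 6 := by
      rw [show 6 = 2 * 3 by norm_num]
      exact Nat.Coprime.mul_right hcop ((Nat.prime_three.coprime_iff_not_dvd.2 h3).symm)
    have hgm : g ∈ X ⊔ centralizer (X : Set G) := by
      obtain ⟨j, hj⟩ := exists_pow_eq_self_of_coprime hco.symm
      exact hj ▸ pow_mem h6 j
    have hN : (⟨g, hg⟩ : normalizer (X : Set G)) ∈ (X ⊔ centralizer (X : Set G)).subgroupOf (normalizer (X : Set G)) :=
      hgm
    rw [subgroupOf_sup X.le_normalizer (centralizer_le_normalizer _), ← normalizerMonoidHom_ker, mem_sup_of_normal_right] at hN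
    obtain ⟨u, hu, w, hw, huw⟩ := hN
    refine eq_one_of_odd_of_two_pow (k := 2) hcop hord ?_
    rw [← huw, map_mul, show φ w = 1 from hw, mul_one, ← map_pow]
    have h4 : ∀ v : QuaternionGroup (2 ^ 1), v ^ 4 = 1 := by decide
    have hu4 : u ^ 2 ^ 2 = 1 := by
      have := congrArg e.symm (h4 (e ⟨u, mem_subgroupOf.1 hu⟩))
      rw [map_pow, map_one, e.symm_apply_apply] at this
      apply Subtype.ext
      have := congrArg Subtype.val this
      simpa using this
    rw [hu4, map_one]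
  · obtain ⟨k, hk⟩ := CfsgLib.Fusion.transfer_aut e (CfsgLib.Fusion.quaternion_aut (M := n + 2) (by omega)) (φ ⟨g, hg⟩)
    exact eq_one_of_odd_of_two_pow hcop hord hk

include P in
theorem exists_cube_pair (hperf : commutator G = ⊤) : ∃ a b : G, Cube a ∧ Cube b ∧ b ≠ a ∧ b ≠ a⁻¹ := by
  obtain ⟨a, ha⟩ := P.exists_cube hperf
  by_contra hne
  push Not at hne
  have hall : ∀ b, Cube b → b = a ∨ b = a⁻¹ := fun b hb => by
    by_cases hb' : b = a
    · exact Or.inl hb'
    · exact Or.inr (hne a b ha hb hb')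
  have hc := central_of_pm hperf (a := a) fun g => hall _ (ha.conj g)
  haveI : Fact (Nat.Prime 3) := ⟨Nat.prime_three⟩
  obtain ⟨S⟩ : Nonempty (Sylow 3 G) := inferInstance
  haveI : IsCyclic (S : Subgroup G) := by
    rcases P.pGroup_cases (S : Subgroup G) S.2 with h | ⟨h, -⟩
    · exact h
    · norm_num at h
  have hdvd : 3 ∣ Nat.card G := orderOf_eq_prime ha.1 ha.2 ▸ orderOf_dvd_natCard a
  obtain ⟨n, -, w, -, hw, hnw⟩ := CfsgLib.Components.exists_moving hperf hdvd S
  have hwc : Cube w := ⟨by rw [← hw, pow_orderOf_eq_one], fun e => by rw [e, orderOf_one] at hw; norm_num at hw⟩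
  apply hnw
  rcases hall w hwc with rfl | rfl
  · exact hc n
  · exact Commute.inv_right (hc n)

end Rep

end CfsgLib.Recog.Zassenhaus
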