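import Cfsg.Agent.S3377
import Cfsg.Agent.Lib.Classical.SL2Sylow

/-!
# Recognition of `SL(2,5)` as the binary icosahedral group

* `nonempty_mulEquiv`: a finite group generated by `x`, `y` with `x³ = y⁵ = 1` such that `(xy)²` is a
  central involution is `SL(2,5)`.
-/

set_option autoImplicit false
set_option linter.all false

namespace CfsgLib.Recog.Zassenhaus

open Subgroup

theorem exists_hom_icosahedral {H : Type*} [Group H] {x y : H} (hx : x ^ 3 = 1) (hy : y ^ 5 = 1)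
    (hxy : (x * y) ^ 2 = 1) (hgen : closure ({x, y} : Set H) = ⊤) :
    ∃ f : alternatingGroup (Fin 5) →* H, Function.Surjective f := by
  obtain ⟨e⟩ := Cfsg.Agent.S3377.result
  let F : PresentedGroup ({FreeGroup.of (0 : Fin 2) ^ 3, FreeGroup.of (1 : Fin 2) ^ 5,
      (FreeGroup.of (0 : Fin 2) * FreeGroup.of 1) ^ 2} : Set (FreeGroup (Fin 2))) →* H := PresentedGroup.toGroup (f := ![x, y]) (by
    intro r hr
    rcases hr with rfl | rfl | rfl <;> simp [hx, hy, hxy])
  refine ⟨F.comp e.symm.toMonoidHom, ?_⟩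
  rw [MonoidHom.coe_comp]
  refine Function.Surjective.comp ?_ e.symm.surjective
  rw [← MonoidHom.range_eq_top, eq_top_iff, ← hgen, closure_le]
  rintro h (rfl | rfl)
  · exact ⟨PresentedGroup.of 0, by simp [F]⟩
  · exact ⟨PresentedGroup.of 1, by simp [F]⟩

theorem card_alt_five : Nat.card (alternatingGroup (Fin 5)) = 60 := by
  rw [Nat.card_eq_fintype_card]; decide

/-- Structure modulo the central involution. -/
theorem quotient_cases {K : Type*} [Group K] [Finite K] {x y z : K} (hx : x ^ 3 = 1) (hy : y ^ 5 = 1)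
    (hz : (x * y) ^ 2 = z) (hzc : zpowers z ≤ center K) (hgen : closure ({x, y} : Set K) = ⊤) :
    haveI : (zpowers z).Normal := ⟨fun n hn g => by rw [mem_center_iff.1 (hzc hn) g, mul_inv_cancel_right]; exact hn⟩
    ∃ f : alternatingGroup (Fin 5) →* K ⧸ zpowers z, Function.Surjective f := by
  haveI : (zpowers z).Normal := ⟨fun n hn g => by rw [mem_center_iff.1 (hzc hn) g, mul_inv_cancel_right]; exact hn⟩
  refine exists_hom_icosahedral (x := (x : K ⧸ zpowers z)) (y := (y : K ⧸ zpowers z)) ?_ ?_ ?_ ?_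
  · rw [← QuotientGroup.mk_pow, hx, QuotientGroup.mk_one]
  · rw [← QuotientGroup.mk_pow, hy, QuotientGroup.mk_one]
  · rw [← QuotientGroup.mk_mul, ← QuotientGroup.mk_pow, hz, QuotientGroup.eq_one_iff]
    exact mem_zpowers z
  · have h := MonoidHom.map_closure (QuotientGroup.mk' (zpowers z)) {x, y}
    rw [hgen, map_top_of_surjective _ (QuotientGroup.mk'_surjective _), Set.image_pair] at h
    exact h.symm

theorem center_of_gen {K : Type*} [Group K] {x y z : K} (hgen : closure ({x, y} : Set K) = ⊤)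
    (h1 : Commute z x) (h2 : Commute z y) : zpowers z ≤ center K := by
  rw [zpowers_le, ← centralizer_univ, ← coe_top, ← hgen, centralizer_closure, mem_centralizer_iff]
  rintro g (rfl | rfl)
  exacts [h1.eq.symm, h2.eq.symm]

/-- The order of a binary icosahedral group. -/
theorem card_eq {K : Type*} [Group K] [Finite K] {x y z : K} (hx : x ^ 3 = 1) (hy : y ^ 5 = 1)
    (hz : (x * y) ^ 2 = z) (hz2 : z ^ 2 = 1) (hz1 : z ≠ 1) (hx1 : x ≠ 1) (h1 : Commute z x) (h2 : Commute z y)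
    (hgen : closure ({x, y} : Set K) = ⊤) : Nat.card K = 120 := by
  have hzc := center_of_gen hgen h1 h2
  haveI : (zpowers z).Normal := ⟨fun n hn g => by rw [mem_center_iff.1 (hzc hn) g, mul_inv_cancel_right]; exact hn⟩
  obtain ⟨f, hf⟩ := quotient_cases hx hy hz hzc hgen
  have hzo : orderOf z = 2 := orderOf_eq_prime hz2 hz1
  haveI : IsSimpleGroup (alternatingGroup (Fin 5)) := alternatingGroup.isSimpleGroup_five
  rcases (MonoidHom.normal_ker f).eq_bot_or_eq_top with h | h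
  · rw [card_eq_card_quotient_mul_card_subgroup (zpowers z), Nat.card_zpowers, hzo,
      ← Nat.card_eq_of_bijective f ⟨(MonoidHom.ker_eq_bot_iff f).1 h, hf⟩, card_alt_five]
  · exfalso
    have hx' : (x : K ⧸ zpowers z) = 1 := by
      obtain ⟨t, ht⟩ := hf (x : K ⧸ zpowers z)
      rw [← ht]
      exact MonoidHom.mem_ker.1 (h ▸ mem_top t)
    rw [QuotientGroup.eq_one_iff] at hx'
    have h4 : x ^ 2 = 1 := orderOf_dvd_iff_pow_eq_one.1 (hzo ▸ orderOf_dvd_of_mem_zpowers hx')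
    exact hx1 (by rw [← hx, pow_succ, h4, one_mul])

/-- The subgroup generated by an icosahedral pair has order 120. -/
theorem card_closure {H : Type*} [Group H] [Finite H] {x y z : H} (hx : x ^ 3 = 1) (hy : y ^ 5 = 1)
    (hz : (x * y) ^ 2 = z) (hz2 : z ^ 2 = 1) (hz1 : z ≠ 1) (hx1 : x ≠ 1) (h1 : Commute z x) (h2 : Commute z y) :
    Nat.card (closure ({x, y} : Set H)) = 120 := by
  have hxS : x ∈ closure ({x, y} : Set H) := subset_closure (Set.mem_insert _ _)
  have hyS : y ∈ closure ({x, y} : Set H) := subset_closure (Set.mem_insert_of_mem _ rfl)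
  have hzS : z ∈ closure ({x, y} : Set H) := hz ▸ pow_mem (mul_mem hxS hyS) 2
  refine card_eq (x := ⟨x, hxS⟩) (y := ⟨y, hyS⟩) (z := ⟨z, hzS⟩) (Subtype.ext hx) (Subtype.ext hy)
    (Subtype.ext hz) (Subtype.ext hz2) (fun h => hz1 (congrArg Subtype.val h))
    (fun h => hx1 (congrArg Subtype.val h)) (Subtype.ext h1.eq) (Subtype.ext h2.eq) ?_
  apply map_injective (closure ({x, y} : Set H)).subtype_injective
  rw [MonoidHom.map_closure, ← MonoidHom.range_eq_map, range_subtype, Set.image_pair]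
  rfl

open scoped MatrixGroups

/-- The generator of order three of `SL(2,5)`. -/
def genX : SL(2, ZMod 5) := ⟨!![0, -1; 1, -1], by decide +kernel⟩

/-- The generator of order five of `SL(2,5)`. -/
def genY : SL(2, ZMod 5) := ⟨!![1, 1; 0, 1], by decide +kernel⟩

theorem gen_facts : genX ^ 3 = 1 ∧ genY ^ 5 = 1 ∧ (genX * genY) ^ 2 = -1 ∧ (-1 : SL(2, ZMod 5)) ^ 2 = 1 ∧
    (-1 : SL(2, ZMod 5)) ≠ 1 ∧ genX ≠ 1 ∧ -1 * genX = genX * -1 ∧ -1 * genY = genY * -1 := by
  decide +kernel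

attribute [local irreducible] genX genY

/-- A finite group generated by `x`, `y` with `x³ = y⁵ = 1` and `(xy)²` a central involution is `SL(2,5)`. -/
theorem nonempty_mulEquiv {K : Type*} [Group K] [Finite K] {x y z : K} (hx : x ^ 3 = 1) (hy : y ^ 5 = 1)
    (hz : (x * y) ^ 2 = z) (hz2 : z ^ 2 = 1) (hz1 : z ≠ 1) (hx1 : x ≠ 1) (h1 : Commute z x) (h2 : Commute z y)
    (hgen : closure ({x, y} : Set K) = ⊤) : Nonempty (K ≃* Matrix.SpecialLinearGroup (Fin 2) (ZMod 5)) := by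
  haveI : Fact (Nat.Prime 5) := ⟨by norm_num⟩
  obtain ⟨X, Y, Z, hX, hY, hZ, hZ2, hZ1, hX1, hZX, hZY⟩ : ∃ X Y Z : SL(2, ZMod 5), X ^ 3 = 1 ∧ Y ^ 5 = 1 ∧
      (X * Y) ^ 2 = Z ∧ Z ^ 2 = 1 ∧ Z ≠ 1 ∧ X ≠ 1 ∧ Z * X = X * Z ∧ Z * Y = Y * Z :=
    ⟨genX, genY, -1, gen_facts⟩
  -- the fibre product
  let P : Subgroup (K × SL(2, ZMod 5)) := closure {(x, X), (y, Y)}
  let p : P := ⟨(x, X), subset_closure (Set.mem_insert _ _)⟩
  let q : P := ⟨(y, Y), subset_closure (Set.mem_insert_of_mem _ rfl)⟩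
  have hgenP : closure ({p, q} : Set P) = ⊤ := by
    apply map_injective P.subtype_injective
    rw [MonoidHom.map_closure, ← MonoidHom.range_eq_map, range_subtype, Set.image_pair]
    rfl
  have e2 : ((x, X) * (y, Y)) ^ 2 = (z, Z) := by rw [Prod.mk_mul_mk, Prod.pow_mk, hz, hZ]
  obtain ⟨w, hw⟩ : ∃ w : P, (w : K × SL(2, ZMod 5)) = (z, Z) :=
    ⟨⟨(z, Z), e2 ▸ pow_mem (mul_mem p.2 q.2) 2⟩, rfl⟩
  have hpq : (p * q) ^ 2 = w := Subtype.ext (by rw [hw, Subgroup.coe_pow, Subgroup.coe_mul]; exact e2)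
  have hcardP : Nat.card P = 120 := by
    refine card_eq (x := p) (y := q) (z := w) ?_ ?_ hpq ?_ ?_ ?_ ?_ ?_ hgenP
    · exact Subtype.ext (by rw [Subgroup.coe_pow]; show (x, X) ^ 3 = 1; rw [Prod.pow_mk, hx, hX]; rfl)
    · exact Subtype.ext (by rw [Subgroup.coe_pow]; show (y, Y) ^ 5 = 1; rw [Prod.pow_mk, hy, hY]; rfl)
    · exact Subtype.ext (by rw [Subgroup.coe_pow, hw, Prod.pow_mk, hz2, hZ2]; rfl)
    · intro h
      rw [h, OneMemClass.coe_one] at hw
      exact hz1 (congrArg Prod.fst hw).symm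
    · intro h
      exact hx1 (congrArg (fun t : P => (t : K × SL(2, ZMod 5)).1) h)
    · exact Subtype.ext (by rw [Subgroup.coe_mul, Subgroup.coe_mul, hw]; show (z, Z) * (x, X) = (x, X) * (z, Z); rw [Prod.mk_mul_mk, Prod.mk_mul_mk, h1.eq, hZX])
    · exact Subtype.ext (by rw [Subgroup.coe_mul, Subgroup.coe_mul, hw]; show (z, Z) * (y, Y) = (y, Y) * (z, Z); rw [Prod.mk_mul_mk, Prod.mk_mul_mk, h2.eq, hZY])
  have hK := card_eq hx hy hz hz2 hz1 hx1 h1 h2 hgen
  have hcardSL : Nat.card SL(2, ZMod 5) = 120 := by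
    rw [CfsgLib.Classical.Two.card_SL_two, ZMod.card]; norm_num
  -- the second factor is generated by `X`, `Y`
  have hS : Subgroup.closure ({X, Y} : Set SL(2, ZMod 5)) = ⊤ := by
    refine eq_top_of_card_eq _ ?_
    rw [hcardSL]
    exact card_closure hX hY hZ hZ2 hZ1 hX1 hZX hZY
  let f1 : P →* K := (MonoidHom.fst _ _).comp P.subtype
  let f2 : P →* SL(2, ZMod 5) := (MonoidHom.snd _ _).comp P.subtype
  have hf1 : Function.Surjective f1 := by
    rw [← MonoidHom.range_eq_top, eq_top_iff, ← hgen, closure_le]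
    rintro h (rfl | rfl)
    exacts [⟨p, rfl⟩, ⟨q, rfl⟩]
  have hf2 : Function.Surjective f2 := by
    rw [← MonoidHom.range_eq_top, eq_top_iff, ← hS, closure_le]
    rintro h (rfl | rfl)
    exacts [⟨p, rfl⟩, ⟨q, rfl⟩]
  exact ⟨(MulEquiv.ofBijective f1 ((Nat.bijective_iff_surjective_and_card f1).2 ⟨hf1, by rw [hcardP, hK]⟩)).symm.trans
    (MulEquiv.ofBijective f2 ((Nat.bijective_iff_surjective_and_card f2).2 ⟨hf2, by rw [hcardP, hcardSL]⟩))⟩

end CfsgLib.Recog.Zassenhaus
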