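import Cfsg.Agent.Lib.Recog.Zassenhaus.Structure
import Cfsg.Agent.Lib.Recog.Zassenhaus.Cubes
import Cfsg.Agent.Lib.Recog.Zassenhaus.Icosahedral
import Cfsg.Agent.Lib.ClassSizes.AlternatingAut
import Cfsg.Agent.Lib.Classical.Dickson.MinimalSimple

/-!
# Zassenhaus: a perfect fixed point free group is `SL(2,5)`
-/

set_option autoImplicit false
set_option linter.all false
set_option maxHeartbeats 1000000

namespace CfsgLib.Recog.Zassenhaus

open Subgroup

/-- A permutation group of at most four points is soluble. -/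
theorem isSolvable_perm_of_le_four {α : Type*} [Finite α] (h : Nat.card α ≤ 4) : Group.IsSolvable (Equiv.Perm α) := by
  haveI := Fintype.ofFinite α
  haveI := CfsgLib.Classical.Dickson.isSolvable_perm_four
  obtain ⟨ι⟩ : Nonempty (α ↪ Fin 4) := Function.Embedding.nonempty_of_card_le (by
    rw [Fintype.card_fin, ← Nat.card_eq_fintype_card]; exact h)
  exact Group.isSolvable_of_isSolvable_injective (Equiv.Perm.viaEmbeddingHom_injective ι)

/-- The sign of the conjugation action on a normal `A₅`: on its kernel conjugation is inner. -/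
theorem exists_sign_of_alt_five {H : Type*} [Group H] (N : Subgroup H) [N.Normal]
    (e : N ≃* alternatingGroup (Fin 5)) :
    ∃ σ : H →* ℤˣ, ∀ h : H, σ h = 1 → ∃ n ∈ N, h * n⁻¹ ∈ centralizer (N : Set H) := by
  let β : Equiv.Perm (Fin 5) ≃* MulAut (alternatingGroup (Fin 5)) :=
    MulEquiv.ofBijective MulAut.conjNormal
      (CfsgLib.ClassSizes.AlternatingAut.conjNormal_bijective (by decide) (by decide))
  let f : H →* Equiv.Perm (Fin 5) :=
    β.symm.toMonoidHom.comp ((MulAut.congr e).toMonoidHom.comp MulAut.conjNormal)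
  refine ⟨Equiv.Perm.sign.comp f, fun h hσ => ?_⟩
  have hs : f h ∈ alternatingGroup (Fin 5) := by
    rw [Equiv.Perm.mem_alternatingGroup]
    exact hσ
  refine ⟨(e.symm ⟨f h, hs⟩ : H), (e.symm ⟨f h, hs⟩).2, ?_⟩
  set n := e.symm ⟨f h, hs⟩ with hn
  have hf : f (n : H) = f h := by
    apply β.injective
    show β (β.symm _) = _
    rw [MulEquiv.apply_symm_apply]
    refine MulEquiv.ext fun x => ?_
    apply Subtype.ext
    show ((e (MulAut.conjNormal (n : H) (e.symm x)) : alternatingGroup (Fin 5)) : Equiv.Perm (Fin 5)) = _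
    rw [show MulAut.conjNormal (n : H) (e.symm x) = n * e.symm x * n⁻¹ from Subtype.ext rfl, map_mul, map_mul,
      map_inv]
    simp only [hn, e.apply_symm_apply]
    rfl
  have h1 : f (h * (n : H)⁻¹) = 1 := by rw [map_mul, map_inv, hf, mul_inv_cancel]
  have h2 : MulAut.conjNormal (H := N) (h * (n : H)⁻¹) = 1 := by
    apply (MulAut.congr e).injective
    apply β.symm.injective
    rw [map_one, map_one]
    exact h1
  rw [mem_centralizer_iff]
  intro x hx
  have h3 := congrArg Subtype.val (DFunLike.congr_fun h2 ⟨x, hx⟩)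
  rw [MulAut.conjNormal_apply, MulAut.one_apply] at h3
  exact (mul_inv_eq_iff_eq_mul.1 h3).symm

/-- Conjugation in a perfect group on a normal `A₅` is inner. -/
theorem exists_inner_of_alt_five {H : Type*} [Group H] (hperf : commutator H = ⊤) (N : Subgroup H) [N.Normal]
    (e : N ≃* alternatingGroup (Fin 5)) (h : H) : ∃ n ∈ N, h * n⁻¹ ∈ centralizer (N : Set H) := by
  obtain ⟨σ, hσ⟩ := exists_sign_of_alt_five N e
  exact hσ h (hom_trivial_of_perfect hperf σ h)

namespace Rep

variable {G L V : Type*} [Group G] [Field L] [AddCommGroup V] [Module L V] {P : Rep G L V}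
variable [Finite G] [IsAlgClosed L] [FiniteDimensional L V] [Nontrivial V]

namespace Tetra

variable {T : Tetra P}

theorem ne_of_commute_a (h2 : (2 : L) ≠ 0) : ¬ T.gi * T.a = T.a * T.gi := by
  intro h
  have hh := T.coef_a.conj_gi
  rw [show T.gi * T.a * T.gi⁻¹ = T.a by rw [h, mul_inv_cancel_right]] at hh
  obtain ⟨-, -, e, -⟩ := T.F.quat_inj h2 hh.1 hh.2.1 hh.2.2.1 hh.2.2.2.1 Frame.Cen.zero Frame.Cen.one
    Frame.Cen.one Frame.Cen.one (hh.2.2.2.2.symm.trans T.hα)
  have e2 : ((2 : ℕ) : Module.End L V) * 1 = 0 := by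
    rw [mul_one, show ((2 : ℕ) : Module.End L V) = 1 + 1 by norm_num]
    linear_combination (norm := abel) -e
  exact one_ne_zero (eq_zero_of_natMul (L := L) (n := 2) (by exact_mod_cast h2) e2)

theorem Std.not_commute (h2 : (2 : L) ≠ 0) {c : G} {A : Module.End L V} (h : T.Std c A) :
    ¬ T.gj * c = c * T.gj := by
  intro e
  obtain ⟨hc, hA, hx⟩ := h
  have hh := hx.conj_gj
  rw [show T.gj * c * T.gj⁻¹ = c by rw [e, mul_inv_cancel_right]] at hh
  obtain ⟨-, -, -, e3⟩ := T.F.quat_inj h2 hh.1 hh.2.1 hh.2.2.1 hh.2.2.2.1 hx.1 hx.2.1 hx.2.2.1 hx.2.2.2.1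
    (hh.2.2.2.2.symm.trans hx.2.2.2.2)
  have e1 : A = 1 := by
    have e2 : ((2 : ℕ) : Module.End L V) * (1 - A) = 0 := by
      rw [show ((2 : ℕ) : Module.End L V) = 1 + 1 by norm_num, add_mul, one_mul]
      linear_combination (norm := abel) -e3
    exact (sub_eq_zero.1 (eq_zero_of_natMul (L := L) (n := 2) (by exact_mod_cast h2) e2)).symm
  rw [e1, mul_one] at hA
  exact one_ne_zero (α := Module.End L V) (by linear_combination (norm := abel) -hA)

/-- The element of order five. -/
theorem Std.five (h2 : (2 : L) ≠ 0) {c : G} {A : Module.End L V} (h : T.Std c A) :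
    (T.gj * T.gj * c⁻¹ * T.gj) ^ 5 = 1 := by
  obtain ⟨hc, hA, h0, -, hA', hB, hg⟩ := h
  have o := Frame.Cen.one (F := T.F)
  have z := Frame.Cen.zero (F := T.F)
  have two : (2 : Module.End L V) = 1 + 1 := by norm_num
  set Y := P.ρ (T.gj * T.gj * c⁻¹ * T.gj) with hY
  have e1 : (2 : Module.End L V) * P.ρ c⁻¹ = T.F.quat (-1) 0 (-A) (-(1 - A)) := by
    have e : (2 : Module.End L V) * P.ρ c⁻¹ = P.gam c⁻¹ - T.F.quat 1 0 0 0 := by
      rw [T.F.quat_scalar, gam, add_sub_cancel_right]
    rw [e, P.gam_inv hc, hg, Frame.quat_neg, Frame.quat_sub]; simp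
  have e2 : (2 : Module.End L V) * Y = T.F.quat (-A) (-(1 - A)) 1 0 := by
    calc (2 : Module.End L V) * Y = -((2 * P.ρ c⁻¹) * T.F.J) := by
          rw [hY, map_mul, map_mul, map_mul, T.hJ, T.F.hJ, neg_one_mul, neg_mul, mul_neg, mul_assoc]
      _ = _ := by
          rw [e1, T.F.J_eq, T.F.quat_mul z z o z, Frame.quat_neg]
          congr 1 <;> simp
  have eA : ∀ y, A * (A * y) = A * y + y := fun y => by rw [← mul_assoc, hA, add_mul, one_mul]
  have hcA : Commute A Y := by
    have q : A * T.F.quat (-A) (-(1 - A)) 1 0 = T.F.quat (-A) (-(1 - A)) 1 0 * A := by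
      calc A * T.F.quat (-A) (-(1 - A)) 1 0 = T.F.quat A 0 0 0 * T.F.quat (-A) (-(1 - A)) 1 0 := by
            rw [T.F.quat_scalar]
        _ = T.F.quat (-A) (-(1 - A)) 1 0 * T.F.quat A 0 0 0 := by
            rw [T.F.quat_mul hA'.neg hB.neg o z, T.F.quat_mul hA' z z z]
            congr 1 <;> simp [mul_sub, sub_mul]
        _ = _ := by rw [T.F.quat_scalar]
    rw [← e2] at q
    show A * Y = Y * A
    refine eq_of_natMul (L := L) (n := 2) (by exact_mod_cast h2) ?_
    push_cast
    calc (2 : Module.End L V) * (A * Y) = A * (2 * Y) := by rw [two]; noncomm_ring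
      _ = _ := by rw [q, mul_assoc]
  have eq0 : Y * Y + A * Y + 1 = 0 := by
    refine eq_zero_of_natMul (L := L) (n := 4) (by rw [show ((4 : ℕ) : L) = 2 * 2 by norm_num]; exact mul_ne_zero h2 h2) ?_
    push_cast
    calc (4 : Module.End L V) * (Y * Y + A * Y + 1) = (2 * Y) * (2 * Y) + (A + A) * (2 * Y) + (1 + 1 + 1 + 1) := by
          rw [show (4 : Module.End L V) = 1 + 1 + 1 + 1 by norm_num, two]; noncomm_ring
      _ = 0 := by
          conv_lhs =>
            rw [e2, ← T.F.quat_scalar (A + A), ← T.F.quat_scalar (1 + 1 + 1 + 1 : Module.End L V)]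
          rw [T.F.quat_mul hA'.neg hB.neg o z, T.F.quat_mul hA'.neg hB.neg o z, Frame.quat_add, Frame.quat_add]
          refine Eq.trans ?_ (T.F.quat_scalar 0)
          congr 1 <;> (simp only [mul_sub, sub_mul, mul_neg, neg_mul, mul_one, one_mul, mul_zero, zero_mul, neg_neg,
            hA, eA, add_mul, mul_add, neg_zero, zero_add, add_zero]; abel)
  have y2 : Y * Y = -(A * Y) - 1 := by linear_combination (norm := abel) eq0
  have y3 : Y * (Y * Y) = A * Y + A := by
    rw [y2, mul_sub, mul_neg, ← mul_assoc, ← hcA.eq, mul_assoc, y2, mul_one]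
    simp only [mul_sub, mul_neg, neg_sub, neg_neg, eA, mul_one]
    abel
  have y5 : Y ^ 5 = 1 := by
    calc Y ^ 5 = (Y * Y) * (Y * (Y * Y)) := by noncomm_ring
      _ = -(A * (Y * (A * Y))) - A * (Y * A) - (A * Y) - A := by rw [y3, y2]; noncomm_ring
      _ = -(A * (A * (Y * Y))) - A * (A * Y) - (A * Y) - A := by
          rw [← mul_assoc Y A Y, ← hcA.eq, mul_assoc A Y Y]
      _ = 1 := by
          rw [y2]
          simp only [mul_sub, mul_neg, mul_add, eA, hA, mul_one]
          abel
  apply P.injective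
  rw [map_pow, map_one]
  exact y5

end Tetra

variable (P) [Nontrivial G]

include P in
/-- Zassenhaus: a perfect fixed point free group is `SL(2,5)`. -/
theorem perfect_iso (p : ℕ) [Fact p.Prime] [CharP L p] (hperf : commutator G = ⊤) :
    Nonempty (G ≃* Matrix.SpecialLinearGroup (Fin 2) (ZMod 5)) := by
  have h2 := P.two_ne_zero_of_perfect hperf p
  obtain ⟨a, b, ha, hb, hne, hne'⟩ := P.exists_cube_pair hperf
  obtain ⟨T, hTj⟩ := tetra_of_pair (P := P) h2 p ha hb hne hne'
  rcases T.cases h2 p with hax | ⟨c, A, hstd, hall⟩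
  · -- only four axes: impossible
    exfalso
    let act : G →* Equiv.Perm {H : Subgroup G // ∃ t, Cube t ∧ H = zpowers t} :=
      { toFun := fun g =>
          { toFun := fun H => ⟨H.1.map (MulAut.conj g).toMonoidHom, by
              obtain ⟨t, ht, e⟩ := H.2
              exact ⟨g * t * g⁻¹, ht.conj g, by rw [e, MonoidHom.map_zpowers]; rfl⟩⟩
            invFun := fun H => ⟨H.1.map (MulAut.conj g⁻¹).toMonoidHom, by
              obtain ⟨t, ht, e⟩ := H.2
              exact ⟨g⁻¹ * t * g⁻¹⁻¹, ht.conj g⁻¹, by rw [e, MonoidHom.map_zpowers]; rfl⟩⟩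
            left_inv := fun H => Subtype.ext (by
              show (H.1.map _).map _ = H.1
              rw [Subgroup.map_map]; convert Subgroup.map_id H.1 using 2; ext; simp [mul_assoc])
            right_inv := fun H => Subtype.ext (by
              show (H.1.map _).map _ = H.1
              rw [Subgroup.map_map]; convert Subgroup.map_id H.1 using 2; ext; simp [mul_assoc]) }
        map_one' := Equiv.ext fun H => Subtype.ext (by
          show H.1.map _ = H.1
          convert Subgroup.map_id H.1 using 2; ext; simp)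
        map_mul' := fun g g' => Equiv.ext fun H => Subtype.ext (by
          show H.1.map _ = (H.1.map _).map _
          rw [Subgroup.map_map]; congr 1; ext; simp [mul_assoc]) }
    have hcard : Nat.card {H : Subgroup G // ∃ t, Cube t ∧ H = zpowers t} ≤ 4 := by
      let k : Fin 4 → G := ![1, T.gi, T.gj, T.gi * T.gj]
      refine (Nat.card_le_card_of_surjective
        (fun i => (⟨zpowers (k i * T.a * (k i)⁻¹), _, T.ha.conj (k i), rfl⟩ :
          {H : Subgroup G // ∃ t, Cube t ∧ H = zpowers t})) ?_).trans (by simp)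
      rintro ⟨H, t, ht, rfl⟩
      obtain ⟨k', hk, hc⟩ := hax t ht
      obtain ⟨i, rfl⟩ : ∃ i, k i = k' := by
        rcases hk with rfl | rfl | rfl | rfl
        exacts [⟨0, rfl⟩, ⟨1, rfl⟩, ⟨2, rfl⟩, ⟨3, rfl⟩]
      refine ⟨i, Subtype.ext ?_⟩
      show zpowers _ = zpowers t
      rcases hc with rfl | rfl
      · rfl
      · rw [← zpowers_inv]; congr 1; group
    haveI := isSolvable_perm_of_le_four hcard
    refine T.ne_of_commute_a h2 (central_of_pm hperf (a := T.a) (fun g => ?_) T.gi)
    have h1 := congrArg (fun H => (H : {H : Subgroup G // ∃ t, Cube t ∧ H = zpowers t}).1)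
      (DFunLike.congr_fun (hom_trivial_of_perfect hperf act g) ⟨zpowers T.a, T.a, T.ha, rfl⟩)
    change (zpowers T.a).map (MulAut.conj g).toMonoidHom = zpowers T.a at h1
    have hmem : g * T.a * g⁻¹ ∈ zpowers T.a := h1 ▸ ⟨T.a, mem_zpowers _, rfl⟩
    obtain ⟨i, hi⟩ := hmem
    simp only at hi
    rw [← zpow_mod_orderOf, orderOf_eq_prime T.ha.1 T.ha.2] at hi
    push_cast at hi
    have h012 : i % 3 = 0 ∨ i % 3 = 1 ∨ i % 3 = 2 := by omega
    rcases h012 with e | e | e <;> rw [e] at hi
    · exact absurd (by rw [← hi, zpow_zero]) (T.ha.conj g).2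
    · exact Or.inl (by rw [← hi, zpow_one])
    · refine Or.inr (hi.symm.trans ?_)
      exact (inv_eq_of_mul_eq_one_right (by rw [← T.ha.1]; group)).symm
  · -- one icosahedral subgroup
    set M := closure ({c, T.gj} : Set G) with hM
    have hcM : c ∈ M := subset_closure (Set.mem_insert _ _)
    have hjM : T.gj ∈ M := subset_closure (Set.mem_insert_of_mem _ rfl)
    have hMn : M.Normal := by
      have e : M = closure {g : G | Cube g} := by
        refine le_antisymm ((closure_le _).2 ?_) ((closure_le _).2 hall)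
        rintro x (rfl | rfl)
        exacts [subset_closure hstd.1, hTj]
      rw [e]
      refine ⟨fun n hn g => ?_⟩
      induction hn using closure_induction with
      | mem x hx => exact subset_closure (hx.conj g)
      | one => simp
      | mul x y _ _ hx hy => rw [show g * (x * y) * g⁻¹ = (g * x * g⁻¹) * (g * y * g⁻¹) by group]; exact mul_mem hx hy
      | inv x _ hx => rw [show g * x⁻¹ * g⁻¹ = (g * x * g⁻¹)⁻¹ by group]; exact inv_mem hx
    obtain ⟨z, hz⟩ : ∃ z, z = T.gj * T.gj := ⟨_, rfl⟩
    have ρz : P.ρ z = -1 := by rw [hz, map_mul, T.hJ, T.F.hJ]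
    have hzC : ∀ g, Commute z g := fun g => P.injective (by rw [map_mul, map_mul, ρz]; simp)
    have hz2 : z ^ 2 = 1 := P.injective (by rw [map_pow, ρz, map_one]; simp)
    have hz1 : z ≠ 1 := fun e => by
      have h := ρz
      rw [e, map_one] at h
      exact one_ne_zero (eq_zero_of_natMul (L := L) (n := 2) (by exact_mod_cast h2)
        (x := (1 : Module.End L V)) (by rw [mul_one, show ((2 : ℕ) : Module.End L V) = 1 + 1 by norm_num]
                                        exact eq_neg_iff_add_eq_zero.1 h))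
    set y := z * c⁻¹ * T.gj with hy
    have hy5 : y ^ 5 = 1 := by rw [hy, hz]; exact hstd.five h2
    have hcy : c * y = z * T.gj := by
      rw [hy, ← mul_assoc, ← mul_assoc, ← (hzC c).eq, mul_inv_cancel_right]
    have hxy : (c * y) ^ 2 = z := by
      rw [hcy, (hzC T.gj).mul_pow, hz2, one_mul, pow_two, hz]
    have hyM : y ∈ M := mul_mem (mul_mem (hz ▸ mul_mem hjM hjM) (inv_mem hcM)) hjM
    have hgen : closure ({c, y} : Set G) = M := by
      refine le_antisymm ((closure_le _).2 ?_) ((closure_le _).2 ?_)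
      · rintro x (rfl | rfl)
        exacts [hcM, hyM]
      · have hc' : c ∈ closure ({c, y} : Set G) := subset_closure (Set.mem_insert _ _)
        have hy' : y ∈ closure ({c, y} : Set G) := subset_closure (Set.mem_insert_of_mem _ rfl)
        rintro x (rfl | rfl)
        · exact hc'
        · have e : T.gj = (c * y) ^ 2 * (c * y) := by
            rw [hxy, hcy, ← mul_assoc, ← pow_two, hz2, one_mul]
          rw [e]
          exact mul_mem (pow_mem (mul_mem hc' hy') 2) (mul_mem hc' hy')
    suffices htop : M = ⊤ by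
      exact nonempty_mulEquiv hstd.1.1 hy5 hxy hz2 hz1 hstd.1.2 (hzC c) (hzC y) (hgen.trans htop)
    -- conjugation is inner on `M`
    haveI := hMn
    haveI hZn : (zpowers z).Normal := ⟨fun n hn g => by
      obtain ⟨i, rfl⟩ := hn
      simp only
      rw [← ((hzC g).zpow_left i).eq, mul_inv_cancel_right]
      exact ⟨i, rfl⟩⟩
    set q := QuotientGroup.mk' (zpowers z) with hq
    set N := M.map q with hN
    haveI : N.Normal := hMn.map _ (QuotientGroup.mk'_surjective _)
    have hperfQ : commutator (G ⧸ zpowers z) = ⊤ := by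
      rw [_root_.commutator_def, ← map_top_of_surjective q (QuotientGroup.mk'_surjective _), ← map_commutator,
        ← _root_.commutator_def, hperf]
    obtain ⟨e⟩ : Nonempty (N ≃* alternatingGroup (Fin 5)) := by
      have hzq : q z = 1 := (QuotientGroup.eq_one_iff _).2 (mem_zpowers z)
      obtain ⟨f, hf⟩ := exists_hom_icosahedral (H := N) (x := ⟨q c, mem_map_of_mem q hcM⟩)
        (y := ⟨q y, mem_map_of_mem q hyM⟩) (Subtype.ext (by simp [← map_pow, hstd.1.1]))
        (Subtype.ext (by simp [← map_pow, hy5]))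
        (Subtype.ext (by simp [← map_mul, ← map_pow, hxy, hzq]))
        (by
          apply map_injective N.subtype_injective
          rw [MonoidHom.map_closure, ← MonoidHom.range_eq_map, range_subtype, Set.image_pair]
          refine Eq.trans ?_ (congrArg (Subgroup.map q) hgen)
          rw [MonoidHom.map_closure, Set.image_pair]
          rfl)
      haveI : IsSimpleGroup (alternatingGroup (Fin 5)) := alternatingGroup.isSimpleGroup_five
      rcases (MonoidHom.normal_ker f).eq_bot_or_eq_top with h | h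
      · exact ⟨(MulEquiv.ofBijective f ⟨(MonoidHom.ker_eq_bot_iff f).1 h, hf⟩).symm⟩
      · exfalso
        obtain ⟨t, ht⟩ := hf ⟨q c, mem_map_of_mem q hcM⟩
        rw [MonoidHom.mem_ker.1 (h ▸ mem_top t)] at ht
        have hcz : c ∈ zpowers z := (QuotientGroup.eq_one_iff _).1 (congrArg Subtype.val ht).symm
        have h4 : c ^ 2 = 1 := by
          obtain ⟨i, rfl⟩ := hcz
          simp only
          rw [← zpow_natCast, ← zpow_mul, mul_comm, zpow_mul, zpow_natCast, hz2, one_zpow]
        exact hstd.1.2 (by rw [← hstd.1.1, pow_succ, h4, one_mul])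
    have key : ∀ g : G, ∃ m ∈ M, g * m⁻¹ ∈ centralizer (M : Set G) := by
      intro g
      obtain ⟨n, hn, hc⟩ := exists_inner_of_alt_five hperfQ N e (q g)
      obtain ⟨m, hm, rfl⟩ := hn
      refine ⟨m, hm, ?_⟩
      rw [← map_inv, ← map_mul] at hc
      rw [← hgen, centralizer_closure, mem_centralizer_iff]
      have fix : ∀ x ∈ M, ∀ k : ℕ, Odd k → x ^ k = 1 → x * (g * m⁻¹) = g * m⁻¹ * x := by
        intro x hx k hk hxk
        set d := g * m⁻¹
        have h := mem_centralizer_iff.1 hc (q x) (mem_map_of_mem q hx)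
        rw [← map_mul, ← map_mul] at h
        have h' : (d * x)⁻¹ * (x * d) ∈ zpowers z := QuotientGroup.eq.1 h.symm
        obtain ⟨i, hi⟩ := h'
        simp only at hi
        have e : d⁻¹ * x * d = z ^ i * x := by
          rw [((hzC x).zpow_left i).eq, hi]; group
        have e' : (d⁻¹ * x * d) ^ k = 1 := by
          rw [show d⁻¹ * x * d = d⁻¹ * x * (d⁻¹)⁻¹ by rw [inv_inv], conj_pow, hxk, mul_one, mul_inv_cancel]
        rw [e, ((hzC x).zpow_left i).mul_pow, hxk, mul_one] at e'
        have hzi : z ^ i = 1 := by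
          rw [← orderOf_eq_one_iff]
          have d1 : orderOf (z ^ i) ∣ k := orderOf_dvd_of_pow_eq_one e'
          have d2 : orderOf (z ^ i) ∣ 2 := orderOf_dvd_of_pow_eq_one (by
            rw [← zpow_natCast, ← zpow_mul, mul_comm, zpow_mul, zpow_natCast, hz2, one_zpow])
          exact Nat.eq_one_of_dvd_coprimes (Nat.coprime_two_right.2 hk) d1 d2
        rw [hzi, one_mul] at e
        conv_rhs => rw [← e]
        group
      intro x hx
      rcases hx with hx | hx
      · rw [hx]; exact fix c hcM 3 (by decide) hstd.1.1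
      · rw [Set.mem_singleton_iff.1 hx]; exact fix y hyM 5 (by decide) hy5
    set C := centralizer (M : Set G) with hC
    haveI hCsol : Group.IsSolvable C := by
      refine (P.restrict C).isSolvable_of_no_four fun x hx => ?_
      have hcomm : ∀ m ∈ M, Commute m (x : G) := fun m hm => mem_centralizer_iff.1 x.2 m hm
      have hjx : T.gj ∈ zpowers (x : G) := P.mem_zpowers_of_commute (hcomm _ hjM).symm (by
        rw [Subgroup.orderOf_coe, hx, show 4 = 2 * 2 by norm_num, pow_mul, pow_two T.gj, ← hz, hz2])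
      obtain ⟨i, hi⟩ := hjx
      simp only at hi
      exact hstd.not_commute h2 (hi ▸ ((hcomm c hcM).zpow_right i).symm.eq)
    let f : C →* G ⧸ M := (QuotientGroup.mk' M).comp C.subtype
    have hf : Function.Surjective f := fun t => by
      obtain ⟨g, rfl⟩ := QuotientGroup.mk'_surjective M t
      obtain ⟨m, hm, hg⟩ := key g
      refine ⟨⟨g * m⁻¹, hg⟩, ?_⟩
      show QuotientGroup.mk' M (g * m⁻¹) = _
      rw [map_mul, map_inv, show QuotientGroup.mk' M m = 1 from (QuotientGroup.eq_one_iff m).2 hm, inv_one, mul_one]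
    haveI : Group.IsSolvable (G ⧸ M) := Group.isSolvable_of_surjective hf
    exact eq_top_iff.2 fun g _ =>
      (QuotientGroup.eq_one_iff g).1 (hom_trivial_of_perfect hperf (QuotientGroup.mk' M) g)

end Rep

end CfsgLib.Recog.Zassenhaus
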