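import Cfsg.Agent.Lib.Recog.Zassenhaus.Main

/-!
# Nonsoluble fixed point free groups

* `exists_normal_sl25`: they have a normal `SL(2,5)`.
* `nonsolvable_structure`: a subgroup of index at most two is `SL(2,5) × M` with `M` a `Z`-group of order prime
  to 30.
-/

set_option autoImplicit false
set_option linter.all false

namespace CfsgLib.Recog.Zassenhaus

open Subgroup

open scoped MatrixGroups

theorem gen_noncomm : genX * genY ≠ genY * genX := by decide +kernel

theorem sl25_card : Nat.card SL(2, ZMod 5) = 120 := by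
  haveI : Fact (Nat.Prime 5) := ⟨by norm_num⟩
  rw [CfsgLib.Classical.Two.card_SL_two, ZMod.card]; norm_num

theorem sl25_closure : Subgroup.closure ({genX, genY} : Set SL(2, ZMod 5)) = ⊤ := by
  haveI : Fact (Nat.Prime 5) := ⟨by norm_num⟩
  obtain ⟨h1, h2, h3, h4, h5, h6, h7, h8⟩ := gen_facts
  exact eq_top_of_card_eq _ ((card_closure h1 h2 h3 h4 h5 h6 h7 h8).trans sl25_card.symm)

theorem not_isSolvable_sl25 : ¬ Group.IsSolvable SL(2, ZMod 5) := by
  haveI : Fact (Nat.Prime 5) := ⟨by norm_num⟩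
  intro h
  obtain ⟨h1, h2, h3, h4, h5, h6, h7, h8⟩ := gen_facts
  have hzc := center_of_gen sl25_closure h7 h8
  haveI : (zpowers (-1 : SL(2, ZMod 5))).Normal :=
    ⟨fun n hn g => by rw [mem_center_iff.1 (hzc hn) g, mul_inv_cancel_right]; exact hn⟩
  obtain ⟨f, hf⟩ := quotient_cases h1 h2 h3 hzc sl25_closure
  haveI : IsSimpleGroup (alternatingGroup (Fin 5)) := alternatingGroup.isSimpleGroup_five
  rcases (MonoidHom.normal_ker f).eq_bot_or_eq_top with hb | ht
  · haveI : Group.IsSolvable (SL(2, ZMod 5) ⧸ zpowers (-1 : SL(2, ZMod 5))) :=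
      Group.isSolvable_of_surjective (QuotientGroup.mk'_surjective _)
    haveI : Group.IsSolvable (alternatingGroup (Fin 5)) :=
      Group.isSolvable_of_isSolvable_injective ((MonoidHom.ker_eq_bot_iff f).1 hb)
    refine (Group.IsSolvable.commutator_lt_top_of_nontrivial (alternatingGroup (Fin 5))).ne ?_
    rcases (inferInstance : (commutator (alternatingGroup (Fin 5))).Normal).eq_bot_or_eq_top with h | h
    · exfalso
      have hne : ∃ a b : alternatingGroup (Fin 5), a * b ≠ b * a := by decide +kernel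
      obtain ⟨a, b, hab⟩ := hne
      refine hab (commutatorElement_eq_one_iff_mul_comm.1 (mem_bot.1 (h ▸ ?_)))
      rw [_root_.commutator_def]
      exact commutator_mem_commutator (mem_top a) (mem_top b)
    · exact h
  · obtain ⟨t, ht'⟩ := hf (genX : SL(2, ZMod 5) ⧸ zpowers (-1 : SL(2, ZMod 5)))
    rw [MonoidHom.mem_ker.1 (ht ▸ mem_top t)] at ht'
    have hx := (QuotientGroup.eq_one_iff genX).1 ht'.symm
    have hx2 : genX ^ 2 = 1 := by
      exact orderOf_dvd_iff_pow_eq_one.1 ((orderOf_dvd_of_mem_zpowers hx).trans (dvd_of_eq (orderOf_eq_prime h4 h5)))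
    exact h6 (by rw [← h1, pow_succ, hx2, one_mul])

/-- The perfect radical of a nonsoluble group. -/
theorem exists_perfect_normal {G : Type*} [Group G] [Finite G] (h : ¬ Group.IsSolvable G) :
    ∃ S : Subgroup G, S.Normal ∧ S.Characteristic ∧ S ≠ ⊥ ∧ commutator S = ⊤ := by
  obtain ⟨D, ⟨n, rfl⟩, hmin⟩ :=
    (Set.toFinite (Set.range (derivedSeries G))).exists_minimal (Set.range_nonempty _)
  refine ⟨derivedSeries G n, inferInstance, inferInstance, fun hb => h ⟨⟨n, hb⟩⟩, ?_⟩
  have he : derivedSeries G (n + 1) = derivedSeries G n :=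
    le_antisymm (derivedSeries_antitone G (Nat.le_succ n)) (hmin ⟨_, rfl⟩ (derivedSeries_antitone G (Nat.le_succ n)))
  apply map_injective (derivedSeries G n).subtype_injective
  rw [map_subtype_commutator, ← derivedSeries_succ, he, ← MonoidHom.range_eq_map, range_subtype]

namespace Rep

variable {G L V : Type*} [Group G] [Field L] [AddCommGroup V] [Module L V] (P : Rep G L V)
variable [Finite G] [IsAlgClosed L] [FiniteDimensional L V] [Nontrivial V]

include P in
theorem exists_normal_sl25 (p : ℕ) [Fact p.Prime] [CharP L p] (h : ¬ Group.IsSolvable G) :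
    ∃ S : Subgroup G, S.Normal ∧ S.Characteristic ∧ Nonempty (S ≃* SL(2, ZMod 5)) := by
  obtain ⟨S, hS, hSc, hne, hp⟩ := exists_perfect_normal h
  haveI : Nontrivial S := (nontrivial_iff_ne_bot S).2 hne
  exact ⟨S, hS, hSc, (P.restrict S).perfect_iso p hp⟩

include P in
theorem invol_eq (p : ℕ) [Fact p.Prime] [CharP L p] {g h : G} (hg : g ≠ 1) (hg2 : g ^ 2 = 1) (hh : h ≠ 1)
    (hh2 : h ^ 2 = 1) : g = h :=
  P.injective ((P.invol hg hg2).trans (P.invol hh hh2).symm)

include P in
theorem invol_central {g : G} (hg : g ≠ 1) (hg2 : g ^ 2 = 1) (h : G) : Commute g h :=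
  P.injective (by rw [map_mul, map_mul, P.invol hg hg2]; simp)

include P in
/-- The structure of a nonsoluble fixed point free group. -/
theorem nonsolvable_structure (p : ℕ) [Fact p.Prime] [CharP L p] (h : ¬ Group.IsSolvable G) :
    ∃ (S M : Subgroup G), S.Normal ∧ M.Normal ∧ (S ⊔ M).index ∣ 2 ∧ S ⊓ M = ⊥ ∧
      (∀ s ∈ S, ∀ x ∈ M, s * x = x * s) ∧ Nonempty (S ≃* SL(2, ZMod 5)) ∧
      (∀ q : ℕ, q.Prime → ∀ Q : Sylow q M, IsCyclic Q) ∧ (Nat.card M).Coprime 30 := by
  obtain ⟨S, hSn, -, ⟨e⟩⟩ := P.exists_normal_sl25 p h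
  haveI := hSn
  haveI : Fact (Nat.Prime 2) := ⟨Nat.prime_two⟩
  obtain ⟨g1, g2, g3, g4, g5, g6, g7, g8⟩ := gen_facts
  let ι : SL(2, ZMod 5) →* G := S.subtype.comp e.symm.toMonoidHom
  have hι : Function.Injective ι := S.subtype_injective.comp e.symm.injective
  have hιS : ∀ t, ι t ∈ S := fun t => (e.symm t).2
  set x := ι genX with hxd
  set y := ι genY with hyd
  set z := ι (-1) with hzd
  have hx3 : x ^ 3 = 1 := by rw [hxd, ← map_pow, g1, map_one]
  have hy5 : y ^ 5 = 1 := by rw [hyd, ← map_pow, g2, map_one]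
  have hxy : (x * y) ^ 2 = z := by rw [hxd, hyd, hzd, ← map_mul, ← map_pow, g3]
  have hz2 : z ^ 2 = 1 := by rw [hzd, ← map_pow, g4, map_one]
  have hz1 : z ≠ 1 := fun e => g5 (hι (by rw [map_one]; exact e))
  have hx1 : x ≠ 1 := fun e => g6 (hι (by rw [map_one]; exact e))
  have hnc : x * y ≠ y * x := fun e => gen_noncomm (hι (by rw [map_mul, map_mul]; exact e))
  have hy1 : y ≠ 1 := fun e => hnc (by rw [e, one_mul, mul_one])
  have hgen : closure ({x, y} : Set G) = S := by
    have h1 := congrArg (Subgroup.map ι) sl25_closure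
    rw [MonoidHom.map_closure, Set.image_pair] at h1
    rw [h1, ← MonoidHom.range_eq_map]
    exact le_antisymm (by rintro _ ⟨t, rfl⟩; exact hιS t) fun s hs => ⟨e ⟨s, hs⟩, by simp [ι]⟩
  have hzS : z ∈ S := hιS _
  have hzC : ∀ g, Commute z g := P.invol_central hz1 hz2
  haveI hZn : (zpowers z).Normal := ⟨fun n hn g => by
    obtain ⟨i, rfl⟩ := hn
    simp only
    rw [← ((hzC g).zpow_left i).eq, mul_inv_cancel_right]
    exact ⟨i, rfl⟩⟩
  set q := QuotientGroup.mk' (zpowers z) with hq
  set N := S.map q with hN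
  haveI : N.Normal := hSn.map _ (QuotientGroup.mk'_surjective _)
  have hxS : x ∈ S := hιS _
  have hyS : y ∈ S := hιS _
  have hzq : q z = 1 := (QuotientGroup.eq_one_iff _).2 (mem_zpowers z)
  have hzord : orderOf z = 2 := orderOf_eq_prime hz2 hz1
  obtain ⟨e5⟩ : Nonempty (N ≃* alternatingGroup (Fin 5)) := by
    obtain ⟨f, hf⟩ := exists_hom_icosahedral (H := N) (x := ⟨q x, mem_map_of_mem q hxS⟩)
      (y := ⟨q y, mem_map_of_mem q hyS⟩) (Subtype.ext (by simp [← map_pow, hx3]))
      (Subtype.ext (by simp [← map_pow, hy5]))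
      (Subtype.ext (by simp [← map_mul, ← map_pow, hxy, hzq]))
      (by
        apply map_injective N.subtype_injective
        rw [MonoidHom.map_closure, ← MonoidHom.range_eq_map, range_subtype, Set.image_pair]
        refine Eq.trans ?_ (congrArg (Subgroup.map q) hgen)
        rw [MonoidHom.map_closure, Set.image_pair]
        rfl)
    haveI : IsSimpleGroup (alternatingGroup (Fin 5)) := alternatingGroup.isSimpleGroup_five
    rcases (MonoidHom.normal_ker f).eq_bot_or_eq_top with h | h
    · exact ⟨(MulEquiv.ofBijective f ⟨(MonoidHom.ker_eq_bot_iff f).1 h, hf⟩).symm⟩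
    · exfalso
      obtain ⟨t, ht⟩ := hf ⟨q x, mem_map_of_mem q hxS⟩
      rw [MonoidHom.mem_ker.1 (h ▸ mem_top t)] at ht
      have hxz : x ∈ zpowers z := (QuotientGroup.eq_one_iff _).1 (congrArg Subtype.val ht).symm
      have h2 : x ^ 2 = 1 := orderOf_dvd_iff_pow_eq_one.1 (hzord ▸ orderOf_dvd_of_mem_zpowers hxz)
      exact hx1 (by rw [← hx3, pow_succ, h2, one_mul])
  obtain ⟨σ, hσ⟩ := exists_sign_of_alt_five N e5
  set C := centralizer (S : Set G) with hC
  haveI hCn : C.Normal := inferInstance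
  have hcomm : ∀ c ∈ C, ∀ s ∈ S, Commute s c := fun c hc s hs => mem_centralizer_iff.1 hc s hs
  -- the kernel of the sign is `S C`
  have hker : (σ.comp q).ker ≤ S ⊔ C := fun g hg => by
      obtain ⟨n, hn, hc⟩ := hσ (q g) hg
      obtain ⟨m, hm, rfl⟩ := hn
      rw [show g = (g * m⁻¹) * m by group]
      refine mul_mem (mem_sup_right ?_) (mem_sup_left hm)
      rw [hC, ← hgen, centralizer_closure, mem_centralizer_iff]
      rw [← map_inv, ← map_mul] at hc
      have fix : ∀ w ∈ S, ∀ k : ℕ, Odd k → w ^ k = 1 → w * (g * m⁻¹) = g * m⁻¹ * w := by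
        intro w hw k hk hwk
        set d := g * m⁻¹
        have h := mem_centralizer_iff.1 hc (q w) (mem_map_of_mem q hw)
        rw [← map_mul, ← map_mul] at h
        obtain ⟨i, hi⟩ : (d * w)⁻¹ * (w * d) ∈ zpowers z := QuotientGroup.eq.1 h.symm
        simp only at hi
        have e : d⁻¹ * w * d = z ^ i * w := by
          rw [((hzC w).zpow_left i).eq, hi]; group
        have e' : (d⁻¹ * w * d) ^ k = 1 := by
          rw [show d⁻¹ * w * d = d⁻¹ * w * (d⁻¹)⁻¹ by rw [inv_inv], conj_pow, hwk, mul_one, mul_inv_cancel]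
        rw [e, ((hzC w).zpow_left i).mul_pow, hwk, mul_one] at e'
        have hzi : z ^ i = 1 := by
          rw [← orderOf_eq_one_iff]
          refine Nat.eq_one_of_dvd_coprimes (Nat.coprime_two_right.2 hk) (orderOf_dvd_of_pow_eq_one e')
            (orderOf_dvd_of_pow_eq_one ?_)
          rw [← zpow_natCast, ← zpow_mul, mul_comm, zpow_mul, zpow_natCast, hz2, one_zpow]
        rw [hzi, one_mul] at e
        conv_rhs => rw [← e]
        group
      intro w hw
      rcases hw with hw | hw
      · rw [hw]; exact fix x hxS 3 (by decide) hx3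
      · rw [Set.mem_singleton_iff.1 hw]; exact fix y hyS 5 (by decide) hy5
  -- the centraliser is `⟨z⟩ × M`
  have h4 : ∀ c : C, orderOf c ≠ 4 := by
    intro c hc
    have hzxy : orderOf (x * y) = 4 := orderOf_eq_prime_pow (p := 2) (n := 1)
      (by rw [pow_one, hxy]; exact hz1) (by rw [show 2 ^ (1 + 1) = 2 * 2 by norm_num, pow_mul, hxy, hz2])
    obtain ⟨i, hi⟩ := P.mem_zpowers_of_commute (x := (c : G)) (y := x * y)
      (hcomm _ c.2 _ (mul_mem hxS hyS)).symm
      (by rw [Subgroup.orderOf_coe, hc, ← hzxy, pow_orderOf_eq_one])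
    simp only at hi
    have hxc : Commute x ((c : G) ^ i) := (hcomm _ c.2 x hxS).zpow_right i
    rw [hi] at hxc
    refine hnc (mul_left_cancel (a := x) ?_)
    rw [hxc.eq, mul_assoc]
  have hPC := P.restrict C
  have hcyc : ∀ (r : ℕ) [Fact r.Prime] (R : Subgroup C), IsPGroup r R → IsCyclic R := fun r _ R hR =>
    hPC.isCyclic_of_no_four R hR fun w _ => h4 w
  have hzc : z ∈ C := mem_centralizer_iff.2 fun s hs => (hzC s).symm.eq
  set T : Subgroup C := zpowers ⟨z, hzc⟩ with hT
  have hTcard : Nat.card T = 2 := by rw [hT, Nat.card_zpowers, ← Subgroup.orderOf_coe, hzord]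
  obtain ⟨R, hTR⟩ := (IsPGroup.of_card (p := 2) (n := 1) (by rw [hTcard, pow_one]) : IsPGroup 2 T).exists_le_sylow
  haveI : IsCyclic (R : Subgroup C) := hcyc 2 _ R.2
  have hRcard : Nat.card (R : Subgroup C) = 2 := by
    obtain ⟨k, hk⟩ := IsPGroup.iff_card.1 R.2
    obtain ⟨r, hr⟩ := IsCyclic.exists_ofOrder_eq_natCard (α := (R : Subgroup C))
    rcases Nat.lt_or_ge k 2 with h | h
    · interval_cases k
      · exfalso
        have := card_le_of_le hTR
        rw [hk, hTcard] at this
        norm_num at this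
      · simpa using hk
    · exfalso
      refine h4 ((r : C) ^ 2 ^ (k - 2)) ?_
      rw [orderOf_pow, Subgroup.orderOf_coe, hr, hk, Nat.gcd_eq_right (pow_dvd_pow 2 (Nat.sub_le k 2)),
        Nat.pow_div (Nat.sub_le k 2) (by norm_num), show k - (k - 2) = 2 by omega]
  have hRT : (R : Subgroup C) = T := (eq_of_le_of_card_ge hTR (by rw [hRcard, hTcard])).symm
  have hRc : normalizer ((R : Subgroup C) : Set C) ≤ centralizer ((R : Subgroup C) : Set C) := by
    intro g _
    rw [hRT, hT, mem_centralizer_iff]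
    rintro _ ⟨i, rfl⟩
    simp only
    exact (Commute.zpow_left (Subtype.ext (hzC (g : G)).eq : Commute (⟨z, hzc⟩ : C) g) i).eq
  set M₀ := (MonoidHom.transferSylow R hRc).ker with hM₀
  have hcompl := MonoidHom.ker_transferSylow_isComplement' R hRc
  have hodd : ¬ 2 ∣ Nat.card M₀ := MonoidHom.not_dvd_card_ker_transferSylow R hRc
  haveI hM₀c : M₀.Characteristic := characteristic_iff_map_eq.2 fun φ => by
    refine eq_of_le_of_card_ge ?_ (le_of_eq (Nat.card_congr (M₀.equivMapOfInjective φ.toMonoidHom φ.injective).toEquiv))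
    rintro _ ⟨w, hw, rfl⟩
    have h2 : (φ w) ^ Nat.card M₀ = 1 := by
      rw [← map_pow, show w ^ Nat.card M₀ = 1 from congrArg Subtype.val (pow_card_eq_one' (x := (⟨w, hw⟩ : M₀))),
        map_one]
    have hd : orderOf (QuotientGroup.mk' M₀ (φ w)) ∣ 2 := by
      refine (_root_.orderOf_dvd_natCard _).trans (dvd_of_eq ?_)
      rw [← Subgroup.index_eq_card, hcompl.symm.index_eq_card, hRcard]
    have := Nat.eq_one_of_dvd_coprimes ((Nat.prime_two.coprime_iff_not_dvd.2 hodd).symm)
      ((orderOf_map_dvd _ _).trans (orderOf_dvd_of_pow_eq_one h2)) hd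
    exact (QuotientGroup.eq_one_iff _).1 (orderOf_eq_one_iff.1 this)
  set M := M₀.map C.subtype with hM
  haveI hMn : M.Normal := inferInstance
  have hMC : M ≤ C := map_subtype_le _
  have hCle : C ≤ S ⊔ M := by
    intro c hc
    obtain ⟨a, ha, b, hb, hab⟩ : ∃ a ∈ M₀, ∃ b ∈ (R : Subgroup C), a * b = ⟨c, hc⟩ := by
      obtain ⟨⟨a, b⟩, hab⟩ := (hcompl.existsUnique ⟨c, hc⟩).exists
      exact ⟨a, a.2, b, b.2, hab⟩
    rw [← show ((a * b : C) : G) = c from congrArg Subtype.val hab, Subgroup.coe_mul]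
    refine mul_mem (mem_sup_right ⟨a, ha, rfl⟩) (mem_sup_left ?_)
    rw [hRT, hT] at hb
    obtain ⟨i, rfl⟩ := hb
    simp only [SubgroupClass.coe_zpow]
    exact zpow_mem hzS i
  have hMcard : Nat.card M = Nat.card M₀ := card_map_of_injective C.subtype_injective
  have h30 : ∀ w ∈ S, ∀ r : ℕ, r.Prime → orderOf w = r → r ≠ 2 → ¬ r ∣ Nat.card M := by
    intro w hw r hr hwr hr2 hd
    haveI := Fact.mk hr
    obtain ⟨m, hm⟩ := exists_prime_orderOf_dvd_card' (G := M) r hd
    obtain ⟨i, hi⟩ := P.mem_zpowers_of_commute (x := w) (y := (m : G)) (hcomm _ (hMC m.2) w hw)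
      (by rw [hwr, ← hm, ← Subgroup.coe_pow, pow_orderOf_eq_one]; rfl)
    simp only at hi
    have hmS : (m : G) ∈ S := hi ▸ zpow_mem hw i
    have hfix : ∀ s ∈ S, Commute s (m : G) := fun s hs => hcomm _ (hMC m.2) s hs
    have hm1 : (m : G) ≠ 1 := fun e => hr.ne_one (by rw [← hm, ← Subgroup.orderOf_coe, e, orderOf_one])
    obtain ⟨j, hj⟩ := P.mem_zpowers_of_commute (x := (m : G)) (y := w) (hfix w hw).symm
      (by rw [Subgroup.orderOf_coe, hm, ← hwr, pow_orderOf_eq_one])
    simp only at hj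
    have hwc : ∀ s ∈ S, Commute s w := fun s hs => hj ▸ (hfix s hs).zpow_right j
    rcases Decidable.em (w ∈ zpowers z) with hwz | hwz
    · have := orderOf_dvd_of_mem_zpowers hwz
      rw [hwr, hzord] at this
      exact hr2 ((Nat.prime_dvd_prime_iff_eq hr Nat.prime_two).1 this)
    · -- a central element of odd prime order contradicts the simplicity of `A₅`
      apply hwz
      rw [← QuotientGroup.eq_one_iff (N := zpowers z) w]
      have hcen : (⟨q w, mem_map_of_mem q hw⟩ : N) ∈ center N := by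
        rw [mem_center_iff]
        rintro ⟨_, s, hs, rfl⟩
        exact Subtype.ext (by show q s * q w = q w * q s; rw [← map_mul, ← map_mul, (hwc s hs).eq])
      have hbot : center N = ⊥ := by
        haveI : IsSimpleGroup N := by
          haveI := alternatingGroup.isSimpleGroup_five
          haveI : Nontrivial N := e5.toEquiv.nontrivial
          exact IsSimpleGroup.isSimpleGroup_of_surjective e5.symm.toMonoidHom e5.symm.surjective
        refine (inferInstance : (center N).Normal).eq_bot_or_eq_top.resolve_right fun ht => ?_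
        have hne : ∃ a b : alternatingGroup (Fin 5), a * b ≠ b * a := by decide +kernel
        obtain ⟨a, b, hab⟩ := hne
        apply hab
        apply e5.symm.injective
        rw [map_mul, map_mul]
        exact mem_center_iff.1 (ht ▸ mem_top (e5.symm b)) _
      rw [hbot, mem_bot] at hcen
      exact congrArg Subtype.val hcen
  have hSM : S ⊓ M = ⊥ := by
    rw [eq_bot_iff]
    intro s hs
    rw [mem_bot]
    have hd : orderOf s ∣ Nat.card M := Subgroup.orderOf_dvd_natCard M hs.2
    have hd' : orderOf s ∣ 120 := by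
      rw [← sl25_card, ← Nat.card_congr e.toEquiv]
      exact Subgroup.orderOf_dvd_natCard S hs.1
    apply orderOf_eq_one_iff.1
    by_contra hne
    obtain ⟨r, hr, hrd⟩ := Nat.exists_prime_and_dvd hne
    have hrM := hrd.trans hd
    have hr120 : r ∣ 2 ^ 3 * 3 * 5 := hrd.trans hd'
    rcases hr.dvd_mul.1 hr120 with h | h
    · rcases hr.dvd_mul.1 h with h | h
      · exact hodd (hMcard ▸ ((Nat.prime_dvd_prime_iff_eq hr Nat.prime_two).1 (hr.dvd_of_dvd_pow h)) ▸ hrM)
      · exact h30 x hxS 3 Nat.prime_three (orderOf_eq_prime hx3 hx1) (by norm_num)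
          (((Nat.prime_dvd_prime_iff_eq hr Nat.prime_three).1 h) ▸ hrM)
    · haveI : Fact (Nat.Prime 5) := ⟨by norm_num⟩
      exact h30 y hyS 5 (by norm_num) (orderOf_eq_prime hy5 hy1) (by norm_num)
          (((Nat.prime_dvd_prime_iff_eq hr (by norm_num)).1 h) ▸ hrM)
  refine ⟨S, M, hSn, hMn, ?_, hSM, fun s hs m hm => (hcomm m (hMC hm) s hs).eq, ⟨e⟩, fun r hr R => ?_, ?_⟩
  · refine (index_dvd_of_le (hker.trans (sup_le le_sup_left hCle))).trans ?_
    rw [index_ker]
    exact (card_subgroup_dvd_card _).trans (dvd_of_eq (by rw [Nat.card_eq_fintype_card, Fintype.card_units_int]))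
  · haveI := Fact.mk hr
    have e0 : M₀ ≃* M := M₀.equivMapOfInjective C.subtype C.subtype_injective
    haveI := (hPC.restrict M₀).isCyclic_of_no_four ((R : Subgroup M).map e0.symm.toMonoidHom) (R.2.map _)
      (fun w _ hw => h4 w (by rw [Subgroup.orderOf_coe, hw]))
    exact isCyclic_of_surjective ((R : Subgroup M).equivMapOfInjective e0.symm.toMonoidHom e0.symm.injective).symm.toMonoidHom
        (MulEquiv.surjective _)
  · rw [show 30 = 2 * 3 * 5 by norm_num]
    haveI : Fact (Nat.Prime 5) := ⟨by norm_num⟩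
    refine Nat.Coprime.mul_right (Nat.Coprime.mul_right ?_ ?_) ?_
    · exact (Nat.prime_two.coprime_iff_not_dvd.2 (hMcard ▸ hodd)).symm
    · exact (Nat.prime_three.coprime_iff_not_dvd.2
        (h30 x hxS 3 Nat.prime_three (orderOf_eq_prime hx3 hx1) (by norm_num))).symm
    · exact ((show Nat.Prime 5 by norm_num).coprime_iff_not_dvd.2
        (h30 y hyS 5 (by norm_num) (orderOf_eq_prime hy5 hy1) (by norm_num))).symm

end Rep

end CfsgLib.Recog.Zassenhaus
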