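import Cfsg.Agent.Lib.Recog.Zassenhaus.Perfect
import Cfsg.Agent.Lib.Core.FPFAutomorphism
import Cfsg.Agent.Lib.PLocal.NormalPComplementThms

/-!
# Fixed point free automorphism groups and Frobenius complements

* `exists_rep_of_fpf`, `exists_rep_of_complement`: such groups have fixed point free representations over an
  algebraically closed field of prime characteristic.
-/

set_option autoImplicit false
set_option linter.all false

namespace CfsgLib.Recog.Zassenhaus

open Subgroup
open scoped IsMulCommutative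

/-- Change of scalars of a fixed point free linear action. -/
theorem exists_rep_of_module {G : Type*} [Group G] {p : ℕ} [Fact p.Prime] {V : Type*} [AddCommGroup V]
    [Module (ZMod p) V] [Finite V] [Nontrivial V] (ρ : G →* Module.End (ZMod p) V)
    (hfp : ∀ g : G, g ≠ 1 → ∀ v : V, ρ g v = v → v = 0) :
    ∃ n : ℕ, Nontrivial (Fin n → AlgebraicClosure (ZMod p)) ∧
      Nonempty (Rep G (AlgebraicClosure (ZMod p)) (Fin n → AlgebraicClosure (ZMod p))) := by
  haveI : Module.Finite (ZMod p) V := Module.Finite.of_finite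
  let b := Module.finBasis (ZMod p) V
  refine ⟨Module.finrank (ZMod p) V, ?_, ⟨?_⟩⟩
  · haveI : Nonempty (Fin (Module.finrank (ZMod p) V)) := ⟨⟨0, Module.finrank_pos⟩⟩
    infer_instance
  · let Φ : Module.End (ZMod p) V →+*
        Module.End (AlgebraicClosure (ZMod p)) (Fin (Module.finrank (ZMod p) V) → AlgebraicClosure (ZMod p)) :=
      ((Matrix.toLinAlgEquiv' (R := AlgebraicClosure (ZMod p))).toAlgHom.toRingHom.comp
        (algebraMap (ZMod p) (AlgebraicClosure (ZMod p))).mapMatrix).comp
        (LinearMap.toMatrixAlgEquiv b).toAlgHom.toRingHom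
    refine ⟨Φ.toMonoidHom.comp ρ, fun g hg v hv => ?_⟩
    have hinj : Function.Injective (ρ g - 1 : Module.End (ZMod p) V) := by
      rw [injective_iff_map_eq_zero]
      intro w hw
      exact hfp g hg w (sub_eq_zero.1 hw)
    have hu : IsUnit (Φ (ρ g - 1)) := (((Module.End.isUnit_iff _).2 ⟨hinj, LinearMap.injective_iff_surjective.1 hinj⟩)).map Φ
    apply ((Module.End.isUnit_iff _).1 hu).1
    rw [map_zero, map_sub, map_one, LinearMap.sub_apply, Module.End.one_apply, sub_eq_zero]
    exact hv

/-- Fixed point free automorphisms of a group of prime exponent. -/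
theorem exists_rep_of_abelian {G : Type*} [Group G] {q : ℕ} [Fact q.Prime] {U : Type*} [CommGroup U] [Finite U]
    [Nontrivial U] (hexp : ∀ u : U, u ^ q = 1) (ψ : G →* MulAut U)
    (hfp : ∀ g : G, g ≠ 1 → ∀ u : U, ψ g u = u → u = 1) :
    ∃ n : ℕ, Nontrivial (Fin n → AlgebraicClosure (ZMod q)) ∧
      Nonempty (Rep G (AlgebraicClosure (ZMod q)) (Fin n → AlgebraicClosure (ZMod q))) := by
  letI : Module (ZMod q) (Additive U) := AddCommGroup.zmodModule fun x => by
    rw [← ofMul_toMul x, ← ofMul_pow, hexp, ofMul_one]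
  refine exists_rep_of_module (V := Additive U)
    { toFun := fun g => AddMonoidHom.toZModLinearMap q (MonoidHom.toAdditive (ψ g).toMonoidHom)
      map_one' := LinearMap.ext fun x => by rw [map_one]; rfl
      map_mul' := fun a b => LinearMap.ext fun x => by rw [map_mul]; rfl } fun g hg v hv => ?_
  exact congrArg Additive.ofMul (hfp g hg v.toMul (congrArg Additive.toMul hv))

/-- A fixed point free automorphism group of a finite group has a fixed point free representation. -/
theorem exists_rep_of_fpf {G : Type*} [Group G] [Finite G] [Nontrivial G] {K : Type*} [Group K] [Finite K] [Nontrivial K]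
    (φ : G →* MulAut K) (hfp : ∀ g : G, g ≠ 1 → ∀ k : K, φ g k = k → k = 1) :
    ∃ (p : ℕ) (_ : Fact p.Prime) (n : ℕ), Nontrivial (Fin n → AlgebraicClosure (ZMod p)) ∧
      Nonempty (Rep G (AlgebraicClosure (ZMod p)) (Fin n → AlgebraicClosure (ZMod p))) := by
  obtain ⟨r, hr, hrd⟩ := Nat.exists_prime_and_dvd (n := Nat.card G) Finite.one_lt_card.ne'
  haveI := Fact.mk hr
  obtain ⟨g, hg⟩ := exists_prime_orderOf_dvd_card' (G := G) r hrd
  have hg1 : g ≠ 1 := fun h => hr.ne_one (by rw [← hg, h, orderOf_one])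
  haveI : Group.IsNilpotent K :=
    CfsgLib.Core.FPFAut.isNilpotent_of_fpf
      (fun L _ _ p _ hp P h => CfsgLib.PLocal.hasNormalPComplement_glauberman hp P h)
      (φ g) (hfp g hg1) hr (by rw [← map_pow, ← hg, pow_orderOf_eq_one, map_one])
  haveI : Nontrivial (center K) := by
    rw [nontrivial_iff_ne_bot]
    exact fun h => CfsgLib.Core.inf_center_ne_bot_of_isNilpotent (⊤ : Subgroup K) top_ne_bot (by rw [h, inf_bot_eq])
  obtain ⟨q, hq, hqd⟩ := Nat.exists_prime_and_dvd (n := Nat.card (center K)) Finite.one_lt_card.ne'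
  haveI := Fact.mk hq
  let U : Subgroup K :=
    { carrier := {x | x ∈ center K ∧ x ^ q = 1}
      mul_mem' := fun {a b} ha hb => ⟨mul_mem ha.1 hb.1, by
        rw [(show Commute a b from (mem_center_iff.1 ha.1 b).symm).mul_pow, ha.2, hb.2, one_mul]⟩
      one_mem' := ⟨one_mem _, one_pow _⟩
      inv_mem' := fun {a} ha => ⟨inv_mem ha.1, by rw [inv_pow, ha.2, inv_one]⟩ }
  have hinv : ∀ (g : G) (x : K), x ∈ U → φ g x ∈ U := fun g x hx =>
    ⟨mem_center_iff.2 fun y => by
      obtain ⟨y, rfl⟩ := (φ g).surjective y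
      rw [← map_mul, ← map_mul, mem_center_iff.1 hx.1], by rw [← map_pow, hx.2, map_one]⟩
  haveI : IsMulCommutative U := ⟨⟨fun a b => Subtype.ext ((mem_center_iff.1 a.2.1 b).symm)⟩⟩
  haveI : Nontrivial U := by
    obtain ⟨c, hc⟩ := exists_prime_orderOf_dvd_card' (G := center K) q hqd
    have hcU : (c : K) ∈ U := ⟨c.2, by rw [← Subgroup.coe_pow, ← hc, pow_orderOf_eq_one]; rfl⟩
    refine ⟨⟨⟨c, hcU⟩, 1, fun h => hq.ne_one ?_⟩⟩
    rw [← hc, orderOf_eq_one_iff]
    exact Subtype.ext (congrArg Subtype.val h :)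
  let ψ : G →* MulAut U :=
    { toFun := fun g =>
        { toFun := fun x => ⟨φ g x, hinv g _ x.2⟩
          invFun := fun x => ⟨φ g⁻¹ x, hinv g⁻¹ _ x.2⟩
          left_inv := fun x => Subtype.ext (by
            show φ g⁻¹ (φ g (x : K)) = x
            rw [← MulAut.mul_apply, ← map_mul, inv_mul_cancel, map_one, MulAut.one_apply])
          right_inv := fun x => Subtype.ext (by
            show φ g (φ g⁻¹ (x : K)) = x
            rw [← MulAut.mul_apply, ← map_mul, mul_inv_cancel, map_one, MulAut.one_apply])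
          map_mul' := fun x y => Subtype.ext (map_mul (φ g) _ _) }
      map_one' := MulEquiv.ext fun x => Subtype.ext (show φ 1 (x : K) = x by rw [map_one]; rfl)
      map_mul' := fun a b => MulEquiv.ext fun x => Subtype.ext (show φ (a * b) (x : K) = φ a (φ b x) by rw [map_mul]; rfl) }
  obtain ⟨n, h1, h2⟩ := exists_rep_of_abelian (q := q) (U := U) (fun u => Subtype.ext u.2.2) ψ fun g hg v hv =>
    Subtype.ext (hfp g hg _ (congrArg Subtype.val hv))
  exact ⟨q, inferInstance, n, h1, h2⟩

/-- A Frobenius complement has a fixed point free representation. -/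
theorem exists_rep_of_complement {G : Type*} [Group G] [Finite G] {L : Type*} [Group L] [Finite L] {H : Subgroup L}
    (hH : Cfsg.IsFrobeniusComplement H) (e : G ≃* H) :
    ∃ (p : ℕ) (_ : Fact p.Prime) (n : ℕ), Nontrivial (Fin n → AlgebraicClosure (ZMod p)) ∧
      Nonempty (Rep G (AlgebraicClosure (ZMod p)) (Fin n → AlgebraicClosure (ZMod p))) := by
  obtain ⟨N, -, hNn, -, hNb, hfp⟩ := CfsgLib.Core.FrobeniusConj.exists_kernel hH
  haveI := hNn
  haveI : Nontrivial N := (nontrivial_iff_ne_bot N).2 hNb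
  haveI : Nontrivial H := (nontrivial_iff_ne_bot H).2 hH.1
  haveI : Nontrivial G := e.toEquiv.nontrivial
  refine exists_rep_of_fpf (K := N) (MulAut.conjNormal.comp (H.subtype.comp e.toMonoidHom)) fun g hg k hk => ?_
  have hg1 : ((e g : H) : L) ≠ 1 := fun h => hg (e.injective (by rw [map_one]; exact Subtype.ext h))
  refine Subtype.ext (mem_bot.1 ((hfp _ (e g).2 hg1).le ⟨k.2, mem_centralizer_singleton_iff.2 ?_⟩))
  have h1 := congrArg Subtype.val hk
  simp only [MonoidHom.comp_apply, MulEquiv.coe_toMonoidHom, Subgroup.coe_subtype, MulAut.conjNormal_apply] at h1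
  exact (mul_inv_eq_iff_eq_mul.1 h1).symm

/-- Zassenhaus for fixed point free automorphism groups. -/
theorem perfect_fpf_iso {G : Type*} [Group G] [Finite G] [Nontrivial G] {K : Type*} [Group K] [Finite K] [Nontrivial K]
    (φ : G →* MulAut K) (hfp : ∀ g : G, g ≠ 1 → ∀ k : K, φ g k = k → k = 1) (hperf : commutator G = ⊤) :
    Nonempty (G ≃* Matrix.SpecialLinearGroup (Fin 2) (ZMod 5)) := by
  obtain ⟨p, hp, n, hn, ⟨P⟩⟩ := exists_rep_of_fpf φ hfp
  haveI := hn
  exact P.perfect_iso p hperf

end CfsgLib.Recog.Zassenhaus
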