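import Cfsg.Agent.Lib.Recog.Zassenhaus.Cubes
import Cfsg.Agent.Lib.Core.Cores
import Cfsg.Agent.Lib.Core.SolvableStruct

/-!
# Automorphisms of two-groups with one involution, and quotients by the odd core
-/

set_option autoImplicit false
set_option linter.all false

namespace CfsgLib.Recog.Zassenhaus

open Subgroup

/-- A cyclic 2-group, or a generalised quaternion group of order at least 16, has a 2-group of automorphisms. -/
theorem aut_two_power {X : Type*} [Group X] [Finite X] (hX : IsPGroup 2 X)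
    (h : IsCyclic X ∨ ∃ n, n ≠ 1 ∧ Nonempty (X ≃* QuaternionGroup (2 ^ n))) (β : MulAut X) :
    ∃ k, β ^ 2 ^ k = 1 := by
  haveI : Fact (Nat.Prime 2) := ⟨Nat.prime_two⟩
  have hcyc : IsCyclic X → ∃ k, β ^ 2 ^ k = 1 := fun hc => by
    obtain ⟨n, hn⟩ := IsPGroup.iff_card.1 hX
    refine ⟨n - 1, ?_⟩
    rcases Nat.eq_zero_or_pos n with rfl | hn0
    · haveI : Subsingleton X := (Nat.card_eq_one_iff_unique.1 (by simpa using hn)).1
      exact MulEquiv.ext fun x => Subsingleton.elim _ _
    · have h := pow_card_eq_one' (x := β)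
      rwa [IsCyclic.card_mulAut, hn, Nat.totient_prime_pow Nat.prime_two hn0, show 2 - 1 = 1 from rfl, mul_one] at h
  rcases h with h | ⟨n, hn, ⟨e⟩⟩
  · exact hcyc h
  rcases n with - | - | n
  · haveI := QuaternionGroup.quaternionGroup_one_isCyclic
    exact hcyc (isCyclic_of_surjective e.symm.toMonoidHom e.symm.surjective)
  · exact absurd rfl hn
  · exact CfsgLib.Fusion.transfer_aut e (CfsgLib.Fusion.quaternion_aut (M := n + 2) (by omega)) β

/-- A soluble group with trivial odd core whose 2-core has a 2-group of automorphisms is a 2-group. -/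
theorem isPGroup_of_aut {X : Type*} [Group X] [Finite X] [Group.IsSolvable X] (hO : Cfsg.pPrimeCore 2 X = ⊥)
    (h : ∀ β : MulAut (Cfsg.pCore 2 X), ∃ k, β ^ 2 ^ k = 1) : IsPGroup 2 X := by
  haveI : Fact (Nat.Prime 2) := ⟨Nat.prime_two⟩
  haveI : (Cfsg.pCore 2 X).Normal := CfsgLib.Components.pCore_normal 2
  have hC := CfsgLib.Core.centralizer_pCore_le_of_pPrimeCore_eq_bot (p := 2) hO
  intro g
  obtain ⟨k, hk⟩ := h (MulAut.conjNormal g)
  have hmem : g ^ 2 ^ k ∈ Cfsg.pCore 2 X := hC (mem_centralizer_iff.2 fun x hx => by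
    have h1 := congrArg Subtype.val (DFunLike.congr_fun hk ⟨x, hx⟩)
    rw [← map_pow, MulAut.conjNormal_apply, MulAut.one_apply] at h1
    exact (mul_inv_eq_iff_eq_mul.1 h1).symm)
  obtain ⟨j, hj⟩ := CfsgLib.Core.isPGroup_pCore 2 X ⟨_, hmem⟩
  refine ⟨k + j, ?_⟩
  rw [pow_add, pow_mul]
  exact congrArg Subtype.val hj

/-- A subgroup of odd order maps trivially; the Sylow 2-subgroup maps isomorphically. -/
theorem sylow_quotient_inj {G : Type*} [Group G] [Finite G] (R : Subgroup G) (hR : IsPGroup 2 R) {g : G}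
    (hg : g ∈ R) (hgW : g ∈ Cfsg.pPrimeCore 2 G) : g = 1 := by
  haveI : Fact (Nat.Prime 2) := ⟨Nat.prime_two⟩
  obtain ⟨k, hk⟩ := IsPGroup.iff_card.1 hR
  rw [← orderOf_eq_one_iff]
  exact Nat.eq_one_of_dvd_coprimes ((CfsgLib.Core.coprime_card_pPrimeCore 2 G).pow_right k)
    (Subgroup.orderOf_dvd_natCard _ hgW) (hk ▸ Subgroup.orderOf_dvd_natCard R hg)

/-- The quaternion group of even parameter onto the four group. -/
def quatToFour {n : ℕ} (hn : 2 ∣ n) : QuaternionGroup n →* DihedralGroup 2 :=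
  MonoidHom.mk'
    (fun g => match g with
      | QuaternionGroup.a i => DihedralGroup.r (ZMod.castHom (dvd_mul_right 2 n) (ZMod 2) i)
      | QuaternionGroup.xa i => DihedralGroup.sr (ZMod.castHom (dvd_mul_right 2 n) (ZMod 2) i))
    (by
      have h0 : (n : ZMod 2) = 0 := (ZMod.natCast_eq_zero_iff_even).2 (even_iff_two_dvd.2 hn)
      rintro (i | i) (j | j) <;>
        simp [map_add, map_sub, map_natCast, h0])

theorem quatToFour_surjective {n : ℕ} (hn : 2 ∣ n) : Function.Surjective (quatToFour hn) := by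
  rintro (i | i) <;> obtain ⟨k, rfl⟩ := ZMod.intCast_surjective i
  · exact ⟨QuaternionGroup.a k, congrArg DihedralGroup.r (map_intCast _ k)⟩
  · exact ⟨QuaternionGroup.xa k, congrArg DihedralGroup.sr (map_intCast _ k)⟩

theorem quatToFour_ker {n : ℕ} (hn : 2 ∣ n) :
    (quatToFour hn).ker ≤ zpowers (QuaternionGroup.a 1 : QuaternionGroup n) := by
  rintro (i | i) h
  · obtain ⟨k, rfl⟩ := ZMod.intCast_surjective i
    exact ⟨k, by
      obtain ⟨m, rfl | rfl⟩ := Int.eq_nat_or_neg k
      · simp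
      · simp only [zpow_neg, zpow_natCast, QuaternionGroup.a_one_pow, Int.cast_neg, Int.cast_natCast]
        rfl⟩
  · exact absurd (MonoidHom.mem_ker.1 h) (by rw [DihedralGroup.one_def]; intro h; cases h)

end CfsgLib.Recog.Zassenhaus
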