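import Cfsg.Agent.Lib.Recog.Zassenhaus.Nonsolvable
import Cfsg.Agent.Lib.Recog.Zassenhaus.Aut
import Cfsg.Agent.Lib.Components.FStar

/-!
# Groups with a self-centralising normal soluble subgroup whose prime power subgroups are cyclic or quaternion
-/

set_option autoImplicit false
set_option linter.all false

namespace CfsgLib.Recog.Zassenhaus

open Subgroup
open scoped commutatorElement

/-- Conjugation induces a soluble group on a normal `q`-subgroup that is cyclic or quaternion. -/
theorem perfect_centralizes_pGroup {X : Type*} [Group X] [Finite X] (S : Subgroup X) (hS : commutator S = ⊤)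
    {q : ℕ} [Fact q.Prime] (Q : Subgroup X) [Q.Normal] (hQp : IsPGroup q Q)
    (hQ : IsCyclic Q ∨ (q = 2 ∧ ∃ n, Nonempty (Q ≃* QuaternionGroup (2 ^ n)))) :
    S ≤ centralizer (Q : Set X) := by
  let φ : S →* MulAut Q := (MulAut.conjNormal).comp S.subtype
  suffices h : ∀ s, φ s = 1 by
    intro s hs
    rw [mem_centralizer_iff]
    intro x hx
    have h1 := congrArg Subtype.val (DFunLike.congr_fun (h ⟨s, hs⟩) ⟨x, hx⟩)
    simp only [φ, MonoidHom.comp_apply, Subgroup.coe_subtype, MulAut.conjNormal_apply, MulAut.one_apply] at h1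
    exact (mul_inv_eq_iff_eq_mul.1 h1).symm
  have comm : IsCyclic Q → ∀ s, φ s = 1 := fun hc s => by
    haveI : Group.IsSolvable (MulAut Q) := Group.isSolvable_of_comm fun a b => MulEquiv.ext fun x => by
      obtain ⟨g, hg⟩ := hc.exists_generator
      obtain ⟨i, hi⟩ := mem_zpowers_iff.1 (hg (a g))
      obtain ⟨j, hj⟩ := mem_zpowers_iff.1 (hg (b g))
      obtain ⟨k, rfl⟩ := mem_zpowers_iff.1 (hg x)
      simp only [MulAut.mul_apply, map_zpow]
      rw [← hi, ← hj, map_zpow, map_zpow, ← hi, ← hj, ← zpow_mul, ← zpow_mul, ← zpow_mul, ← zpow_mul]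
      ring_nf
    exact hom_trivial_of_perfect hS φ s
  rcases hQ with hc | ⟨rfl, n, ⟨e⟩⟩
  · exact comm hc
  intro s
  rcases n with - | - | n
  · haveI := QuaternionGroup.quaternionGroup_one_isCyclic
    exact comm (isCyclic_of_surjective e.symm.toMonoidHom e.symm.surjective) s
  · -- order 8
    haveI : Group.IsSolvable (Equiv.Perm (CfsgLib.TwoGroups.QuatPts Q)) := by
      haveI : Finite (CfsgLib.TwoGroups.QuatPts Q) :=
        Nat.finite_of_card_ne_zero (by rw [CfsgLib.TwoGroups.natCard_quatPts e]; norm_num)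
      exact isSolvable_perm_of_le_four (by rw [CfsgLib.TwoGroups.natCard_quatPts e]; norm_num)
    let ν : S →* normalizer (Q : Set X) := S.subtype.codRestrict _ fun x => by rw [normalizer_eq_top]; exact mem_top _
    let ψ : S →* Equiv.Perm (CfsgLib.TwoGroups.QuatPts Q) :=
      (MulAction.toPermHom (normalizer (Q : Set X)) (CfsgLib.TwoGroups.QuatPts Q)).comp ν
    let inn : Q →* MulAut Q := MulAut.conj
    have hrange : ∀ t : S, φ t ∈ inn.range := by
      intro t
      have hk : ν t ∈ CfsgLib.TwoGroups.threeKer (normalizer (Q : Set X)) (CfsgLib.TwoGroups.QuatPts Q) :=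
        hom_trivial_of_perfect hS ψ t
      rw [CfsgLib.TwoGroups.threeKer_quat e, mem_subgroupOf] at hk
      rw [← SetLike.mem_coe, Subgroup.normal_mul] at hk
      obtain ⟨x, hx, c, hc, hxc⟩ := hk
      simp only at hxc
      refine ⟨⟨x, hx⟩, MulEquiv.ext fun y => Subtype.ext ?_⟩
      show x * (y : X) * x⁻¹ = _
      rw [show φ t y = MulAut.conjNormal (t : X) y from rfl, MulAut.conjNormal_apply,
        show (t : X) = x * c from hxc.symm]
      have := mem_centralizer_iff.1 hc y y.2
      rw [mul_inv_rev, mul_assoc x c, ← this, mul_assoc, mul_assoc, mul_assoc, mul_inv_cancel_left]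
    haveI : Group.IsNilpotent Q := hQp.isNilpotent
    haveI : Group.IsSolvable inn.range := Group.isSolvable_of_surjective inn.rangeRestrict_surjective
    exact congrArg Subtype.val (hom_trivial_of_perfect hS (φ.codRestrict inn.range hrange) s)
  · haveI : Group.IsNilpotent (MulAut Q) := by
      refine IsPGroup.isNilpotent (p := 2) fun β => ?_
      obtain ⟨k, hk⟩ := aut_two_power hQp (Or.inr ⟨n + 2, by omega, ⟨e⟩⟩) β
      exact ⟨k, hk⟩
    exact hom_trivial_of_perfect hS φ s

/-- The main solubility criterion. -/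
theorem isSolvable_of_selfCentralizing {X : Type*} [Group X] [Finite X] (N : Subgroup X) [N.Normal]
    (hN : Group.IsSolvable N) (hC : centralizer (N : Set X) ≤ N)
    (hq : ∀ (q : ℕ) [Fact q.Prime] (Q : Subgroup X), Q ≤ N → IsPGroup q Q →
      IsCyclic Q ∨ (q = 2 ∧ ∃ n, Nonempty (Q ≃* QuaternionGroup (2 ^ n)))) :
    Group.IsSolvable X := by
  by_contra hns
  obtain ⟨S, hSn, -, hSne, hS⟩ := exists_perfect_normal hns
  haveI := hN
  have hF : ∀ s ∈ S, ∀ f ∈ Cfsg.fittingSubgroup N, s * (f : X) = f * s := by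
    intro s hs f hf
    have hle : Cfsg.fittingSubgroup N ≤ (centralizer (S : Set X)).subgroupOf N := by
      rw [CfsgLib.Core.fittingSubgroup_eq_iSup_pCore, iSup_le_iff]
      intro q x hx
      haveI := Fact.mk q.2
      haveI : (Cfsg.pCore (q : ℕ) N).Characteristic := inferInstance
      have hQp : IsPGroup (q : ℕ) ((Cfsg.pCore (q : ℕ) N).map N.subtype) := (CfsgLib.Core.isPGroup_pCore _ _).map _
      have := perfect_centralizes_pGroup S hS _ hQp (hq q _ (map_subtype_le _) hQp)
      rw [mem_subgroupOf, mem_centralizer_iff]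
      intro t ht
      exact (mem_centralizer_iff.1 (this ht) x ⟨x, hx, rfl⟩).symm
    exact mem_centralizer_iff.1 (hle hf) s hs
  have hCF := CfsgLib.Components.centralizer_fitting_le_of_isSolvable (G := N)
  have key : ∀ s ∈ S, ∀ x : N, ∃ a ∈ Cfsg.fittingSubgroup N, s * (x : X) * s⁻¹ = a * x ∧
      ∀ f ∈ Cfsg.fittingSubgroup N, f * a = a * f := by
    intro s hs x
    let a : N := ⟨s * (x : X) * s⁻¹ * (x : X)⁻¹, mul_mem ((inferInstance : N.Normal).conj_mem _ x.2 s) (inv_mem x.2)⟩
    have hc : a ∈ centralizer (Cfsg.fittingSubgroup N : Set N) := by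
      rw [mem_centralizer_iff]
      intro f hf
      have hfx : x⁻¹ * f * x ∈ Cfsg.fittingSubgroup N := by
        have := (inferInstance : (Cfsg.fittingSubgroup N).Normal).conj_mem f hf x⁻¹
        rwa [inv_inv] at this
      have e1 := hF s hs f hf
      have e2 := hF s hs _ hfx
      apply Subtype.ext
      simp only [Subgroup.coe_mul, Subgroup.coe_inv, a] at e2 ⊢
      have e3 : s⁻¹ * (f : X) = f * s⁻¹ := by
        rw [inv_mul_eq_iff_eq_mul, ← mul_assoc, e1, mul_inv_cancel_right]
      calc (f : X) * (s * x * s⁻¹ * (x : X)⁻¹) = (f * s) * x * s⁻¹ * (x : X)⁻¹ := by group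
        _ = s * x * (((x : X)⁻¹ * f * x) * s⁻¹) * (x : X)⁻¹ := by rw [← e1]; group
        _ = s * x * (s⁻¹ * ((x : X)⁻¹ * f * x)) * (x : X)⁻¹ := by
            rw [show ((x : X)⁻¹ * f * x) * s⁻¹ = s⁻¹ * ((x : X)⁻¹ * f * x) by
              rw [eq_inv_mul_iff_mul_eq, ← mul_assoc, e2, mul_inv_cancel_right]]
        _ = _ := by group
    refine ⟨a, hCF hc, by simp [a], fun f hf => mem_centralizer_iff.1 hc f hf⟩
  let φ : S →* MulAut N := MulAut.conjNormal.comp S.subtype
  haveI : Group.IsSolvable φ.range := by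
    refine Group.isSolvable_of_comm ?_
    rintro ⟨_, ⟨s, hs⟩, rfl⟩ ⟨_, ⟨t, ht⟩, rfl⟩
    refine Subtype.ext (MulEquiv.ext fun x => Subtype.ext ?_)
    simp only [Subgroup.coe_mul, MulAut.mul_apply]
    show s * (t * (x : X) * t⁻¹) * s⁻¹ = t * (s * (x : X) * s⁻¹) * t⁻¹
    obtain ⟨a, ha, ea', hac⟩ := key s hs x
    obtain ⟨b, hb, eb', hbc⟩ := key t ht x
    have hsb : s * (b : X) * s⁻¹ = b := by rw [hF s hs b hb, mul_inv_cancel_right]
    have hta : t * (a : X) * t⁻¹ = a := by rw [hF t ht a ha, mul_inv_cancel_right]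
    have hab : (b : X) * a = a * b := congrArg Subtype.val (hac b hb)
    calc s * (t * (x : X) * t⁻¹) * s⁻¹ = (s * (b : X) * s⁻¹) * (s * x * s⁻¹) := by rw [eb']; group
      _ = (t * (a : X) * t⁻¹) * (t * x * t⁻¹) := by rw [hsb, hta, ea', eb', ← mul_assoc, hab, mul_assoc]
      _ = t * (a * (x : X)) * t⁻¹ := by group
      _ = _ := by rw [← ea']
  have hSC : S ≤ centralizer (N : Set X) := by
    intro s hs
    rw [mem_centralizer_iff]
    intro x hx
    have h := hom_trivial_of_perfect hS φ.rangeRestrict ⟨s, hs⟩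
    have h1 := congrArg Subtype.val (DFunLike.congr_fun (congrArg Subtype.val h) ⟨x, hx⟩)
    simp only [φ, MonoidHom.coe_rangeRestrict, MonoidHom.comp_apply, Subgroup.coe_subtype, MulAut.conjNormal_apply,
      OneMemClass.coe_one, MulAut.one_apply] at h1
    exact (mul_inv_eq_iff_eq_mul.1 h1).symm
  haveI : Group.IsSolvable S := Group.isSolvable_of_isSolvable_injective
    (Subgroup.inclusion_injective (hSC.trans hC))
  haveI : Nontrivial S := (nontrivial_iff_ne_bot S).2 hSne
  exact (Group.IsSolvable.commutator_lt_top_of_nontrivial S).ne hS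

end CfsgLib.Recog.Zassenhaus
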