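import Cfsg.Agent.Lib.Recog.Zassenhaus.Gamma

/-!
# At most one icosahedral extension of a tetrahedral frame
-/

set_option autoImplicit false
set_option linter.all false
set_option maxHeartbeats 1000000

namespace CfsgLib.Recog.Zassenhaus

namespace Rep

variable {G L V : Type*} [Group G] [Field L] [AddCommGroup V] [Module L V] {P : Rep G L V}
variable [Finite G] [IsAlgClosed L] [FiniteDimensional L V] [Nontrivial V] {p : ℕ} [Fact p.Prime] [CharP L p]

namespace Tetra

variable {T : Tetra P}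

/-- An icosahedral axis in standard position. -/
def Std (T : Tetra P) (c : G) (A : Module.End L V) : Prop :=
  Cube c ∧ A * A = A + 1 ∧ T.Coef c 0 0 A (1 - A)

theorem dot_val (h2 : (2 : L) ≠ 0) (p : ℕ) [Fact p.Prime] [CharP L p] {c d : G} (hc : Cube c) (hd : Cube d) :
    d = c ∨ d = c⁻¹ ∨ Val (P.dot c d) := by
  rcases P.dot_cases (p := p) h2 hc hd with h | h | h | h | ⟨h, -⟩
  exacts [Or.inl h, Or.inr (Or.inl h), Or.inr (Or.inr (Or.inl h)), Or.inr (Or.inr (Or.inr (Or.inl h))),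
    Or.inr (Or.inr (Or.inr (Or.inr h)))]

theorem quat_scalar_inj (h2 : (2 : L) ≠ 0) {u v c₁ c₂ c₃ : Module.End L V} (hu : T.F.Cen u) (h1 : T.F.Cen c₁)
    (h2' : T.F.Cen c₂) (h3 : T.F.Cen c₃) (hv : T.F.Cen v) (h : T.F.quat u c₁ c₂ c₃ = v) :
    u = v ∧ c₁ = 0 ∧ c₂ = 0 ∧ c₃ = 0 := by
  rw [← T.F.quat_scalar v] at h
  exact T.F.quat_inj h2 hu h1 h2' h3 hv Frame.Cen.zero Frame.Cen.zero Frame.Cen.zero h

theorem classify (h2 : (2 : L) ≠ 0) (p : ℕ) [Fact p.Prime] [CharP L p] {c : G} (hc : Cube c)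
    (h : P.dot c T.a = -2) :
    T.IsAxis c ∨ ∃ k ∈ T.T0, ∃ A, T.Std (k * c * k⁻¹) A := by
  by_cases hax : T.IsAxis c
  · exact Or.inl hax
  right
  have h3 : (3 : L) ≠ 0 := by exact_mod_cast P.natCast_ne_zero (p := p) Nat.prime_three hc.2 hc.1
  obtain ⟨x₀, x₁, x₂, x₃, hx⟩ := T.exists_coef h2 c
  obtain ⟨h0, h1, hh2, hh3, hg⟩ := id hx
  have o := Frame.Cen.one (F := T.F)
  have z := Frame.Cen.zero (F := T.F)
  have c2 : T.F.Cen (-2 : Module.End L V) := T.F.two_cen.neg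
  rw [hx.dot T.coef_a] at h
  simp only [mul_zero, zero_mul, mul_one, one_mul, add_zero, zero_add, zero_sub, sub_zero] at h
  obtain ⟨es, ei, -, -⟩ := quat_scalar_inj h2 (by repeat' first | assumption | apply Frame.Cen.add | apply Frame.Cen.sub | apply Frame.Cen.neg)
    (by repeat' first | assumption | apply Frame.Cen.add | apply Frame.Cen.sub | apply Frame.Cen.neg)
    (by repeat' first | assumption | apply Frame.Cen.add | apply Frame.Cen.sub | apply Frame.Cen.neg)
    (by repeat' first | assumption | apply Frame.Cen.add | apply Frame.Cen.sub | apply Frame.Cen.neg) c2 h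
  have hx0 : x₀ = 0 := by
    refine of_two_mul h2 ?_
    rw [mul_zero, two_mul, ← ei]; abel
  subst hx0
  have hsum : x₁ + x₂ + x₃ = 1 := by
    refine of_two_mul h2 ?_
    rw [mul_one, two_mul, ← neg_inj, ← es]; abel
  have hsq := P.gam_sq hc
  rw [hg, T.F.quat_mul z h1 hh2 hh3] at hsq
  simp only [mul_zero, zero_mul, add_zero, zero_add, zero_sub, sub_zero] at hsq
  obtain ⟨eq3, -, -, -⟩ := quat_scalar_inj h2 (((h1.mul h1).neg.sub (hh2.mul hh2)).sub (hh3.mul hh3))
    ((hh2.mul hh3).sub (hh3.mul hh2)) ((h1.mul hh3).neg.add (hh3.mul h1)) ((h1.mul hh2).sub (hh2.mul h1))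
    (T.F.two_cen.add o |> fun h => by rw [show (-3 : Module.End L V) = -(2 + 1) by norm_num]; exact h.neg) hsq
  have hq : x₁ * x₁ + x₂ * x₂ + x₃ * x₃ = 3 := by rw [← neg_inj, ← eq3]; abel
  -- the three other axes
  have ax : ∀ {t : G} {e₁ e₂ e₃ : Module.End L V}, T.Coef t 0 e₁ e₂ e₃ → Cube t →
      (∀ d, (d = t ∨ d = t⁻¹) → T.IsAxis d) → e₁ * e₁ = 1 → Val (P.dot c t) := by
    intro t e₁ e₂ e₃ _ ht hta _
    rcases dot_val (P := P) h2 p ht hc with e | e | e
    · exact absurd (hta _ (Or.inl e)) hax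
    · exact absurd (hta _ (Or.inr e)) hax
    · rwa [P.dot_comm]
  have hti : ∀ k, (k = T.gi ∨ k = T.gj ∨ k = T.gi * T.gj) → ∀ d, (d = k * T.a * k⁻¹ ∨ d = (k * T.a * k⁻¹)⁻¹) →
      T.IsAxis d := fun k hk d hd => ⟨k, Or.inr hk, hd.imp id fun e => by rw [e]; group⟩
  have c₁ := T.coef_a.conj_gi
  have c₂ := T.coef_a.conj_gj
  have c₃ := T.coef_a.conj_gj.conj_gi
  rw [show T.gi * (T.gj * T.a * T.gj⁻¹) * T.gi⁻¹ = (T.gi * T.gj) * T.a * (T.gi * T.gj)⁻¹ by group] at c₃
  have v₁ := ax c₁ (T.ha.conj _) (hti _ (Or.inl rfl)) (by norm_num)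
  have v₂ := ax c₂ (T.ha.conj _) (hti _ (Or.inr (Or.inl rfl))) (by norm_num)
  have v₃ := ax c₃ (T.ha.conj _) (hti _ (Or.inr (Or.inr rfl))) (by norm_num)
  rw [hx.dot c₁] at v₁
  rw [hx.dot c₂] at v₂
  rw [hx.dot c₃] at v₃
  simp only [mul_zero, zero_mul, mul_one, one_mul, mul_neg, neg_mul, add_zero, zero_add, zero_sub, sub_zero, neg_neg,
    sub_neg_eq_add, neg_zero] at v₁ v₂ v₃
  have e₁ : x₂ + x₃ = 1 - x₁ := by rw [← hsum]; abel
  have e₂ : x₁ + x₃ = 1 - x₂ := by rw [← hsum]; abel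
  have e₃ : x₁ + x₂ = 1 - x₃ := by rw [← hsum]; abel
  have two : (2 : Module.End L V) = 1 + 1 := by norm_num
  have four : ∀ y : Module.End L V, (4 : Module.End L V) * y = y + y + y + y := fun y => by
    rw [show (4 : Module.End L V) = 1 + 1 + 1 + 1 by norm_num]; simp only [add_mul, one_mul]
  have w₁ : Val (2 - 4 * x₁) := by
    rw [← T.F.quat_scalar (2 - 4 * x₁)]
    convert v₁ using 2 <;> first | abel1 | (rw [four, two]; linear_combination (norm := abel) -e₁ - e₁)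
  have w₂ : Val (2 - 4 * x₂) := by
    rw [← T.F.quat_scalar (2 - 4 * x₂)]
    convert v₂ using 2 <;> first | abel1 | (rw [four, two]; linear_combination (norm := abel) -e₂ - e₂)
  have w₃ : Val (2 - 4 * x₃) := by
    rw [← T.F.quat_scalar (2 - 4 * x₃)]
    convert v₃ using 2 <;> first | abel1 | (rw [four, two]; linear_combination (norm := abel) -e₃ - e₃)
  rcases coords h2 h3 hsum hq (val_axis h2 w₁) (val_axis h2 w₂) (val_axis h2 w₃) with ⟨he, hA⟩ | ⟨he, hA⟩ | ⟨he, hA⟩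
  · refine ⟨1, one_mem _, x₂, ?_⟩
    rw [show (1 : G) * c * 1⁻¹ = c by group]
    refine ⟨hc, hA, ?_⟩
    rwa [he, show x₃ = 1 - x₂ by rw [← hsum, he]; abel] at hx
  · refine ⟨T.a, T.a_mem, x₃, hc.conj _, hA, ?_⟩
    have := hx.conj_a h2
    rwa [he, show x₁ = 1 - x₃ by rw [← hsum, he]; abel] at this
  · refine ⟨T.a * T.a, mul_mem T.a_mem T.a_mem, x₁, hc.conj _, hA, ?_⟩
    have := (hx.conj_a h2).conj_a h2
    rw [show T.a * (T.a * c * T.a⁻¹) * T.a⁻¹ = (T.a * T.a) * c * (T.a * T.a)⁻¹ by group] at this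
    rwa [he, show x₂ = 1 - x₁ by rw [← hsum, he]; abel] at this

theorem Std.a_eq (h2 : (2 : L) ≠ 0) {c : G} {A : Module.End L V} (h : T.Std c A) :
    c⁻¹ * T.gj * c⁻¹ * T.gj * c * T.gj = T.a := by
  obtain ⟨hc, hA, h0, -, hA', hB, hg⟩ := h
  have o := Frame.Cen.one (F := T.F)
  have z := Frame.Cen.zero (F := T.F)
  have e1 : ∀ (x : G), (2 : Module.End L V) * P.ρ x = P.gam x - T.F.quat 1 0 0 0 := fun x => by
    rw [T.F.quat_scalar, gam, add_sub_cancel_right]
  have ec : (2 : Module.End L V) * P.ρ c = T.F.quat (-1) 0 A (1 - A) := by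
    rw [e1, hg, Frame.quat_sub]; simp
  have ec' : (2 : Module.End L V) * P.ρ c⁻¹ = T.F.quat (-1) 0 (-A) (-(1 - A)) := by
    rw [e1, P.gam_inv hc, hg, Frame.quat_neg, Frame.quat_sub]; simp
  have ea : (2 : Module.End L V) * P.ρ T.a = T.F.quat (-1) 1 1 1 := by
    rw [e1, T.hα, Frame.quat_sub]; simp
  refine P.injective (of_two_mul h2 (of_two_mul h2 (of_two_mul h2 ?_)))
  have c2 : ∀ y : Module.End L V, y * 2 = 2 * y := fun y => by
    rw [show (2 : Module.End L V) = 1 + 1 by norm_num, mul_add, add_mul, mul_one, one_mul]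
  calc (2 : Module.End L V) * (2 * (2 * P.ρ (c⁻¹ * T.gj * c⁻¹ * T.gj * c * T.gj)))
      = (2 * P.ρ c⁻¹) * P.ρ T.gj * (2 * P.ρ c⁻¹) * P.ρ T.gj * (2 * P.ρ c) * P.ρ T.gj := by
        simp only [map_mul]; rw [show (2 : Module.End L V) = 1 + 1 by norm_num]; noncomm_ring
    _ = 2 * (2 * (2 * P.ρ T.a)) := by
        have eA : ∀ y, A * (A * y) = A * y + y := fun y => by rw [← mul_assoc, hA, add_mul, one_mul]
        have two : (2 : Module.End L V) = 1 + 1 := by norm_num
        have cB := T.F.one_sub hA'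
        have s1 : T.F.quat (-1) 0 (-A) (-(1 - A)) * T.F.J = T.F.quat A (1 - A) (-1) 0 := by
          rw [T.F.J_eq, T.F.quat_mul z z o z]; congr 1 <;> simp
        have s2 : T.F.quat A (1 - A) (-1) 0 * T.F.quat (-1) 0 (-A) (-(1 - A)) = T.F.quat (-(2 * A)) 0 (2 - 2 * A) 2 := by
          rw [T.F.quat_mul T.F.neg_one_cen z hA'.neg hB.neg]
          congr 1 <;> (simp only [mul_sub, sub_mul, mul_neg, neg_mul, mul_one, one_mul, mul_zero, zero_mul, neg_neg,
            hA, two, add_mul, neg_zero, zero_add, add_zero]; abel)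
        have s3 : T.F.quat (-(2 * A)) 0 (2 - 2 * A) 2 * T.F.J = T.F.quat (2 * A - 2) (-2) (-(2 * A)) 0 := by
          rw [T.F.J_eq, T.F.quat_mul z z o z]; congr 1 <;> simp
        have s4 : T.F.quat (-1) 0 A (1 - A) * T.F.J = T.F.quat (-A) (-(1 - A)) (-1) 0 := by
          rw [T.F.J_eq, T.F.quat_mul z z o z]; congr 1 <;> simp
        rw [ea, ec, ec', T.hJ, mul_assoc _ (T.F.quat (-1) 0 A (1 - A)), s4, s1, s2, s3,
          T.F.quat_mul hA'.neg cB.neg T.F.neg_one_cen z, T.F.quat_smul_natCast, T.F.quat_smul_natCast]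
        congr 1 <;> (simp only [mul_sub, sub_mul, mul_neg, neg_mul, mul_one, one_mul, mul_zero, zero_mul, neg_neg,
            mul_assoc, hA, eA, two, add_mul, mul_add, neg_zero, zero_add, add_zero]; abel)

theorem Std.T0_le (h2 : (2 : L) ≠ 0) {c : G} {A : Module.End L V} (h : T.Std c A) :
    T.T0 ≤ Subgroup.closure {c, T.gj} := by
  have hc : c ∈ Subgroup.closure ({c, T.gj} : Set G) := Subgroup.subset_closure (Set.mem_insert _ _)
  have hj : T.gj ∈ Subgroup.closure ({c, T.gj} : Set G) := Subgroup.subset_closure (Set.mem_insert_of_mem _ rfl)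
  have ha : T.a ∈ Subgroup.closure ({c, T.gj} : Set G) := by
    rw [← h.a_eq h2]
    exact mul_mem (mul_mem (mul_mem (mul_mem (mul_mem (inv_mem hc) hj) (inv_mem hc)) hj) hc) hj
  have hi : T.gi = T.a * T.gj * T.a⁻¹ := by
    refine P.injective (of_two_mul h2 ?_)
    have hj' : T.Coef T.a 0 1 1 1 := T.coef_a
    have key : (2 : Module.End L V) * P.ρ (T.a * T.gj * T.a⁻¹) = 2 * T.F.I := by
      refine of_two_mul h2 ?_
      have o := Frame.Cen.one (F := T.F)
      have z := Frame.Cen.zero (F := T.F)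
      have e1 : ∀ (x : G), (2 : Module.End L V) * P.ρ x = P.gam x - T.F.quat 1 0 0 0 := fun x => by
        rw [T.F.quat_scalar, gam, add_sub_cancel_right]
      have c2 : ∀ y : Module.End L V, y * 2 = 2 * y := fun y => by
        rw [show (2 : Module.End L V) = 1 + 1 by norm_num, mul_add, add_mul, mul_one, one_mul]
      calc (2 : Module.End L V) * (2 * P.ρ (T.a * T.gj * T.a⁻¹)) = (2 * P.ρ T.a) * P.ρ T.gj * (2 * P.ρ T.a⁻¹) := by
            simp only [map_mul]; rw [show (2 : Module.End L V) = 1 + 1 by norm_num]; noncomm_ring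
        _ = 2 * (2 * T.F.I) := by
            rw [e1, e1, P.gam_inv T.ha, T.hα, Frame.quat_neg, Frame.quat_sub, Frame.quat_sub, T.hJ, T.F.J_eq,
              T.F.I_eq, T.F.quat_mul z z o z]
            rw [T.F.quat_mul (z.neg.sub o) (o.neg.sub z) (o.neg.sub z) (o.neg.sub z), T.F.quat_smul_natCast,
              T.F.quat_smul_natCast]
            congr 1 <;> norm_num
    rw [T.hI, key]
  rw [T0, Subgroup.closure_le]
  rintro x (rfl | rfl | rfl)
  exacts [ha, hi ▸ mul_mem (mul_mem ha hj) (inv_mem ha), hj]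

theorem std_mem (h2 : (2 : L) ≠ 0) (p : ℕ) [Fact p.Prime] [CharP L p] {c c' : G} {A A' : Module.End L V}
    (h : T.Std c A) (h' : T.Std c' A') : c' ∈ Subgroup.closure {c, T.gj} := by
  have hc : c ∈ Subgroup.closure ({c, T.gj} : Set G) := Subgroup.subset_closure (Set.mem_insert _ _)
  have hle := h.T0_le h2
  by_contra hmem
  have hval : ∀ k ∈ T.T0, Val (P.dot c (k * c' * k⁻¹)) := by
    intro k hk
    have hk' := hle hk
    rcases dot_val (P := P) h2 p h.1 (h'.1.conj k) with e | e | e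
    · refine absurd ?_ hmem
      rw [show c' = k⁻¹ * (k * c' * k⁻¹) * k by group, e]
      exact mul_mem (mul_mem (inv_mem hk') hc) hk'
    · refine absurd ?_ hmem
      rw [show c' = k⁻¹ * (k * c' * k⁻¹) * k by group, e]
      exact mul_mem (mul_mem (inv_mem hk') (inv_mem hc)) hk'
    · exact e
  obtain ⟨hc1, hA, hx⟩ := h
  obtain ⟨hc2, hA', hx'⟩ := h'
  have o := Frame.Cen.one (F := T.F)
  have z := Frame.Cen.zero (F := T.F)
  have cA : T.F.Cen A := hx.2.2.1
  have cA' : T.F.Cen A' := hx'.2.2.1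
  have v₁ := hval 1 (one_mem _)
  have v₂ := hval T.gj T.gj_mem
  have v₃ := hval (T.a * T.a) (mul_mem T.a_mem T.a_mem)
  rw [show (1 : G) * c' * 1⁻¹ = c' by group, hx.dot hx'] at v₁
  rw [hx.dot hx'.conj_gj] at v₂
  rw [show T.a * T.a * c' * (T.a * T.a)⁻¹ = T.a * (T.a * c' * T.a⁻¹) * T.a⁻¹ by group,
    hx.dot ((hx'.conj_a h2).conj_a h2)] at v₃
  simp only [mul_zero, zero_mul, add_zero, zero_add, zero_sub, sub_zero, neg_zero, mul_neg, neg_mul, sub_neg_eq_add,
    neg_neg] at v₁ v₂ v₃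
  have two : (2 : Module.End L V) = 1 + 1 := by norm_num
  have four : (4 : Module.End L V) = 1 + 1 + 1 + 1 := by norm_num
  set D₁ : Module.End L V := -(A * A' + A' * A) - ((1 - A) * (1 - A') + (1 - A') * (1 - A)) with hD₁
  set C : Module.End L V := A * A' - A' * A with hC
  have cC : T.F.Cen C := (cA.mul cA').sub (cA'.mul cA)
  have f₁ : Val D₁ := by
    rw [← T.F.quat_scalar D₁]
    convert v₁ using 2 <;> first | (rw [hD₁]; noncomm_ring) | noncomm_ring
  have f₂ : Val (T.F.quat (2 - 2 * A - 2 * A') (2 * C) 0 0) := by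
    convert v₂ using 2 <;> (simp only [hC, two]; noncomm_ring)
  set S : Module.End L V := A * A' + A' * A - 2 * A' with hS
  have f₃ : Val (T.F.quat S C C C) := by
    convert v₃ using 2 <;> (simp only [hC, hS, two]; noncomm_ring)
  have r5 : ∀ {X : Module.End L V}, X * X = X + 1 → (1 - 2 * X) * (1 - 2 * X) = 5 := fun {X} e => by
    calc (1 - 2 * X) * (1 - 2 * X) = 4 * (X * X) - 4 * X + 1 := by rw [two, four]; noncomm_ring
      _ = 5 := by rw [e, mul_add, add_sub_cancel_left]; norm_num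
  have cS : T.F.Cen S := ((cA.mul cA').add (cA'.mul cA)).sub (T.F.two_cen.mul cA')
  have cu : T.F.Cen (2 - 2 * A - 2 * A') := (T.F.two_cen.sub (T.F.two_cen.mul cA)).sub (T.F.two_cen.mul cA')
  have cw : T.F.Cen (2 * C) := T.F.two_cen.mul cC
  refine false_of_roots h2 (r5 hA) (r5 hA') (d₁ := D₁) (by rw [hD₁, two]; noncomm_ring) f₁ (w := 2 * C)
    (by rw [hC, two]; noncomm_ring) ?_ ?_
  · have eu : (1 - 2 * A) + (1 - 2 * A') = 2 - 2 * A - 2 * A' := by rw [two]; noncomm_ring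
    rw [eu]
    rcases f₂ with e | e | e
    · obtain ⟨e0, e1, -, -⟩ := quat_scalar_inj h2 cu cw z z T.F.two_cen e
      exact Or.inl ⟨e0, e1⟩
    · obtain ⟨e0, e1, -, -⟩ := quat_scalar_inj h2 cu cw z z T.F.two_cen.neg e
      exact Or.inr (Or.inl ⟨e0, e1⟩)
    · rw [T.F.quat_mul cu cw z z] at e
      simp only [mul_zero, zero_mul, add_zero, sub_zero] at e
      exact Or.inr (Or.inr (quat_scalar_inj h2 ((cu.mul cu).sub (cw.mul cw)) ((cu.mul cw).add (cw.mul cu)) z z
        (Frame.Cen.ofNat 20) e).1)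
  · intro ht
    rcases f₃ with e | e | e
    · left; rw [(quat_scalar_inj h2 cS cC cC cC T.F.two_cen e).2.1, mul_zero]
    · left; rw [(quat_scalar_inj h2 cS cC cC cC T.F.two_cen.neg e).2.1, mul_zero]
    · right
      rw [T.F.quat_mul cS cC cC cC] at e
      have e' := (quat_scalar_inj h2 ((((cS.mul cS).sub (cC.mul cC)).sub (cC.mul cC)).sub (cC.mul cC))
        ((((cS.mul cC).add (cC.mul cS)).add (cC.mul cC)).sub (cC.mul cC))
        ((((cS.mul cC).sub (cC.mul cC)).add (cC.mul cS)).add (cC.mul cC))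
        ((((cS.mul cC).add (cC.mul cC)).sub (cC.mul cC)).add (cC.mul cS)) (Frame.Cen.ofNat 20) e).2.1
      rw [add_sub_cancel_right] at e'
      have e4 : -8 - 2 * (1 - 2 * A) + 2 * (1 - 2 * A') = 4 * S := by
        calc -8 - 2 * (1 - 2 * A) + 2 * (1 - 2 * A')
            = -2 - 2 * (1 - 2 * A) + 2 * (1 - 2 * A') + (-6) := by
              rw [show (-8 : Module.End L V) = -2 + -6 by norm_num]; abel
          _ = 4 * S := by rw [← ht, hS, two, four]; noncomm_ring
      rw [e4]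
      calc 4 * S * (2 * (2 * C)) + 2 * (2 * C) * (4 * S) = 16 * (S * C + C * S) := by
            rw [show (16 : Module.End L V) = 4 * 4 by norm_num, two, four]; noncomm_ring
        _ = 0 := by rw [e', mul_zero]

end Tetra

end Rep

end CfsgLib.Recog.Zassenhaus
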