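import Mathlib

/-!
# Quaternion frames in an algebra

`I`, `J` anticommuting square roots of `-1` in an algebra `R` split `R` as the quaternions over the
centralizer of `{I, J}`.
-/

set_option autoImplicit false
set_option linter.all false

namespace CfsgLib.Recog.Zassenhaus

variable {L R : Type*} [Field L] [Ring R] [Algebra L R]

theorem eq_zero_of_natMul {n : ℕ} (hn : (n : L) ≠ 0) {x : R} (h : (n : R) * x = 0) : x = 0 := by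
  rw [← map_natCast (algebraMap L R) n, ← Algebra.smul_def] at h
  exact (smul_eq_zero_iff_right hn).1 h

theorem eq_of_natMul {n : ℕ} (hn : (n : L) ≠ 0) {x y : R} (h : (n : R) * x = n * y) : x = y :=
  sub_eq_zero.1 (eq_zero_of_natMul hn (by rw [mul_sub, h, sub_self]))

theorem natCast_ne {n : ℕ} [Nontrivial R] (hn : (n : L) ≠ 0) : (n : R) ≠ 0 := fun h =>
  one_ne_zero (eq_zero_of_natMul hn (x := (1 : R)) (by rw [h, zero_mul]))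

/-- A quaternion frame. -/
structure Frame (R : Type*) [Ring R] where
  I : R
  J : R
  hI : I * I = -1
  hJ : J * J = -1
  hJI : J * I = -(I * J)

namespace Frame

variable (F : Frame R)

theorem hI' (z : R) : F.I * (F.I * z) = -z := by rw [← mul_assoc, F.hI, neg_one_mul]

theorem hJ' (z : R) : F.J * (F.J * z) = -z := by rw [← mul_assoc, F.hJ, neg_one_mul]

theorem hJI' (z : R) : F.J * (F.I * z) = -(F.I * (F.J * z)) := by
  rw [← mul_assoc, F.hJI, neg_mul, mul_assoc]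

/-- Commuting with the frame. -/
def Cen (x : R) : Prop := Commute F.I x ∧ Commute F.J x

variable {F}

theorem Cen.zero : F.Cen 0 := ⟨Commute.zero_right _, Commute.zero_right _⟩
theorem Cen.one : F.Cen 1 := ⟨Commute.one_right _, Commute.one_right _⟩
theorem Cen.natCast (n : ℕ) : F.Cen n := ⟨(Nat.cast_commute n F.I).symm, (Nat.cast_commute n F.J).symm⟩
theorem Cen.ofNat (n : ℕ) [n.AtLeastTwo] : F.Cen (OfNat.ofNat n : R) := Cen.natCast n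
theorem Cen.add {x y : R} (hx : F.Cen x) (hy : F.Cen y) : F.Cen (x + y) :=
  ⟨hx.1.add_right hy.1, hx.2.add_right hy.2⟩
theorem Cen.neg {x : R} (hx : F.Cen x) : F.Cen (-x) := ⟨hx.1.neg_right, hx.2.neg_right⟩
theorem Cen.sub {x y : R} (hx : F.Cen x) (hy : F.Cen y) : F.Cen (x - y) :=
  ⟨hx.1.sub_right hy.1, hx.2.sub_right hy.2⟩
theorem Cen.mul {x y : R} (hx : F.Cen x) (hy : F.Cen y) : F.Cen (x * y) :=
  ⟨hx.1.mul_right hy.1, hx.2.mul_right hy.2⟩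
theorem Cen.smul (c : L) {x : R} (hx : F.Cen x) : F.Cen (c • x) :=
  ⟨hx.1.smul_right c, hx.2.smul_right c⟩

variable (F)

/-- The quaternion with the given coefficients. -/
def quat (c₀ c₁ c₂ c₃ : R) : R := c₀ + c₁ * F.I + c₂ * F.J + c₃ * (F.I * F.J)

theorem quat_scalar (c : R) : F.quat c 0 0 0 = c := by simp [quat]

theorem quat_add (c₀ c₁ c₂ c₃ d₀ d₁ d₂ d₃ : R) :
    F.quat c₀ c₁ c₂ c₃ + F.quat d₀ d₁ d₂ d₃ = F.quat (c₀ + d₀) (c₁ + d₁) (c₂ + d₂) (c₃ + d₃) := by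
  simp only [quat]; noncomm_ring

theorem quat_neg (c₀ c₁ c₂ c₃ : R) : -F.quat c₀ c₁ c₂ c₃ = F.quat (-c₀) (-c₁) (-c₂) (-c₃) := by
  simp only [quat]; noncomm_ring

theorem quat_sub (c₀ c₁ c₂ c₃ d₀ d₁ d₂ d₃ : R) :
    F.quat c₀ c₁ c₂ c₃ - F.quat d₀ d₁ d₂ d₃ = F.quat (c₀ - d₀) (c₁ - d₁) (c₂ - d₂) (c₃ - d₃) := by
  rw [sub_eq_add_neg, quat_neg, quat_add]; simp only [sub_eq_add_neg]

theorem quat_mul {c₀ c₁ c₂ c₃ d₀ d₁ d₂ d₃ : R} (h₀ : F.Cen d₀) (h₁ : F.Cen d₁) (h₂ : F.Cen d₂) (h₃ : F.Cen d₃) :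
    F.quat c₀ c₁ c₂ c₃ * F.quat d₀ d₁ d₂ d₃ =
      F.quat (c₀ * d₀ - c₁ * d₁ - c₂ * d₂ - c₃ * d₃) (c₀ * d₁ + c₁ * d₀ + c₂ * d₃ - c₃ * d₂)
        (c₀ * d₂ - c₁ * d₃ + c₂ * d₀ + c₃ * d₁) (c₀ * d₃ + c₁ * d₂ - c₂ * d₁ + c₃ * d₀) := by
  have a₀ : ∀ z, F.I * (d₀ * z) = d₀ * (F.I * z) := fun z => by rw [← mul_assoc, h₀.1.eq, mul_assoc]
  have a₁ : ∀ z, F.I * (d₁ * z) = d₁ * (F.I * z) := fun z => by rw [← mul_assoc, h₁.1.eq, mul_assoc]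
  have a₂ : ∀ z, F.I * (d₂ * z) = d₂ * (F.I * z) := fun z => by rw [← mul_assoc, h₂.1.eq, mul_assoc]
  have a₃ : ∀ z, F.I * (d₃ * z) = d₃ * (F.I * z) := fun z => by rw [← mul_assoc, h₃.1.eq, mul_assoc]
  have b₀ : ∀ z, F.J * (d₀ * z) = d₀ * (F.J * z) := fun z => by rw [← mul_assoc, h₀.2.eq, mul_assoc]
  have b₁ : ∀ z, F.J * (d₁ * z) = d₁ * (F.J * z) := fun z => by rw [← mul_assoc, h₁.2.eq, mul_assoc]
  have b₂ : ∀ z, F.J * (d₂ * z) = d₂ * (F.J * z) := fun z => by rw [← mul_assoc, h₂.2.eq, mul_assoc]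
  have b₃ : ∀ z, F.J * (d₃ * z) = d₃ * (F.J * z) := fun z => by rw [← mul_assoc, h₃.2.eq, mul_assoc]
  simp only [quat, add_mul, mul_add, sub_mul, mul_sub, mul_assoc, a₀, a₁, a₂, a₃, b₀, b₁, b₂, b₃, h₀.1.eq, h₀.2.eq, h₁.1.eq, h₁.2.eq, h₂.1.eq, h₂.2.eq, h₃.1.eq, h₃.2.eq,
    F.hI, F.hJ, F.hJI, F.hI', F.hJ', F.hJI', mul_neg, neg_mul, mul_one, neg_neg]
  noncomm_ring

/-- The scalar coefficient, up to a factor four. -/
def tr (x : R) : R := x - F.I * x * F.I - F.J * x * F.J - F.I * F.J * x * (F.I * F.J)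

theorem tr_cen (x : R) : F.Cen (F.tr x) := by
  constructor <;>
  · show _ * _ = _ * _
    simp only [tr, add_mul, mul_add, sub_mul, mul_sub, mul_assoc, F.hI, F.hJ, F.hJI, F.hI', F.hJ', F.hJI',
      mul_neg, neg_mul, mul_one, neg_neg]
    abel

theorem tr_quat {c₀ c₁ c₂ c₃ : R} (h₀ : F.Cen c₀) (h₁ : F.Cen c₁) (h₂ : F.Cen c₂) (h₃ : F.Cen c₃) :
    F.tr (F.quat c₀ c₁ c₂ c₃) = 4 * c₀ := by
  have z := Cen.zero (F := F)
  have o := Cen.one (F := F)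
  have eI : F.I = F.quat 0 1 0 0 := by simp [quat]
  have eJ : F.J = F.quat 0 0 1 0 := by simp [quat]
  have eK : F.I * F.J = F.quat 0 0 0 1 := by simp [quat]
  rw [tr, eK, eI, eJ, F.quat_mul h₀ h₁ h₂ h₃, F.quat_mul z o z z, F.quat_mul h₀ h₁ h₂ h₃, F.quat_mul z z o z,
    F.quat_mul h₀ h₁ h₂ h₃, F.quat_mul z z z o]
  simp only [quat_sub, mul_zero, zero_mul, mul_one, one_mul, sub_zero, zero_sub, add_zero, zero_add, sub_neg_eq_add,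
    neg_neg, neg_zero]
  rw [show F.quat (c₀ + c₀ + c₀ + c₀) _ _ _ = F.quat (4 * c₀) 0 0 0 by congr 1 <;> first | noncomm_ring | abel,
    quat_scalar]

theorem tr_mul_reconstruct (x : R) :
    F.quat (F.tr x) (F.tr (-(x * F.I))) (F.tr (-(x * F.J))) (F.tr (-(x * (F.I * F.J)))) = 4 * x := by
  simp only [quat, tr, add_mul, mul_add, sub_mul, mul_sub, mul_assoc, F.hI, F.hJ, F.hJI, F.hI', F.hJ', F.hJI',
      mul_neg, neg_mul, mul_one, neg_neg]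
  noncomm_ring

/-- Existence of coefficients. -/
theorem exists_quat (h2 : (2 : L) ≠ 0) (x : R) :
    ∃ c₀ c₁ c₂ c₃, F.Cen c₀ ∧ F.Cen c₁ ∧ F.Cen c₂ ∧ F.Cen c₃ ∧ x = F.quat c₀ c₁ c₂ c₃ := by
  have h4 : ((4 : ℕ) : L) ≠ 0 := by
    rw [show ((4 : ℕ) : L) = 2 * 2 by norm_num]; exact mul_ne_zero h2 h2
  let q : R → R := fun y => ((4 : L)⁻¹) • F.tr y
  refine ⟨q x, q (-(x * F.I)), q (-(x * F.J)), q (-(x * (F.I * F.J))), (F.tr_cen _).smul _, (F.tr_cen _).smul _,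
    (F.tr_cen _).smul _, (F.tr_cen _).smul _, ?_⟩
  have hx : (4 : R) * x = algebraMap L R 4 * x := by rw [map_ofNat]
  have e := F.tr_mul_reconstruct x
  rw [hx, ← Algebra.smul_def] at e
  have h4' : (4 : L) ≠ 0 := by exact_mod_cast h4
  have e2 := congrArg (fun y : R => ((4 : L)⁻¹) • y) e
  simp only [inv_smul_smul₀ h4'] at e2
  refine e2.symm.trans ?_
  simp only [quat, q, smul_add, smul_mul_assoc]

/-- Uniqueness of coefficients. -/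
theorem quat_inj (h2 : (2 : L) ≠ 0) {c₀ c₁ c₂ c₃ d₀ d₁ d₂ d₃ : R} (h₀ : F.Cen c₀) (h₁ : F.Cen c₁) (h₂ : F.Cen c₂)
    (h₃ : F.Cen c₃) (g₀ : F.Cen d₀) (g₁ : F.Cen d₁) (g₂ : F.Cen d₂) (g₃ : F.Cen d₃)
    (h : F.quat c₀ c₁ c₂ c₃ = F.quat d₀ d₁ d₂ d₃) : c₀ = d₀ ∧ c₁ = d₁ ∧ c₂ = d₂ ∧ c₃ = d₃ := by
  have h4 : ((4 : ℕ) : L) ≠ 0 := by
    rw [show ((4 : ℕ) : L) = 2 * 2 by norm_num]; exact mul_ne_zero h2 h2
  have z := Cen.zero (F := F)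
  have o := Cen.one (F := F)
  have key : ∀ {a b : R}, (4 : R) * a = 4 * b → a = b := fun {a b} hab =>
    eq_of_natMul h4 (by exact_mod_cast hab)
  have e₁ := congrArg (fun y => F.tr (y * F.quat 0 1 0 0)) h
  have e₂ := congrArg (fun y => F.tr (y * F.quat 0 0 1 0)) h
  have e₃ := congrArg (fun y => F.tr (y * F.quat 0 0 0 1)) h
  have e₀ := congrArg F.tr h
  rw [F.tr_quat h₀ h₁ h₂ h₃, F.tr_quat g₀ g₁ g₂ g₃] at e₀
  simp only [F.quat_mul z o z z, F.quat_mul z z o z, F.quat_mul z z z o, mul_zero, zero_mul, mul_one, sub_zero, zero_sub,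
    add_zero, zero_add] at e₁ e₂ e₃
  rw [F.tr_quat h₁.neg h₀ h₃ h₂.neg, F.tr_quat g₁.neg g₀ g₃ g₂.neg] at e₁
  rw [F.tr_quat h₂.neg h₃.neg h₀ h₁, F.tr_quat g₂.neg g₃.neg g₀ g₁] at e₂
  rw [F.tr_quat h₃.neg h₂ h₁.neg h₀, F.tr_quat g₃.neg g₂ g₁.neg g₀] at e₃
  exact ⟨key e₀, neg_inj.1 (key e₁), neg_inj.1 (key e₂), neg_inj.1 (key e₃)⟩

end Frame

end CfsgLib.Recog.Zassenhaus
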