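import Cfsg.Agent.Lib.Recog.Zassenhaus.Frame

/-!
# Identities for the classification of the axes
-/

set_option autoImplicit false
set_option linter.all false

namespace CfsgLib.Recog.Zassenhaus

variable {L R : Type*} [Field L] [Ring R] [Algebra L R] [Nontrivial R]

/-- Being `±2` or a square root of twenty. -/
def Val (s : R) : Prop := s = 2 ∨ s = -2 ∨ s * s = 20

theorem false_of_two_pow (h2 : (2 : L) ≠ 0) {k : ℕ} (h : ((2 ^ k : ℕ) : R) = 0) : False :=
  natCast_ne (R := R) (L := L) (by rw [Nat.cast_pow]; exact pow_ne_zero _ (by exact_mod_cast h2)) h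

theorem of_two_mul (h2 : (2 : L) ≠ 0) {x y : R} (h : (2 : R) * x = 2 * y) : x = y :=
  eq_of_natMul (L := L) (n := 2) (by exact_mod_cast h2) (by exact_mod_cast h)

theorem val_neg {s : R} (h : Val s) : Val (-s) := by
  rcases h with h | h | h
  · exact Or.inr (Or.inl (by rw [h]))
  · exact Or.inl (by rw [h, neg_neg])
  · exact Or.inr (Or.inr (by rw [neg_mul_neg, h]))

/-- `-2 (2 x - 1)` is admissible only if `x` is `0`, `1` or a root of `x² = x + 1`. -/
theorem val_axis (h2 : (2 : L) ≠ 0) {x : R} (h : Val (2 - 4 * x)) : x = 0 ∨ x = 1 ∨ x * x = x + 1 := by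
  rcases h with h | h | h
  · left
    refine of_two_mul h2 (of_two_mul h2 ?_)
    rw [mul_zero, mul_zero, ← mul_assoc, show (2 : R) * 2 = 4 by norm_num]
    exact (sub_eq_self).1 h
  · right; left
    refine of_two_mul h2 (of_two_mul h2 ?_)
    rw [← mul_assoc, show (2 : R) * 2 = 4 by norm_num, mul_one]
    calc (4 : R) * x = 2 - (2 - 4 * x) := by rw [sub_sub_cancel]
      _ = 2 * 2 := by rw [h]; norm_num
  · right; right
    refine of_two_mul h2 (of_two_mul h2 (of_two_mul h2 (of_two_mul h2 ?_)))
    have e : (2 - 4 * x) * (2 - 4 * x) + 16 * (x + 1) = 16 * (x * x) + 20 := by noncomm_ring <;> norm_num <;> (rw [add_left_comm]; norm_num)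
    rw [h, add_comm] at e
    have e' := add_right_cancel e
    simp only [← mul_assoc]
    norm_num
    rw [mul_assoc]
    exact e'.symm

/-- The three coordinates of an element forming a tetrahedral pair with `(1,1,1)`. -/
theorem coords (h2 : (2 : L) ≠ 0) (h3 : (3 : L) ≠ 0) {x y z : R} (hs : x + y + z = 1)
    (hq : x * x + y * y + z * z = 3) (hx : x = 0 ∨ x = 1 ∨ x * x = x + 1) (hy : y = 0 ∨ y = 1 ∨ y * y = y + 1)
    (hz : z = 0 ∨ z = 1 ∨ z * z = z + 1) :
    (x = 0 ∧ y * y = y + 1) ∨ (y = 0 ∧ z * z = z + 1) ∨ (z = 0 ∧ x * x = x + 1) := by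
  have sq : ∀ {w : R}, (w = 0 ∨ w = 1 ∨ w * w = w + 1) → w * w = w ∨ w * w = w + 1 := by
    rintro w (h | h | h)
    exacts [Or.inl (by rw [h, mul_zero]), Or.inl (by rw [h, mul_one]), Or.inr h]
  -- an idempotent coordinate is not `1`
  have key : ∀ {u v w : R}, u + v + w = 1 → u * u + v * v + w * w = 3 → (u = 0 ∨ u = 1) →
      v * v = v + 1 → w * w = w + 1 → u = 0 := by
    rintro u v w hs hq (h | h) hv hw
    · exact h
    · exfalso
      subst h
      have hw' : w = -v := by linear_combination (norm := abel) hs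
      have h1 : v * v = w * w := by rw [hw', neg_mul_neg]
      rw [hv, hw, add_left_inj] at h1
      have hv0 : v = 0 := by
        refine of_two_mul h2 ?_
        rw [mul_zero, two_mul]
        nth_rewrite 2 [h1]
        rw [hw', add_neg_cancel]
      rw [hv0, mul_zero, zero_add] at hv
      exact zero_ne_one hv
  have two : ((2 ^ 1 : ℕ) : R) = 0 → False := false_of_two_pow h2
  rcases sq hx with ex | ex <;> rcases sq hy with ey | ey <;> rcases sq hz with ez | ez <;>
    rw [ex, ey, ez] at hq
  · exfalso; rw [hs] at hq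
    refine two ?_
    calc ((2 ^ 1 : ℕ) : R) = 3 - 1 := by norm_num
      _ = 0 := by rw [← hq, sub_self]
  · exfalso
    have : x + y + z + 1 = 3 := by rw [← hq]; abel
    rw [hs] at this
    refine natCast_ne (R := R) (L := L) (n := 1) (by simp) ?_
    calc ((1 : ℕ) : R) = 3 - (1 + 1) := by norm_num
      _ = 0 := by rw [this, sub_self]
  · exfalso
    have : x + y + z + 1 = 3 := by rw [← hq]; abel
    rw [hs] at this
    refine natCast_ne (R := R) (L := L) (n := 1) (by simp) ?_
    calc ((1 : ℕ) : R) = 3 - (1 + 1) := by norm_num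
      _ = 0 := by rw [this, sub_self]
  · left
    refine ⟨key hs (by rw [ex, ey, ez, hq]) ?_ ey ez, ey⟩
    rcases hx with h | h | h
    exacts [Or.inl h, Or.inr h, absurd (h.symm.trans ex) (by simp)]
  · exfalso
    have : x + y + z + 1 = 3 := by rw [← hq]; abel
    rw [hs] at this
    refine natCast_ne (R := R) (L := L) (n := 1) (by simp) ?_
    calc ((1 : ℕ) : R) = 3 - (1 + 1) := by norm_num
      _ = 0 := by rw [this, sub_self]
  · right; left
    refine ⟨key (u := y) (v := z) (w := x) (by rw [← hs]; abel) (by rw [ex, ey, ez, ← hq]; abel) ?_ ez ex, ez⟩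
    rcases hy with h | h | h
    exacts [Or.inl h, Or.inr h, absurd (h.symm.trans ey) (by simp)]
  · right; right
    refine ⟨key (u := z) (v := x) (w := y) (by rw [← hs]; abel) (by rw [ex, ey, ez, ← hq]; abel) ?_ ex ey, ex⟩
    rcases hz with h | h | h
    exacts [Or.inl h, Or.inr h, absurd (h.symm.trans ez) (by simp)]
  · exfalso
    have : x + y + z + 3 = 3 := by
      rw [show (3 : R) = 1 + 1 + 1 by norm_num] at hq ⊢
      linear_combination (norm := abel) hq
    rw [add_eq_right, hs] at this
    exact one_ne_zero this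

/-- No two independent roots of five give three admissible values. -/
theorem false_of_roots (h2 : (2 : L) ≠ 0) {r r' : R} (hr : r * r = 5) (hr' : r' * r' = 5)
    {d₁ : R} (hd₁ : 2 * d₁ = -2 - (r * r' + r' * r)) (hv₁ : Val d₁) {w : R}
    (hw : 2 * w = r * r' - r' * r)
    (hv₂ : (r + r' = 2 ∧ w = 0) ∨ (r + r' = -2 ∧ w = 0) ∨ (r + r') * (r + r') - w * w = 20)
    (hv₃ : r * r' + r' * r = -6 → w = 0 ∨ (-8 - 2 * r + 2 * r') * (2 * w) + (2 * w) * (-8 - 2 * r + 2 * r') = 0) : False := by
  have eA : ∀ z, r * (r * z) = 5 * z := fun z => by rw [← mul_assoc, hr]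
  have eB : ∀ z, r' * (r' * z) = 5 * z := fun z => by rw [← mul_assoc, hr']
  have c5 : ∀ z : R, z * 5 = 5 * z := fun z => ((Nat.cast_commute 5 z).eq).symm
  have c5' : ∀ y z : R, y * (5 * z) = 5 * (y * z) := fun y z => by rw [← mul_assoc, c5, mul_assoc]
  set t := r * r' + r' * r with ht
  have hsum : (r + r') * (r + r') = 10 + t := by
    rw [ht]
    calc (r + r') * (r + r') = r * r + r' * r' + (r * r' + r' * r) := by noncomm_ring
      _ = _ := by rw [hr, hr']; norm_num
  have hCsq : (r * r' - r' * r) * (r * r' - r' * r) = t * t - 100 := by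
    have h1 : r * r' * (r' * r) = 25 := by rw [mul_assoc, eB, c5', hr]; norm_num
    have h1' : r' * r * (r * r') = 25 := by rw [mul_assoc, eA, c5', hr']; norm_num
    calc (r * r' - r' * r) * (r * r' - r' * r)
        = (r * r' + r' * r) * (r * r' + r' * r) - (r * r' * (r' * r) + r' * r * (r * r') + r * r' * (r' * r) + r' * r * (r * r')) := by
          noncomm_ring
      _ = t * t - 100 := by rw [h1, h1', ← ht]; norm_num
  -- `w = 0` is impossible once `t = -6`
  have hw0 : w = 0 → t = -6 → False := by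
    intro h0 ht6
    rw [← hw, h0, mul_zero, mul_zero, ht6] at hCsq
    refine false_of_two_pow (R := R) h2 (k := 6) ?_
    calc ((2 ^ 6 : ℕ) : R) = 100 - (-6) * (-6) := by norm_num
      _ = 0 := by rw [← neg_sub, ← hCsq, neg_zero]
  rcases hv₂ with ⟨hu, h0⟩ | ⟨hu, h0⟩ | hu
  · refine hw0 h0 ?_
    rw [hu] at hsum
    calc t = (10 + t) - 10 := by rw [add_sub_cancel_left]
      _ = -6 := by rw [← hsum]; norm_num
  · refine hw0 h0 ?_
    rw [hu] at hsum
    calc t = (10 + t) - 10 := by rw [add_sub_cancel_left]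
      _ = -6 := by rw [← hsum]; norm_num
  -- the quadratic relation for `t`
  have hq : t * t = 4 * t + 60 := by
    have e : (2 * w) * (2 * w) = 4 * (w * w) := by noncomm_ring <;> norm_num <;> (rw [add_left_comm]; norm_num)
    have hww : w * w = (r + r') * (r + r') - 20 := by rw [← hu, sub_sub_cancel]
    rw [hw, hCsq, hww, hsum] at e
    calc t * t = (t * t - 100) + 100 := by rw [sub_add_cancel]
      _ = 4 * t + 60 := by rw [e]; noncomm_ring <;> norm_num <;> (rw [add_left_comm]; norm_num)
  rcases hv₁ with h | h | h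
  · rw [h] at hd₁
    have ht6 : t = -6 := by
      calc t = -2 - (-2 - t) := by rw [sub_sub_cancel]
        _ = -6 := by rw [← hd₁]; norm_num
    rcases hv₃ ht6 with h0 | h0
    · exact hw0 h0 ht6
    · refine hw0 ?_ ht6
      have hcross : (r' - r) * (r * r' - r' * r) + (r * r' - r' * r) * (r' - r) = 0 := by
        simp only [sub_mul, mul_sub, add_mul, mul_assoc, eA, eB, hr, hr', c5, c5']
        abel
      rw [hw] at h0
      have e : (16 : R) * (r * r' - r' * r) = 0 := by
        calc (16 : R) * (r * r' - r' * r) = 2 * ((r' - r) * (r * r' - r' * r) + (r * r' - r' * r) * (r' - r)) -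
              ((-8 - 2 * r + 2 * r') * (r * r' - r' * r) + (r * r' - r' * r) * (-8 - 2 * r + 2 * r')) := by
              noncomm_ring <;> norm_num <;> (rw [add_left_comm]; norm_num)
          _ = 0 := by rw [hcross, h0]; simp
      rw [← hw, ← mul_assoc, show (16 : R) * 2 = ((2 ^ 5 : ℕ) : R) by norm_num] at e
      exact eq_zero_of_natMul (L := L) (by rw [Nat.cast_pow]; exact pow_ne_zero _ (by exact_mod_cast h2)) e
  · rw [h] at hd₁
    have ht2 : t = 2 := by
      calc t = -2 - (-2 - t) := by rw [sub_sub_cancel]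
        _ = 2 := by rw [← hd₁]; norm_num
    rw [ht2] at hq
    refine false_of_two_pow (R := R) h2 (k := 6) ?_
    calc ((2 ^ 6 : ℕ) : R) = (4 * 2 + 60) - 2 * 2 := by norm_num
      _ = 0 := by rw [← hq, sub_self]
  · have e : t * t + 4 * t = 76 := by
      calc t * t + 4 * t = (-2 - t) * (-2 - t) - 4 := by noncomm_ring <;> norm_num <;> (rw [add_left_comm]; norm_num)
        _ = (2 * d₁) * (2 * d₁) - 4 := by rw [hd₁]
        _ = 4 * (d₁ * d₁) - 4 := by noncomm_ring <;> norm_num <;> (rw [add_left_comm]; norm_num)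
        _ = 76 := by rw [h]; norm_num
    have h8 : (8 : R) * t = 8 * 2 := by
      rw [hq] at e
      calc (8 : R) * t = (4 * t + 60 + 4 * t) - 60 := by noncomm_ring <;> norm_num <;> (rw [add_left_comm]; norm_num)
        _ = 8 * 2 := by rw [e]; norm_num
    have ht2 : t = 2 := eq_of_natMul (L := L) (n := 8)
      (by rw [show ((8 : ℕ) : L) = 2 ^ 3 by norm_num]; exact pow_ne_zero _ h2) (by exact_mod_cast h8)
    rw [ht2] at hq
    refine false_of_two_pow (R := R) h2 (k := 6) ?_
    calc ((2 ^ 6 : ℕ) : R) = (4 * 2 + 60) - 2 * 2 := by norm_num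
      _ = 0 := by rw [← hq, sub_self]

end CfsgLib.Recog.Zassenhaus
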