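import Cfsg.Agent.Lib.Recog.Zassenhaus.Pair
import Cfsg.Agent.Lib.Recog.Zassenhaus.RingFacts

/-!
# The elements of order three of a fixed point free group

They are the axes of one tetrahedral or of one icosahedral subgroup.
-/

set_option autoImplicit false
set_option linter.all false
set_option maxHeartbeats 1000000

namespace CfsgLib.Recog.Zassenhaus

namespace Frame

variable {R : Type*} [Ring R] (F : Frame R)

theorem I_eq : F.I = F.quat 0 1 0 0 := by simp [quat]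
theorem J_eq : F.J = F.quat 0 0 1 0 := by simp [quat]
theorem two_cen : F.Cen (2 : R) := Cen.ofNat 2
theorem one_sub {x : R} (h : F.Cen x) : F.Cen (1 - x) := Cen.one.sub h
theorem neg_one_cen : F.Cen (-1 : R) := Cen.one.neg

theorem quat_smul_natCast (n : R) (c₀ c₁ c₂ c₃ : R) :
    n * F.quat c₀ c₁ c₂ c₃ = F.quat (n * c₀) (n * c₁) (n * c₂) (n * c₃) := by
  simp only [quat, mul_add, mul_assoc]

end Frame

namespace Rep

variable {G L V : Type*} [Group G] [Field L] [AddCommGroup V] [Module L V] (P : Rep G L V)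

/-- A tetrahedral frame. -/
structure Tetra where
  a : G
  gi : G
  gj : G
  F : Frame (Module.End L V)
  ha : Cube a
  hI : P.ρ gi = F.I
  hJ : P.ρ gj = F.J
  hα : P.gam a = F.quat 0 1 1 1

variable {P}

namespace Tetra

variable (T : Tetra P)

/-- The axes. -/
def IsAxis (c : G) : Prop :=
  ∃ k, (k = 1 ∨ k = T.gi ∨ k = T.gj ∨ k = T.gi * T.gj) ∧ (c = k * T.a * k⁻¹ ∨ c = k * T.a⁻¹ * k⁻¹)

/-- The tetrahedral subgroup. -/
def T0 : Subgroup G := Subgroup.closure {T.a, T.gi, T.gj}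

theorem a_mem : T.a ∈ T.T0 := Subgroup.subset_closure (Or.inl rfl)
theorem gi_mem : T.gi ∈ T.T0 := Subgroup.subset_closure (Or.inr (Or.inl rfl))
theorem gj_mem : T.gj ∈ T.T0 := Subgroup.subset_closure (Or.inr (Or.inr rfl))

theorem axis_mem {c : G} (h : T.IsAxis c) : c ∈ T.T0 := by
  obtain ⟨k, hk, hc⟩ := h
  have hk' : k ∈ T.T0 := by
    rcases hk with rfl | rfl | rfl | rfl
    exacts [one_mem _, T.gi_mem, T.gj_mem, mul_mem T.gi_mem T.gj_mem]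
  rcases hc with rfl | rfl
  exacts [mul_mem (mul_mem hk' T.a_mem) (inv_mem hk'), mul_mem (mul_mem hk' (inv_mem T.a_mem)) (inv_mem hk')]

theorem axis_inv {c : G} (h : T.IsAxis c⁻¹) : T.IsAxis c := by
  obtain ⟨k, hk, hc⟩ := h
  refine ⟨k, hk, ?_⟩
  rcases hc with hc | hc
  · exact Or.inr (by rw [← inv_inv c, hc]; group)
  · exact Or.inl (by rw [← inv_inv c, hc]; group)

theorem ρ_gi_inv : P.ρ T.gi⁻¹ = -T.F.I := by
  rw [← mul_one (P.ρ T.gi⁻¹), ← neg_neg (1 : Module.End L V), ← T.F.hI, mul_neg, ← mul_assoc, ← T.hI, ρ_inv_mul,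
    one_mul]

theorem ρ_gj_inv : P.ρ T.gj⁻¹ = -T.F.J := by
  rw [← mul_one (P.ρ T.gj⁻¹), ← neg_neg (1 : Module.End L V), ← T.F.hJ, mul_neg, ← mul_assoc, ← T.hJ, ρ_inv_mul,
    one_mul]

/-- The coefficients of `gam c`. -/
def Coef (c : G) (x₀ x₁ x₂ x₃ : Module.End L V) : Prop :=
  T.F.Cen x₀ ∧ T.F.Cen x₁ ∧ T.F.Cen x₂ ∧ T.F.Cen x₃ ∧ P.gam c = T.F.quat x₀ x₁ x₂ x₃

theorem exists_coef (h2 : (2 : L) ≠ 0) (c : G) : ∃ x₀ x₁ x₂ x₃, T.Coef c x₀ x₁ x₂ x₃ := by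
  obtain ⟨x₀, x₁, x₂, x₃, h⟩ := T.F.exists_quat h2 (P.gam c)
  exact ⟨x₀, x₁, x₂, x₃, h⟩

theorem coef_a : T.Coef T.a 0 1 1 1 := ⟨Frame.Cen.zero, Frame.Cen.one, Frame.Cen.one, Frame.Cen.one, T.hα⟩

variable {T}

theorem Coef.inv {c : G} {x₀ x₁ x₂ x₃ : Module.End L V} (h : T.Coef c x₀ x₁ x₂ x₃) (hc : Cube c) :
    T.Coef c⁻¹ (-x₀) (-x₁) (-x₂) (-x₃) :=
  ⟨h.1.neg, h.2.1.neg, h.2.2.1.neg, h.2.2.2.1.neg, by rw [P.gam_inv hc, h.2.2.2.2, Frame.quat_neg]⟩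

theorem Coef.conj_gi {c : G} {x₀ x₁ x₂ x₃ : Module.End L V} (h : T.Coef c x₀ x₁ x₂ x₃) :
    T.Coef (T.gi * c * T.gi⁻¹) x₀ x₁ (-x₂) (-x₃) := by
  refine ⟨h.1, h.2.1, h.2.2.1.neg, h.2.2.2.1.neg, ?_⟩
  obtain ⟨h0, h1, h2, h3, h⟩ := h
  rw [P.gam_conj, T.hI, T.ρ_gi_inv, T.F.I_eq, Frame.quat_neg, h, T.F.quat_mul h0 h1 h2 h3,
    T.F.quat_mul Frame.Cen.zero.neg Frame.Cen.one.neg Frame.Cen.zero.neg Frame.Cen.zero.neg]
  congr 1 <;> simp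

theorem Coef.conj_gj {c : G} {x₀ x₁ x₂ x₃ : Module.End L V} (h : T.Coef c x₀ x₁ x₂ x₃) :
    T.Coef (T.gj * c * T.gj⁻¹) x₀ (-x₁) x₂ (-x₃) := by
  refine ⟨h.1, h.2.1.neg, h.2.2.1, h.2.2.2.1.neg, ?_⟩
  obtain ⟨h0, h1, h2, h3, h⟩ := h
  rw [P.gam_conj, T.hJ, T.ρ_gj_inv, T.F.J_eq, Frame.quat_neg, h, T.F.quat_mul h0 h1 h2 h3,
    T.F.quat_mul Frame.Cen.zero.neg Frame.Cen.zero.neg Frame.Cen.one.neg Frame.Cen.zero.neg]
  congr 1 <;> simp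

theorem Coef.conj_a (hh2 : (2 : L) ≠ 0) {c : G} {x₀ x₁ x₂ x₃ : Module.End L V} (h : T.Coef c x₀ x₁ x₂ x₃) :
    T.Coef (T.a * c * T.a⁻¹) x₀ x₂ x₃ x₁ := by
  refine ⟨h.1, h.2.2.1, h.2.2.2.1, h.2.1, ?_⟩
  obtain ⟨h0, h1, h2, h3, h⟩ := h
  have e1 : (2 : Module.End L V) * P.ρ T.a = T.F.quat (-1) 1 1 1 := by
    have e : (2 : Module.End L V) * P.ρ T.a = P.gam T.a - T.F.quat 1 0 0 0 := by
      rw [T.F.quat_scalar, gam, add_sub_cancel_right]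
    rw [e, T.hα, Frame.quat_sub]; simp
  have e2 : (2 : Module.End L V) * P.ρ T.a⁻¹ = T.F.quat (-1) (-1) (-1) (-1) := by
    have e : (2 : Module.End L V) * P.ρ T.a⁻¹ = P.gam T.a⁻¹ - T.F.quat 1 0 0 0 := by
      rw [T.F.quat_scalar, gam, add_sub_cancel_right]
    rw [e, P.gam_inv T.ha, T.hα, Frame.quat_neg, Frame.quat_sub]; simp
  have of2 : ∀ {u v : Module.End L V}, (2 : Module.End L V) * u = 2 * v → u = v := fun {u v} e =>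
    eq_of_natMul (L := L) (n := 2) (by exact_mod_cast hh2) (by exact_mod_cast e)
  refine of2 (of2 ?_)
  have c2 : ∀ z : Module.End L V, z * 2 = 2 * z := fun z => by
    rw [show (2 : Module.End L V) = 1 + 1 by norm_num, mul_add, add_mul, mul_one, one_mul]
  calc (2 : Module.End L V) * (2 * P.gam (T.a * c * T.a⁻¹))
      = (2 * P.ρ T.a) * P.gam c * (2 * P.ρ T.a⁻¹) := by
        rw [P.gam_conj]; simp only [← mul_assoc, c2]
    _ = _ := by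
        rw [e1, e2, h, T.F.quat_mul h0 h1 h2 h3,
          T.F.quat_mul T.F.neg_one_cen T.F.neg_one_cen T.F.neg_one_cen T.F.neg_one_cen, T.F.quat_smul_natCast,
          T.F.quat_smul_natCast]
        congr 1 <;>
        · simp only [neg_mul, one_mul, mul_neg, mul_one, show (2 : Module.End L V) = 1 + 1 by norm_num, add_mul]
          abel

theorem Coef.dot {c d : G} {x₀ x₁ x₂ x₃ y₀ y₁ y₂ y₃ : Module.End L V} (h : T.Coef c x₀ x₁ x₂ x₃)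
    (k : T.Coef d y₀ y₁ y₂ y₃) :
    P.dot c d = T.F.quat
      (x₀ * y₀ - x₁ * y₁ - x₂ * y₂ - x₃ * y₃ + (y₀ * x₀ - y₁ * x₁ - y₂ * x₂ - y₃ * x₃))
      (x₀ * y₁ + x₁ * y₀ + x₂ * y₃ - x₃ * y₂ + (y₀ * x₁ + y₁ * x₀ + y₂ * x₃ - y₃ * x₂))
      (x₀ * y₂ - x₁ * y₃ + x₂ * y₀ + x₃ * y₁ + (y₀ * x₂ - y₁ * x₃ + y₂ * x₀ + y₃ * x₁))
      (x₀ * y₃ + x₁ * y₂ - x₂ * y₁ + x₃ * y₀ + (y₀ * x₃ + y₁ * x₂ - y₂ * x₁ + y₃ * x₀)) := by
  rw [Rep.dot, h.2.2.2.2, k.2.2.2.2, T.F.quat_mul k.1 k.2.1 k.2.2.1 k.2.2.2.1,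
    T.F.quat_mul h.1 h.2.1 h.2.2.1 h.2.2.2.1, Frame.quat_add]

end Tetra

end Rep

end CfsgLib.Recog.Zassenhaus
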