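import Cfsg.Agent.Lib.Recog.Zassenhaus.Main
import Cfsg.Agent.Lib.HallGen.FrobeniusComplement

/-!
# Fixed point free modules in every coprime characteristic

An fpf module in characteristic `p` lifts to characteristic zero through an idempotent of the group ring, and an
fpf lattice reduces modulo every prime not dividing the order.
-/

set_option autoImplicit false
set_option linter.all false

namespace CfsgLib.Recog.Zassenhaus

open MonoidAlgebra

universe uG

variable {G : Type uG} [Group G]

/-- The norm element of a cyclic subgroup. -/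
noncomputable def nrm (R : Type*) [Semiring R] (g : G) : MonoidAlgebra R G :=
  ∑ i ∈ Finset.range (orderOf g), single (g ^ i) 1

theorem map_nrm {R S : Type*} [Semiring R] [Semiring S] (f : R →+* S) (g : G) :
    mapRingHom G f (nrm R g) = nrm S g := by
  simp [nrm, map_sum]

theorem nrm_mul_single {R : Type*} [Semiring R] (g : G) :
    single g 1 * nrm R g = nrm R g := by
  rw [nrm, Finset.mul_sum]
  simp only [single_mul_single, mul_one, ← pow_succ']
  rcases Nat.eq_zero_or_pos (orderOf g) with h0 | h0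
  · simp [h0]
  · obtain ⟨k, hk⟩ := Nat.exists_eq_succ_of_ne_zero h0.ne'
    rw [hk, Nat.succ_eq_add_one, Finset.sum_range_succ, Finset.sum_range_succ' (fun i => single (R := R) (g ^ i) 1),
      ← Nat.succ_eq_add_one, ← hk, pow_orderOf_eq_one, pow_zero]

theorem single_pow_mul_nrm {R : Type*} [Semiring R] (g : G) (i : ℕ) : single (g ^ i) 1 * nrm R g = nrm R g := by
  induction i with
  | zero => rw [pow_zero, ← one_def, one_mul]
  | succ i ih =>
    rw [pow_succ, show single (g ^ i * g) (1 : R) = single (g ^ i) 1 * single g 1 by rw [single_mul_single, mul_one],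
      mul_assoc, nrm_mul_single, ih]

theorem nrm_mul_nrm {R : Type*} [Semiring R] (g : G) : nrm R g * nrm R g = (orderOf g : MonoidAlgebra R G) * nrm R g := by
  conv_lhs => arg 1; rw [nrm]
  rw [Finset.sum_mul, Finset.sum_congr rfl fun i _ => single_pow_mul_nrm g i, Finset.sum_const, Finset.card_range,
    nsmul_eq_mul]

variable [Finite G]

/-- A fixed point free representation gives an idempotent killed by all norms. -/
theorem exists_idem {L V : Type*} [Field L] [AddCommGroup V] [Module L V] [Nontrivial V] (P : Rep G L V)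
    [FiniteDimensional L V] (p : ℕ) [Fact p.Prime] [CharP L p] :
    ∃ e : MonoidAlgebra (ZMod p) G, e ≠ 0 ∧ IsIdempotentElem e ∧ ∀ g : G, g ≠ 1 → ∀ x, nrm (ZMod p) g * x * e = 0 := by
  haveI : NeZero (Nat.card G : ZMod p) := ⟨fun h => P.not_dvd_card (p := p) ((ZMod.natCast_eq_zero_iff _ _).1 h)⟩
  letI : Algebra (ZMod p) L := ZMod.algebra L p
  letI : Algebra (ZMod p) (Module.End L V) :=
    ((algebraMap L (Module.End L V)).comp (algebraMap (ZMod p) L)).toAlgebra' fun c x => Algebra.commutes (algebraMap (ZMod p) L c) x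
  let Ψ : MonoidAlgebra (ZMod p) G →ₐ[ZMod p] Module.End L V := MonoidAlgebra.lift (ZMod p) (Module.End L V) G P.ρ
  obtain ⟨v, hv⟩ := exists_ne (0 : V)
  let K : Submodule (MonoidAlgebra (ZMod p) G) (MonoidAlgebra (ZMod p) G) :=
    { carrier := {x | Ψ x v = 0}
      add_mem' := fun {a b} ha hb => by
        show Ψ (a + b) v = 0
        rw [map_add, LinearMap.add_apply, show Ψ a v = 0 from ha, show Ψ b v = 0 from hb, add_zero]
      zero_mem' := by show Ψ 0 v = 0; rw [map_zero, LinearMap.zero_apply]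
      smul_mem' := fun a x hx => by
        show Ψ (a * x) v = 0
        rw [map_mul, Module.End.mul_apply, show Ψ x v = 0 from hx, map_zero] }
  obtain ⟨J, hJ⟩ := exists_isCompl K
  obtain ⟨k, hk, e, he, hke⟩ := Submodule.mem_sup.1
    (show (1 : MonoidAlgebra (ZMod p) G) ∈ K ⊔ J from hJ.sup_eq_top.symm ▸ Submodule.mem_top)
  have hzero : ∀ x, x ∈ K → x ∈ J → x = 0 := fun x h1 h2 => (Submodule.disjoint_def.1 hJ.disjoint) x h1 h2
  refine ⟨e, fun h0 => hv ?_, ?_, fun g hg x => ?_⟩
  · rw [h0, add_zero] at hke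
    subst hke
    have h : Ψ 1 v = 0 := hk
    rwa [map_one, Module.End.one_apply] at h
  · have h1 : e * k + e * e = e := by rw [← mul_add, hke, mul_one]
    have h2 : e - e * e = e * k := by rw [sub_eq_iff_eq_add, h1]
    have h3 : e * k = 0 := hzero _ (K.smul_mem e hk) (h2 ▸ J.sub_mem he (J.smul_mem e he))
    rw [h3, zero_add] at h1
    exact h1
  · refine hzero _ ?_ (J.smul_mem _ he)
    show Ψ (nrm (ZMod p) g * x * e) v = 0
    rw [map_mul, map_mul, show Ψ (nrm (ZMod p) g) = 0 by
      simp only [Ψ, nrm, map_sum, lift_single, one_smul, map_pow]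
      exact P.sum_eq_zero hg (pow_orderOf_eq_one g), zero_mul, zero_mul, LinearMap.zero_apply]

/-- Idempotents killed by the norms lift. -/
theorem exists_idem_lift {p : ℕ} [hp : Fact p.Prime] {n : ℕ} (hn : n ≠ 0) (hcop : ¬ p ∣ Nat.card G)
    {e : MonoidAlgebra (ZMod p) G} (he : IsIdempotentElem e)
    (hN : ∀ g : G, g ≠ 1 → ∀ x, nrm (ZMod p) g * x * e = 0) :
    ∃ e' : MonoidAlgebra (ZMod (p ^ n)) G, mapRingHom G (ZMod.castHom (dvd_pow_self p hn) (ZMod p)) e' = e ∧
      ∀ g : G, g ≠ 1 → ∀ x, nrm (ZMod (p ^ n)) g * x * e' = 0 := by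
  haveI : NeZero (p ^ n) := ⟨pow_ne_zero n hp.out.ne_zero⟩
  set f := mapRingHom G (ZMod.castHom (dvd_pow_self p hn) (ZMod p)) with hf
  have hdiv : ∀ x, f x = 0 → ∃ y, x = (p : MonoidAlgebra (ZMod (p ^ n)) G) * y := by
    intro x hx
    haveI := Fintype.ofFinite G
    refine ⟨∑ g : G, single g (((x.coeff g).val / p : ℕ) : ZMod (p ^ n)), ?_⟩
    ext g
    have hc : (ZMod.castHom (dvd_pow_self p hn) (ZMod p)) (x.coeff g) = 0 := by
      have h := congrArg (fun t => MonoidAlgebra.coeff t g) hx
      simpa [hf] using h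
    rw [← ZMod.natCast_zmod_val (x.coeff g), map_natCast, ZMod.natCast_eq_zero_iff] at hc
    rw [show (p : MonoidAlgebra (ZMod (p ^ n)) G) = single 1 (p : ZMod (p ^ n)) from rfl, Finset.mul_sum]
    simp only [single_mul_single, one_mul, coeff_sum, coeff_single, Finsupp.coe_finset_sum, Finset.sum_apply]
    rw [Finset.sum_eq_single g (fun b _ hb => by simp [Finsupp.single_eq_of_ne hb.symm]) (by simp),
      Finsupp.single_eq_same, ← Nat.cast_mul, Nat.mul_div_cancel' hc, ZMod.natCast_zmod_val]
  have hpn : (p : MonoidAlgebra (ZMod (p ^ n)) G) ^ n = 0 := by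
    rw [← Nat.cast_pow, ← map_natCast (algebraMap (ZMod (p ^ n)) (MonoidAlgebra (ZMod (p ^ n)) G)), ZMod.natCast_self,
      map_zero]
  have hsurj : Function.Surjective f := fun y => by
    haveI := Fintype.ofFinite G
    refine ⟨∑ g : G, single g ((y.coeff g).val : ZMod (p ^ n)), ?_⟩
    rw [map_sum]
    ext g
    simp only [hf, mapRingHom_single, map_natCast, ZMod.natCast_zmod_val, coeff_sum, coeff_single,
      Finsupp.coe_finset_sum, Finset.sum_apply]
    rw [Finset.sum_eq_single g (fun b _ hb => by simp [Finsupp.single_eq_of_ne hb.symm]) (by simp),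
      Finsupp.single_eq_same]
  obtain ⟨e', he', hfe⟩ := exists_isIdempotentElem_eq_of_ker_isNilpotent f (fun x hx => by
    obtain ⟨y, rfl⟩ := hdiv x hx
    exact ⟨n, by rw [(Nat.cast_commute p y).mul_pow, hpn, zero_mul]⟩) e (RingHom.mem_range.2 (hsurj e)) he
  refine ⟨e', hfe, fun g hg x => ?_⟩
  obtain ⟨u, hu⟩ : ∃ u : MonoidAlgebra (ZMod (p ^ n)) G, u * (orderOf g : MonoidAlgebra (ZMod (p ^ n)) G) = 1 := by
    have h : Nat.Coprime (orderOf g) (p ^ n) :=
      ((hp.out.coprime_iff_not_dvd.2 fun h => hcop (h.trans (orderOf_dvd_natCard g))).symm).pow_right n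
    refine ⟨algebraMap _ _ ((ZMod.unitOfCoprime _ h)⁻¹ : (ZMod (p ^ n))ˣ).val, ?_⟩
    rw [← map_natCast (algebraMap (ZMod (p ^ n)) (MonoidAlgebra (ZMod (p ^ n)) G)), ← map_mul,
      ← ZMod.coe_unitOfCoprime _ h, Units.inv_mul, map_one]
  have key : ∀ k : ℕ, ∃ y, y * e' = y ∧
      nrm (ZMod (p ^ n)) g * x * e' = (p : MonoidAlgebra (ZMod (p ^ n)) G) ^ k * (nrm (ZMod (p ^ n)) g * y) := by
    intro k
    induction k with
    | zero => exact ⟨x * e', by rw [mul_assoc, he'.eq], by rw [pow_zero, one_mul, mul_assoc]⟩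
    | succ k ih =>
      obtain ⟨y, hy, hk⟩ := ih
      obtain ⟨y', hy'⟩ := hdiv (nrm (ZMod (p ^ n)) g * y) (by
        rw [← hy, ← mul_assoc, map_mul, map_mul, hfe, hf, map_nrm]
        exact hN g hg _)
      have h1 : nrm (ZMod (p ^ n)) g * y = (p : MonoidAlgebra (ZMod (p ^ n)) G) * (y' * e') := by
        rw [← mul_assoc, ← hy', mul_assoc, hy]
      refine ⟨u * (y' * e'), by rw [mul_assoc, mul_assoc, he'.eq], ?_⟩
      rw [hk, pow_succ, mul_assoc]
      congr 1
      have hcu : ∀ z : MonoidAlgebra (ZMod (p ^ n)) G, u * z = z * u := by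
        intro z
        calc u * z = u * z * (u * (orderOf g : MonoidAlgebra (ZMod (p ^ n)) G)) := by rw [hu, mul_one]
          _ = u * (z * (orderOf g : MonoidAlgebra (ZMod (p ^ n)) G)) * u := by
              rw [← (Nat.cast_commute (orderOf g) u).eq]; simp only [mul_assoc]
          _ = z * u := by
              rw [← (Nat.cast_commute (orderOf g) z).eq, ← mul_assoc u, hu, one_mul]
      calc nrm (ZMod (p ^ n)) g * y = u * ((orderOf g : MonoidAlgebra (ZMod (p ^ n)) G) * (nrm (ZMod (p ^ n)) g * y)) := by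
            rw [← mul_assoc u, hu, one_mul]
        _ = u * (nrm (ZMod (p ^ n)) g * ((p : MonoidAlgebra (ZMod (p ^ n)) G) * (y' * e'))) := by
            rw [← h1, ← mul_assoc _ (nrm (ZMod (p ^ n)) g) y, ← nrm_mul_nrm, mul_assoc]
        _ = _ := by
            rw [← mul_assoc (nrm (ZMod (p ^ n)) g), ← (Nat.cast_commute p (nrm (ZMod (p ^ n)) g)).eq, mul_assoc,
              ← mul_assoc u, ← (Nat.cast_commute p u).eq, mul_assoc, ← mul_assoc u, hcu, mul_assoc]
  obtain ⟨y, -, hy⟩ := key n
  rw [hy, hpn, zero_mul]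

/-- The span of the translates of the norms. -/
noncomputable def normSpan (R : Type*) [CommRing R] (G : Type*) [Group G] : Submodule R (MonoidAlgebra R G) :=
  Submodule.span R {z | ∃ g : G, g ≠ 1 ∧ ∃ a b : G, z = single a 1 * nrm R g * single b 1}

theorem mul_mem_normSpan {R : Type*} [CommRing R] (x : MonoidAlgebra R G) {z : MonoidAlgebra R G}
    (hz : z ∈ normSpan R G) : x * z ∈ normSpan R G := by
  induction x using MonoidAlgebra.induction_linear with
  | zero => rw [zero_mul]; exact zero_mem _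
  | add x y hx hy => rw [add_mul]; exact add_mem hx hy
  | single c r =>
    induction hz using Submodule.span_induction with
    | zero => rw [mul_zero]; exact zero_mem _
    | add a b _ _ ha hb => rw [mul_add]; exact add_mem ha hb
    | smul s a _ ha => rw [mul_smul_comm]; exact Submodule.smul_mem _ _ ha
    | mem a ha =>
      obtain ⟨g, hg, a, b, rfl⟩ := ha
      have e : single c r * (single a 1 * nrm R g * single b 1) = r • (single (c * a) 1 * nrm R g * single b 1) := by
        rw [← mul_assoc, ← mul_assoc, single_mul_single, mul_one, ← smul_mul_assoc, ← smul_mul_assoc, smul_single,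
          smul_eq_mul, mul_one]
      rw [e]
      exact Submodule.smul_mem _ _ (Submodule.subset_span ⟨g, hg, c * a, b, rfl⟩)

theorem nrm_mul_mem_normSpan {R : Type*} [CommRing R] {g : G} (hg : g ≠ 1) (x : MonoidAlgebra R G) :
    nrm R g * x ∈ normSpan R G := by
  induction x using MonoidAlgebra.induction_linear with
  | zero => rw [mul_zero]; exact zero_mem _
  | add x y hx hy => rw [mul_add]; exact add_mem hx hy
  | single c r =>
    have e : nrm R g * single c r = r • (single (1 : G) 1 * nrm R g * single c 1) := by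
      rw [← one_def, one_mul, ← mul_smul_comm, smul_single, smul_eq_mul, mul_one]
    rw [e]
    exact Submodule.smul_mem _ _ (Submodule.subset_span ⟨g, hg, 1, c, rfl⟩)

theorem one_notMem_normSpan {L V : Type*} [Field L] [AddCommGroup V] [Module L V] [Nontrivial V] (P : Rep G L V)
    [FiniteDimensional L V] (p : ℕ) [Fact p.Prime] [CharP L p] :
    (1 : MonoidAlgebra ℚ G) ∉ normSpan ℚ G := by
  intro h1
  obtain ⟨e, he0, he, hN⟩ := exists_idem P p
  have clear : ∀ s ∈ normSpan ℚ G, ∃ m : ℤ, m ≠ 0 ∧ ∃ t ∈ normSpan ℤ G,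
      (m : ℚ) • s = mapRingHom G (Int.castRingHom ℚ) t := by
    intro s hs
    induction hs using Submodule.span_induction with
    | zero => exact ⟨1, one_ne_zero, 0, zero_mem _, by simp⟩
    | mem z hz =>
      obtain ⟨g, hg, a, b, rfl⟩ := hz
      exact ⟨1, one_ne_zero, _, Submodule.subset_span ⟨g, hg, a, b, rfl⟩, by
        rw [map_mul, map_mul, map_nrm, mapRingHom_single, mapRingHom_single]; simp⟩
    | add x y _ _ hx hy =>
      obtain ⟨m, hm, t, ht, e1⟩ := hx
      obtain ⟨m', hm', t', ht', e2⟩ := hy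
      refine ⟨m * m', mul_ne_zero hm hm', m' • t + m • t', add_mem (Submodule.smul_mem _ _ ht) (Submodule.smul_mem _ _ ht'), ?_⟩
      rw [map_add, map_zsmul, map_zsmul, ← e1, ← e2, ← Int.cast_smul_eq_zsmul ℚ, ← Int.cast_smul_eq_zsmul ℚ,
        smul_smul, smul_smul, Int.cast_mul, smul_add, mul_comm (m' : ℚ)]
    | smul q x _ hx =>
      obtain ⟨m, hm, t, ht, e1⟩ := hx
      refine ⟨m * q.den, mul_ne_zero hm (by exact_mod_cast q.den_ne_zero), q.num • t, Submodule.smul_mem _ _ ht, ?_⟩
      rw [map_zsmul, ← e1, ← Int.cast_smul_eq_zsmul ℚ, smul_smul, smul_smul, Int.cast_mul, Int.cast_natCast,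
        mul_comm (q.num : ℚ), mul_assoc, mul_comm (q.den : ℚ), Rat.mul_den_eq_num]
  obtain ⟨m, hm, t, ht, hmt⟩ := clear 1 h1
  set n := m.natAbs with hn
  have hn0 : n ≠ 0 := Int.natAbs_ne_zero.2 hm
  obtain ⟨e', hfe, hN'⟩ := exists_idem_lift (p := p) hn0 (P.not_dvd_card (p := p)) he hN
  haveI : NeZero (p ^ n) := ⟨pow_ne_zero n (Fact.out : p.Prime).ne_zero⟩
  have ht' : t = m • (1 : MonoidAlgebra ℤ G) := by
    have hi : Function.Injective (mapRingHom G (Int.castRingHom ℚ)) := fun x y hxy => by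
      ext g
      have h := congrArg (fun t => MonoidAlgebra.coeff t g) hxy
      simpa using h
    apply hi
    rw [← hmt, map_zsmul, map_one, Int.cast_smul_eq_zsmul]
  have kill : mapRingHom G (Int.castRingHom (ZMod (p ^ n))) t * e' = 0 := by
    clear hmt ht'
    induction ht using Submodule.span_induction with
    | zero => rw [map_zero, zero_mul]
    | add x y _ _ hx hy => rw [map_add, add_mul, hx, hy, add_zero]
    | smul s x _ hx => rw [map_zsmul, smul_mul_assoc, hx, smul_zero]
    | mem z hz =>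
      obtain ⟨g, hg, a, b, rfl⟩ := hz
      rw [map_mul, map_mul, map_nrm, mapRingHom_single, mapRingHom_single, map_one, mul_assoc, mul_assoc,
        ← mul_assoc (nrm _ g), hN' g hg, mul_zero]
  rw [ht', map_zsmul, map_one, smul_mul_assoc, one_mul] at kill
  obtain ⟨g, hg⟩ : ∃ g, e.coeff g ≠ 0 := by
    by_contra h
    push Not at h
    exact he0 (by ext g; simpa using h g)
  have h1' := congrArg (fun t => MonoidAlgebra.coeff t g) hfe
  simp at h1'
  have h2 := congrArg (fun t => MonoidAlgebra.coeff t g) kill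
  simp only [coeff_smul, Finsupp.smul_apply, coeff_zero, Finsupp.zero_apply] at h2
  rw [zsmul_eq_mul] at h2
  rw [← ZMod.natCast_zmod_val (e'.coeff g), ← Int.cast_natCast, ← Int.cast_mul,
    ZMod.intCast_zmod_eq_zero_iff_dvd, Int.natCast_dvd, Int.natAbs_mul, Int.natAbs_natCast] at h2
  have hpc : ¬ p ∣ (e'.coeff g).val := fun hd => hg (by
    rw [← h1', ← ZMod.natCast_val, ZMod.natCast_eq_zero_iff]
    exact hd)
  have h3 := (((Fact.out : p.Prime).coprime_iff_not_dvd.2 hpc).pow_left n).dvd_of_dvd_mul_right h2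
  exact absurd (Nat.le_of_dvd (Nat.pos_of_ne_zero hn0) h3) (not_le.2 (Nat.lt_pow_self (Fact.out : p.Prime).one_lt))

/-- An fpf module in each coprime prime characteristic. -/
theorem exists_module {L V : Type*} [Field L] [AddCommGroup V] [Module L V] [Nontrivial V] (P : Rep G L V)
    [FiniteDimensional L V] (p : ℕ) [Fact p.Prime] [CharP L p] (r : ℕ) [hr : Fact r.Prime] (hrG : ¬ r ∣ Nat.card G) :
    ∃ (W : Type uG) (_ : AddCommGroup W) (_ : Module (ZMod r) W) (_ : Finite W) (_ : Nontrivial W)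
      (ρ : G →* Module.End (ZMod r) W), ∀ g : G, g ≠ 1 → ∀ w : W, ρ g w = w → w = 0 := by
  have h1 := one_notMem_normSpan P p
  set ι := mapRingHom G (Int.castRingHom ℚ) with hι
  set π := mapRingHom G (Int.castRingHom (ZMod r)) with hπ
  let Λ : Submodule ℤ (MonoidAlgebra ℤ G) :=
    { carrier := {t | ι t ∈ normSpan ℚ G}
      add_mem' := fun {a b} ha hb => by show ι (a + b) ∈ normSpan ℚ G; rw [map_add]; exact add_mem ha hb
      zero_mem' := by show ι 0 ∈ normSpan ℚ G; rw [map_zero]; exact zero_mem _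
      smul_mem' := fun c x hx => by
        show ι (c • x) ∈ normSpan ℚ G
        rw [map_zsmul, ← Int.cast_smul_eq_zsmul ℚ]; exact Submodule.smul_mem _ _ hx }
  have hΛ : ∀ (x t : MonoidAlgebra ℤ G), t ∈ Λ → x * t ∈ Λ := fun x t ht => by
    show ι (x * t) ∈ normSpan ℚ G
    rw [map_mul]; exact mul_mem_normSpan _ ht
  haveI : Finite (MonoidAlgebra (ZMod r) G) := Finite.of_equiv (G → ZMod r)
    (Finsupp.equivFunOnFinite.symm.trans MonoidAlgebra.coeffEquiv.symm)
  let J : Submodule (ZMod r) (MonoidAlgebra (ZMod r) G) :=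
    AddSubgroup.toZModSubmodule r (Λ.toAddSubgroup.map π.toAddMonoidHom)
  have hJ : ∀ x, x ∈ J ↔ ∃ t ∈ Λ, π t = x := fun x => Iff.rfl
  have hπs : Function.Surjective π := fun y => by
    haveI := Fintype.ofFinite G
    refine ⟨∑ g : G, single g ((y.coeff g).val : ℤ), ?_⟩
    rw [map_sum]
    ext g
    simp only [hπ, mapRingHom_single, map_natCast, ZMod.natCast_zmod_val, coeff_sum, coeff_single,
      Finsupp.coe_finset_sum, Finset.sum_apply]
    rw [Finset.sum_eq_single g (fun b _ hb => by simp [Finsupp.single_eq_of_ne hb.symm]) (by simp),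
      Finsupp.single_eq_same]
  have hmul : ∀ a, ∀ x ∈ J, a * x ∈ J := fun a x hx => by
    obtain ⟨t, ht, rfl⟩ := (hJ x).1 hx
    obtain ⟨a, rfl⟩ := hπs a
    exact (hJ _).2 ⟨a * t, hΛ a t ht, map_mul π a t⟩
  have hone : (1 : MonoidAlgebra (ZMod r) G) ∉ J := by
    intro h
    obtain ⟨t, ht, hπt⟩ := (hJ _).1 h
    haveI : Module.Finite ℤ (MonoidAlgebra ℤ G) :=
      Module.Finite.equiv (MonoidAlgebra.coeffLinearEquiv ℤ).symm
    let M := MonoidAlgebra ℤ G ⧸ Λ
    haveI : IsAddTorsionFree M := by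
      refine ⟨fun k hk a b hab => ?_⟩
      obtain ⟨a, rfl⟩ := Submodule.Quotient.mk_surjective Λ a
      obtain ⟨b, rfl⟩ := Submodule.Quotient.mk_surjective Λ b
      have hab' : k • a - k • b ∈ Λ := (Submodule.Quotient.eq Λ).1 hab
      rw [Submodule.Quotient.eq]
      show ι (a - b) ∈ normSpan ℚ G
      have h2 : ι (k • a - k • b) ∈ normSpan ℚ G := hab'
      rw [← smul_sub, map_nsmul, ← Nat.cast_smul_eq_nsmul ℚ] at h2
      exact (Submodule.smul_mem_iff _ (by exact_mod_cast hk)).1 h2
    haveI : Nontrivial M := ⟨⟨Submodule.Quotient.mk 1, 0, fun h0 => h1 (by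
      have h2 : ι (1 : MonoidAlgebra ℤ G) ∈ normSpan ℚ G := (Submodule.Quotient.mk_eq_zero Λ).1 h0
      rwa [map_one] at h2)⟩⟩
    obtain ⟨i⟩ := (Module.Free.chooseBasis ℤ M).index_nonempty
    obtain ⟨x, hx⟩ := Submodule.Quotient.mk_surjective Λ (Module.Free.chooseBasis ℤ M i)
    haveI := Fintype.ofFinite G
    obtain ⟨u, hu⟩ : ∃ u : MonoidAlgebra ℤ G, 1 - t = (r : ℤ) • u := by
      refine ⟨∑ g : G, single g ((1 - t : MonoidAlgebra ℤ G).coeff g / (r : ℤ)), ?_⟩
      ext g
      have hd : (r : ℤ) ∣ (1 - t : MonoidAlgebra ℤ G).coeff g := by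
        have h0 : π (1 - t) = 0 := by rw [map_sub, hπt, map_one, sub_self]
        have h := congrArg (fun s => MonoidAlgebra.coeff s g) h0
        rw [← ZMod.intCast_zmod_eq_zero_iff_dvd]
        by_cases hg1 : g = 1 <;> simpa [hπ, one_def, Finsupp.single_apply, hg1, eq_comm] using h
      simp only [coeff_smul, Finsupp.smul_apply, coeff_sum, coeff_single, Finsupp.coe_finset_sum, Finset.sum_apply]
      rw [Finset.sum_eq_single g (fun b _ hb => by simp [Finsupp.single_eq_of_ne hb.symm]) (by simp),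
        Finsupp.single_eq_same, smul_eq_mul, Int.mul_ediv_cancel' hd]
    have h3 : (Submodule.Quotient.mk x : M) = (r : ℤ) • Submodule.Quotient.mk (x * u) := by
      rw [← Submodule.Quotient.mk_smul, Submodule.Quotient.eq, ← mul_smul_comm, ← hu, mul_sub, mul_one,
        sub_sub_cancel]
      exact hΛ x t ht
    rw [hx] at h3
    have h4 := congrArg (fun s => (Module.Free.chooseBasis ℤ M).repr s i) h3
    simp only [map_zsmul, Finsupp.smul_apply, Module.Basis.repr_self, Finsupp.single_eq_same, smul_eq_mul] at h4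
    have h5 : (r : ℤ) ∣ 1 := Dvd.intro _ h4.symm
    have := Int.le_of_dvd one_pos h5
    have := hr.out.two_le
    omega
  let ρ : G →* Module.End (ZMod r) (MonoidAlgebra (ZMod r) G ⧸ J) :=
    { toFun := fun g => J.mapQ J (LinearMap.mulLeft (ZMod r) (single g 1)) fun x hx => hmul _ x hx
      map_one' := by
        ext x
        simp [← one_def]
      map_mul' := fun a b => by
        refine Submodule.linearMap_qext _ (LinearMap.ext fun x => ?_)
        show Submodule.Quotient.mk (single (a * b) 1 * x) = Submodule.Quotient.mk (single a 1 * (single b 1 * x))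
        rw [← mul_assoc, single_mul_single, one_mul] }
  refine ⟨MonoidAlgebra (ZMod r) G ⧸ J, inferInstance, inferInstance,
    Finite.of_surjective _ (Submodule.Quotient.mk_surjective J),
    ⟨⟨Submodule.Quotient.mk 1, 0, fun h0 => hone ((Submodule.Quotient.mk_eq_zero J).1 h0)⟩⟩, ρ, fun g hg w hw => ?_⟩
  obtain ⟨x, rfl⟩ := Submodule.Quotient.mk_surjective J w
  have hfix : ∀ i : ℕ, (Submodule.Quotient.mk (single (g ^ i) 1 * x) : MonoidAlgebra (ZMod r) G ⧸ J) =
      Submodule.Quotient.mk x := by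
    intro i
    induction i with
    | zero => rw [pow_zero, ← one_def, one_mul]
    | succ i ih =>
      calc (Submodule.Quotient.mk (single (g ^ (i + 1)) 1 * x) : MonoidAlgebra (ZMod r) G ⧸ J)
          = ρ g (Submodule.Quotient.mk (single (g ^ i) 1 * x)) := by
            show _ = Submodule.Quotient.mk (single g 1 * (single (g ^ i) 1 * x))
            rw [← mul_assoc, single_mul_single, one_mul, pow_succ']
        _ = _ := by rw [ih, hw]
  have hsum : (Submodule.Quotient.mk (nrm (ZMod r) g * x) : MonoidAlgebra (ZMod r) G ⧸ J) =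
      orderOf g • Submodule.Quotient.mk x := by
    rw [nrm, Finset.sum_mul]
    rw [show (Submodule.Quotient.mk (∑ i ∈ Finset.range (orderOf g), single (g ^ i) 1 * x) :
      MonoidAlgebra (ZMod r) G ⧸ J) = ∑ i ∈ Finset.range (orderOf g), Submodule.Quotient.mk (single (g ^ i) 1 * x) from
      map_sum J.mkQ _ _, Finset.sum_congr rfl fun i _ => hfix i, Finset.sum_const, Finset.card_range]
  have h0 : (Submodule.Quotient.mk (nrm (ZMod r) g * x) : MonoidAlgebra (ZMod r) G ⧸ J) = 0 := by
    rw [Submodule.Quotient.mk_eq_zero]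
    obtain ⟨y, rfl⟩ := hπs x
    refine (hJ _).2 ⟨nrm ℤ g * y, ?_, by rw [map_mul, hπ, map_nrm]⟩
    show ι (nrm ℤ g * y) ∈ normSpan ℚ G
    rw [map_mul, hι, map_nrm]
    exact nrm_mul_mem_normSpan hg _
  rw [h0, ← Nat.cast_smul_eq_nsmul (ZMod r)] at hsum
  refine (smul_eq_zero.1 hsum.symm).resolve_left fun h => hrG ?_
  exact ((ZMod.natCast_eq_zero_iff _ _).1 h).trans (orderOf_dvd_natCard g)

end CfsgLib.Recog.Zassenhaus

namespace CfsgLib.Recog.Zassenhaus

/-- A fixed point free linear action gives a Frobenius group. -/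
theorem exists_complement_of_module {G : Type*} [Group G] [Finite G] [Nontrivial G] {r : ℕ} {W : Type*} [AddCommGroup W]
    [Module (ZMod r) W] [Finite W] [Nontrivial W] (ρ : G →* Module.End (ZMod r) W)
    (hfp : ∀ g : G, g ≠ 1 → ∀ w : W, ρ g w = w → w = 0) :
    ∃ (L : Type) (_ : Group L) (_ : Finite L) (H : Subgroup L), Cfsg.IsFrobeniusComplement H ∧ Nonempty (G ≃* H) := by
  letI : DistribMulAction G W :=
    { smul := fun g w => ρ g w
      one_smul := fun w => by show ρ 1 w = w; rw [map_one, Module.End.one_apply]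
      mul_smul := fun a b w => by show ρ (a * b) w = ρ a (ρ b w); rw [map_mul, Module.End.mul_apply]
      smul_zero := fun g => map_zero (ρ g)
      smul_add := fun g => map_add (ρ g) }
  obtain ⟨L, i1, i2, H, hH, hiso, -⟩ := CfsgLib.HallGen.exists_frobeniusComplement_of_fpf G W hfp
  exact ⟨L, i1, i2, H, hH, hiso⟩

end CfsgLib.Recog.Zassenhaus
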