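import Cfsg.Agent.Lib.Recog.Zassenhaus.SolvableRegular
import Cfsg.Agent.Lib.Recog.Zassenhaus.Main

/-!
# Soluble Frobenius complements
-/

set_option autoImplicit false
set_option linter.all false

namespace CfsgLib.Recog.Zassenhaus

open Subgroup

namespace Rep

variable {G L V : Type*} [Group G] [Field L] [AddCommGroup V] [Module L V] (P : Rep G L V)
variable [Finite G] [Nontrivial V]

include P in
/-- Fixed point free groups of order `pq` are cyclic. -/
theorem commute_of_prime_orders (p : ℕ) [Fact p.Prime] [CharP L p] {d x : G} (hr : (orderOf d).Prime)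
    (hs : (orderOf x).Prime) (hn : d * x * d⁻¹ ∈ zpowers x) : Commute d x := by
  by_contra hc
  set r := orderOf d with hrd
  set s := orderOf x with hsd
  have hx1 : x ≠ 1 := fun h => hs.ne_one (by rw [hsd, h, orderOf_one])
  have hd1 : d ≠ 1 := fun h => hr.ne_one (by rw [hrd, h, orderOf_one])
  have hmem : ∀ j : ℕ, ∀ a ∈ zpowers x, d ^ j * a * (d ^ j)⁻¹ ∈ zpowers x := by
    intro j
    induction j with
    | zero => intro a ha; simpa using ha
    | succ j ih =>
      intro a ha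
      rw [show d ^ (j + 1) * a * (d ^ (j + 1))⁻¹ = d ^ j * (d * a * d⁻¹) * (d ^ j)⁻¹ by rw [pow_succ]; group]
      refine ih _ ?_
      obtain ⟨i, rfl⟩ := ha
      show d * x ^ i * d⁻¹ ∈ zpowers x
      rw [← conj_zpow]
      exact zpow_mem hn i
  have hd' : ∀ j : ℕ, ∀ i : ℕ, x ^ i * d ^ (j + 1) * (x ^ i)⁻¹ =
      (x * (d ^ (j + 1) * x⁻¹ * (d ^ (j + 1))⁻¹)) ^ i * d ^ (j + 1) := by
    intro j i
    obtain ⟨k, hk⟩ := hmem (j + 1) x⁻¹ (inv_mem (mem_zpowers x))
    have hcm : Commute x (d ^ (j + 1) * x⁻¹ * (d ^ (j + 1))⁻¹) := hk ▸ Commute.self_zpow x k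
    rw [hcm.mul_pow, conj_pow, inv_pow]
    group
  have hy : ∀ j : ℕ, j + 1 < r → x * (d ^ (j + 1) * x⁻¹ * (d ^ (j + 1))⁻¹) ≠ 1 := by
    intro j hj h
    apply hc
    have hcj : Commute (d ^ (j + 1)) x :=
      Commute.inv_right_iff.1 (mul_inv_eq_iff_eq_mul.1 (eq_inv_of_mul_eq_one_right h))
    obtain ⟨k, hk⟩ := exists_pow_eq_self_of_coprime (x := d) (n := j + 1)
      ((hr.coprime_iff_not_dvd.2 (Nat.not_dvd_of_pos_of_lt (by omega) hj)).symm)
    rw [← hk]
    exact hcj.pow_left k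
  have hys : ∀ j : ℕ, (x * (d ^ (j + 1) * x⁻¹ * (d ^ (j + 1))⁻¹)) ^ s = 1 := fun j =>
    orderOf_dvd_iff_pow_eq_one.1 (orderOf_dvd_of_mem_zpowers
      (mul_mem (mem_zpowers x) (hmem (j + 1) x⁻¹ (inv_mem (mem_zpowers x)))))
  have hrow : ∀ i : ℕ, ∑ j ∈ Finset.range r, P.ρ (x ^ i * d ^ j * (x ^ i)⁻¹) = 0 := by
    intro i
    have h := P.sum_eq_zero (g := x ^ i * d * (x ^ i)⁻¹) (n := r)
      (fun e => hd1 (conj_eq_one_iff.1 e)) (by rw [conj_pow, hrd, pow_orderOf_eq_one, mul_one, mul_inv_cancel])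
    rw [← h]
    exact Finset.sum_congr rfl fun j _ => by rw [← map_pow, conj_pow]
  have htot : ∑ j ∈ Finset.range r, ∑ i ∈ Finset.range s, P.ρ (x ^ i * d ^ j * (x ^ i)⁻¹) = 0 := by
    rw [Finset.sum_comm]
    exact Finset.sum_eq_zero fun i _ => hrow i
  obtain ⟨r', hr'⟩ : ∃ r', r = r' + 1 := ⟨r - 1, by have := hr.pos; omega⟩
  rw [hr', Finset.sum_range_succ', Finset.sum_eq_zero, zero_add] at htot
  · simp only [pow_zero, mul_one, mul_inv_cancel, map_one, Finset.sum_const, Finset.card_range] at htot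
    obtain ⟨v, hv⟩ := exists_ne (0 : V)
    have h1 := LinearMap.congr_fun htot v
    rw [LinearMap.smul_apply, Module.End.one_apply, LinearMap.zero_apply, ← Nat.cast_smul_eq_nsmul L] at h1
    rcases smul_eq_zero.1 h1 with h | h
    · exact P.natCast_ne_zero (p := p) hs hx1 (pow_orderOf_eq_one x) h
    · exact hv h
  · intro j hj
    rw [Finset.mem_range] at hj
    have e : ∀ i : ℕ, P.ρ (x ^ i * d ^ (j + 1) * (x ^ i)⁻¹) =
        P.ρ (x * (d ^ (j + 1) * x⁻¹ * (d ^ (j + 1))⁻¹)) ^ i * P.ρ (d ^ (j + 1)) := fun i => by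
      rw [hd', map_mul P.ρ, map_pow P.ρ _ i]
    simp only [e]
    rw [← Finset.sum_mul, P.sum_eq_zero (hy j (by omega)) (hys j), zero_mul]

end Rep

/-- Presentation of a group generated by a normalised pair. -/
theorem nonempty_presentation {G : Type*} [Group G] [Finite G] {x y : G} {n m r : ℕ} (hn : 0 < n) (hm : 0 < m)
    (hx : x ^ n = 1) (hy : y ^ m = 1) (hr : x⁻¹ * y * x = y ^ r) (hgen : closure ({x, y} : Set G) = ⊤)
    (hcard : Nat.card G = n * m) :
    Nonempty (G ≃* PresentedGroup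
      ({FreeGroup.of (0 : Fin 2) ^ n, FreeGroup.of (1 : Fin 2) ^ m,
        (FreeGroup.of (0 : Fin 2))⁻¹ * FreeGroup.of 1 * FreeGroup.of 0 * (FreeGroup.of (1 : Fin 2) ^ r)⁻¹} :
        Set (FreeGroup (Fin 2)))) := by
  set R : Set (FreeGroup (Fin 2)) := {FreeGroup.of 0 ^ n, FreeGroup.of 1 ^ m,
    (FreeGroup.of 0)⁻¹ * FreeGroup.of 1 * FreeGroup.of 0 * (FreeGroup.of 1 ^ r)⁻¹} with hR
  have hrel : ∀ w ∈ R, FreeGroup.lift ![x, y] w = 1 := by
    intro w hw
    rw [hR] at hw
    rcases hw with rfl | rfl | rfl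
    · simp [hx]
    · simp [hy]
    · simp [hr]
  let f := PresentedGroup.toGroup hrel
  have hfs : Function.Surjective f := by
    rw [← MonoidHom.range_eq_top, eq_top_iff, ← hgen, closure_le]
    rintro _ (rfl | rfl)
    · exact ⟨PresentedGroup.of 0, by simp [f]⟩
    · exact ⟨PresentedGroup.of 1, by simp [f]⟩
  obtain ⟨a, ha⟩ : ∃ a : PresentedGroup R, a = PresentedGroup.of 0 := ⟨_, rfl⟩
  obtain ⟨b, hb⟩ : ∃ b : PresentedGroup R, b = PresentedGroup.of 1 := ⟨_, rfl⟩
  have ha1 : a ^ n = 1 := ha ▸ PresentedGroup.one_of_mem (x := FreeGroup.of 0 ^ n) (Or.inl rfl)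
  have hb1 : b ^ m = 1 := hb ▸ PresentedGroup.one_of_mem (x := FreeGroup.of 1 ^ m) (Or.inr (Or.inl rfl))
  have hab : a⁻¹ * b * a = b ^ r := by
    rw [ha, hb]
    exact mul_inv_eq_one.1 (PresentedGroup.one_of_mem
      (x := (FreeGroup.of 0)⁻¹ * FreeGroup.of 1 * FreeGroup.of 0 * (FreeGroup.of 1 ^ r)⁻¹) (Or.inr (Or.inr rfl)))
  have hstep : ∀ t ∈ zpowers b, a⁻¹ * t * a ∈ zpowers b := by
    rintro _ ⟨i, rfl⟩
    show a⁻¹ * b ^ i * a ∈ zpowers b
    have h2 : a⁻¹ * b ^ i * a = (a⁻¹ * b * a) ^ i := by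
      have := conj_zpow (i := i) (a := a⁻¹) (b := b)
      rw [inv_inv] at this
      exact this.symm
    rw [h2, hab]
    exact zpow_mem (pow_mem (mem_zpowers b) r) i
  have hiter : ∀ k : ℕ, ∀ t ∈ zpowers b, (a ^ k)⁻¹ * t * a ^ k ∈ zpowers b := by
    intro k
    induction k with
    | zero => intro t ht; simpa using ht
    | succ k ih =>
      intro t ht
      rw [show (a ^ (k + 1))⁻¹ * t * a ^ (k + 1) = a⁻¹ * ((a ^ k)⁻¹ * t * a ^ k) * a by rw [pow_succ]; group]
      exact hstep _ (ih t ht)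
  have hinv : a⁻¹ = a ^ (n - 1) := by
    rw [inv_eq_iff_mul_eq_one, ← pow_succ', Nat.sub_add_cancel hn, ha1]
  have hnorm : normalizer (zpowers b : Set (PresentedGroup R)) = ⊤ := by
    rw [eq_top_iff, ← PresentedGroup.closure_range_of R, closure_le]
    rintro _ ⟨j, rfl⟩
    fin_cases j
    · show PresentedGroup.of 0 ∈ normalizer (zpowers b : Set (PresentedGroup R))
      rw [← ha, mem_normalizer_iff]
      refine fun t => ⟨fun ht => ?_, fun ht => ?_⟩
      · have := hiter (n - 1) t ht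
        rwa [← hinv, inv_inv] at this
      · have := hstep _ ht
        rwa [show a⁻¹ * (a * t * a⁻¹) * a = t by group] at this
    · show PresentedGroup.of 1 ∈ normalizer (zpowers b : Set (PresentedGroup R))
      rw [← hb]
      exact le_normalizer (mem_zpowers b)
  haveI : (zpowers b).Normal := normalizer_eq_top_iff.1 hnorm
  have hsup : zpowers a ⊔ zpowers b = ⊤ := by
    rw [eq_top_iff, ← PresentedGroup.closure_range_of R, closure_le]
    rintro _ ⟨j, rfl⟩
    fin_cases j
    · exact ha ▸ mem_sup_left (mem_zpowers a)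
    · exact hb ▸ mem_sup_right (mem_zpowers b)
  haveI : Finite (zpowers a) := finite_zpowers.2 (isOfFinOrder_iff_pow_eq_one.2 ⟨n, hn, ha1⟩)
  haveI : Finite (zpowers b) := finite_zpowers.2 (isOfFinOrder_iff_pow_eq_one.2 ⟨m, hm, hb1⟩)
  let μ : zpowers a × zpowers b → PresentedGroup R := fun t => (t.1 : PresentedGroup R) * t.2
  have hμ : Function.Surjective μ := fun g => by
    obtain ⟨u, hu, v, hv, huv⟩ := (mem_sup_of_normal_right).1 (hsup.ge (mem_top g))
    exact ⟨(⟨u, hu⟩, ⟨v, hv⟩), huv⟩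
  haveI : Finite (PresentedGroup R) := Finite.of_surjective μ hμ
  refine ⟨(MulEquiv.ofBijective f ((Nat.bijective_iff_surjective_and_card f).2 ⟨hfs, le_antisymm ?_
    (Nat.card_le_card_of_surjective f hfs)⟩)).symm⟩
  refine (Nat.card_le_card_of_surjective μ hμ).trans ?_
  rw [Nat.card_prod, Nat.card_zpowers, Nat.card_zpowers, hcard]
  exact Nat.mul_le_mul (Nat.le_of_dvd hn (orderOf_dvd_of_pow_eq_one ha1)) (Nat.le_of_dvd hm (orderOf_dvd_of_pow_eq_one hb1))

/-- A Z-group with commuting elements of distinct prime orders normalising each other. -/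
theorem exists_presentation {G : Type*} [Group G] [Finite G] [IsZGroup G]
    (hpq : ∀ d x : G, (orderOf d).Prime → (orderOf x).Prime → d * x * d⁻¹ ∈ zpowers x → Commute d x) :
    ∃ n m r : ℕ, 0 < n ∧ 0 < m ∧ Nat.Coprime (r - 1) m ∧ Nat.Coprime n m ∧ 1 ≤ r ∧
      r ^ (n / ∏ p ∈ n.primeFactors, p) % m = 1 % m ∧
      Nonempty (G ≃* PresentedGroup
        ({FreeGroup.of (0 : Fin 2) ^ n, FreeGroup.of (1 : Fin 2) ^ m,
          (FreeGroup.of (0 : Fin 2))⁻¹ * FreeGroup.of 1 * FreeGroup.of 0 * (FreeGroup.of (1 : Fin 2) ^ r)⁻¹} :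
          Set (FreeGroup (Fin 2)))) := by
  obtain ⟨H, hH⟩ := exists_right_complement'_of_coprime (IsZGroup.coprime_commutator_index (G := G))
  haveI : IsCyclic H := by
    let h1 : Abelianization G ≃* H := hH.symm.QuotientMulEquiv
    exact isCyclic_of_surjective _ h1.surjective
  haveI := IsZGroup.isCyclic_commutator G
  obtain ⟨x0, hx0⟩ := IsCyclic.exists_generator (α := H)
  obtain ⟨y0, hy0⟩ := IsCyclic.exists_generator (α := commutator G)
  obtain ⟨x, hxe⟩ : ∃ x : G, x = (x0 : G) := ⟨_, rfl⟩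
  obtain ⟨y, hye⟩ : ∃ y : G, y = (y0 : G) := ⟨_, rfl⟩
  set n := orderOf x with hn
  set m := orderOf y with hm
  have hxH : n = Nat.card H := by rw [hn, hxe, Subgroup.orderOf_coe, orderOf_eq_card_of_forall_mem_zpowers hx0]
  have hyC : m = Nat.card (commutator G) := by
    rw [hm, hye, Subgroup.orderOf_coe, orderOf_eq_card_of_forall_mem_zpowers hy0]
  have hcard : Nat.card G = n * m := by rw [hxH, hyC, ← hH.card_mul, mul_comm]
  have hcop : Nat.Coprime n m := by
    rw [hxH, hyC]
    have := (IsZGroup.coprime_commutator_index (G := G)).symm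
    rwa [hH.symm.index_eq_card] at this
  have hCz : ∀ t ∈ commutator G, t ∈ zpowers y := by
    intro t ht
    obtain ⟨i, hi⟩ := hy0 ⟨t, ht⟩
    exact ⟨i, by rw [hye]; exact congrArg Subtype.val hi⟩
  have hgen : closure ({x, y} : Set G) = ⊤ := by
    refine eq_top_iff.2 fun g _ => ?_
    obtain ⟨u, hu, v, hv, rfl⟩ := (mem_sup_of_normal_right).1
      ((show H ⊔ commutator G = ⊤ by rw [sup_comm]; exact hH.sup_eq_top).ge (mem_top g))
    obtain ⟨i, hi⟩ := hx0 ⟨u, hu⟩
    have hu' : x ^ i = u := by rw [hxe]; exact congrArg Subtype.val hi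
    obtain ⟨j, hj⟩ := hCz v hv
    simp only at hj
    have hX : x ∈ closure ({x, y} : Set G) := subset_closure (Set.mem_insert _ _)
    have hY : y ∈ closure ({x, y} : Set G) := subset_closure (Set.mem_insert_of_mem _ rfl)
    rw [← hu', ← hj]
    exact mul_mem (zpow_mem hX i) (zpow_mem hY j)
  have hyc : y ∈ commutator G := hye ▸ y0.2
  obtain ⟨r0, hr0⟩ := (isOfFinOrder_of_finite y).mem_powers_iff_mem_zpowers.2
    (hCz _ (show x⁻¹ * y * x ∈ commutator G by
      have := (inferInstance : (commutator G).Normal).conj_mem y hyc x⁻¹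
      rwa [inv_inv] at this))
  simp only at hr0
  have hm0 : 0 < m := orderOf_pos y
  have hn0 : 0 < n := orderOf_pos x
  set r := r0 + m with hrd
  have hr : x⁻¹ * y * x = y ^ r := by rw [hrd, pow_add, hm, pow_orderOf_eq_one, mul_one, hr0]
  have hr1 : 1 ≤ r := by omega
  refine ⟨n, m, r, hn0, hm0, ?_, hcop, hr1, ?_, ?_⟩
  · -- the derived subgroup is generated by `y ^ (r - 1)`
    set K := zpowers (y ^ (r - 1)) with hK
    haveI : K.Normal := by
      refine ⟨fun t ht g => ?_⟩
      obtain ⟨i, rfl⟩ := ht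
      show g * (y ^ (r - 1)) ^ i * g⁻¹ ∈ K
      obtain ⟨j, hj⟩ := hCz _ ((inferInstance : (commutator G).Normal).conj_mem y hyc g)
      rw [← conj_zpow, ← conj_pow, ← (show y ^ j = g * y * g⁻¹ from hj)]
      exact ⟨j * i, by simp only [← zpow_natCast, ← zpow_mul]; ring_nf⟩
    have hcomm : ∀ a b : G ⧸ K, a * b = b * a := by
      have hxy : (x : G ⧸ K) * y = y * x := by
        rw [← QuotientGroup.mk_mul, ← QuotientGroup.mk_mul, QuotientGroup.eq]
        have e : (x * y)⁻¹ * (y * x) = y⁻¹ * (x⁻¹ * y * x) := by group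
        rw [e, hr, show y ^ r = y * y ^ (r - 1) by rw [← pow_succ', Nat.sub_add_cancel hr1],
          inv_mul_cancel_left]
        exact mem_zpowers _
      have htop : closure ({(x : G ⧸ K), (y : G ⧸ K)} : Set (G ⧸ K)) = ⊤ := by
        have h := MonoidHom.map_closure (QuotientGroup.mk' K) {x, y}
        rw [hgen, map_top_of_surjective _ (QuotientGroup.mk'_surjective _), Set.image_pair] at h
        exact h.symm
      haveI : IsMulCommutative (⊤ : Subgroup (G ⧸ K)) := htop ▸ isMulCommutative_closure (by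
        rintro u (rfl | rfl) v (rfl | rfl)
        exacts [rfl, hxy, hxy.symm, rfl])
      exact fun a b => congrArg Subtype.val (mul_comm' (⟨a, mem_top a⟩ : (⊤ : Subgroup (G ⧸ K))) ⟨b, mem_top b⟩)
    have hle : commutator G ≤ K := by
      rw [_root_.commutator_def, commutator_le]
      intro a _ b _
      rw [← QuotientGroup.eq_one_iff, ← QuotientGroup.mk'_apply, map_commutatorElement]
      exact commutatorElement_eq_one_iff_mul_comm.2 (hcomm _ _)
    have h := orderOf_dvd_of_mem_zpowers (hle hyc)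
    rw [orderOf_pow, ← hm] at h
    rcases Nat.eq_zero_or_pos (Nat.gcd m (r - 1)) with hg | hg
    · simp [Nat.gcd_eq_zero_iff] at hg; omega
    have h' : Nat.gcd m (r - 1) = 1 := by
      by_contra hne
      have := Nat.div_lt_self hm0 (show 1 < Nat.gcd m (r - 1) by omega)
      have := Nat.le_of_dvd (Nat.div_pos (Nat.le_of_dvd hm0 (Nat.gcd_dvd_left _ _)) hg) h
      omega
    exact Nat.coprime_comm.1 h'
  · -- prime order elements of `⟨x⟩` centralise `⟨y⟩`
    have hpow : ∀ k : ℕ, (x ^ k)⁻¹ * y * x ^ k = y ^ (r ^ k) := by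
      intro k
      induction k with
      | zero => simp
      | succ k ih =>
        rw [show (x ^ (k + 1))⁻¹ * y * x ^ (k + 1) = x⁻¹ * ((x ^ k)⁻¹ * y * x ^ k) * x by rw [pow_succ]; group,
          ih, pow_succ' r, pow_mul, ← hr]
        have := conj_pow (i := r ^ k) (a := x⁻¹) (b := y)
        rw [inv_inv] at this
        exact this.symm
    set t := orderOf (MulAut.conjNormal (H := commutator G) x) with ht
    have htp : ∀ p ∈ n.primeFactors, t ∣ n / p := by
      intro p hp
      have hpp := Nat.prime_of_mem_primeFactors hp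
      have hpn := Nat.dvd_of_mem_primeFactors hp
      apply orderOf_dvd_of_pow_eq_one
      rw [← map_pow]
      set d := x ^ (n / p) with hd
      have hdo : orderOf d = p := by
        rw [hd, orderOf_pow, ← hn, Nat.gcd_eq_right (Nat.div_dvd_of_dvd hpn), Nat.div_div_self hpn hn0.ne']
      obtain ⟨a, ha⟩ := (isOfFinOrder_of_finite y).mem_powers_iff_mem_zpowers.2
        (hCz _ ((inferInstance : (commutator G).Normal).conj_mem y hyc d))
      simp only at ha
      have hap : ∀ k : ℕ, y ^ (a ^ k) = d ^ k * y * (d ^ k)⁻¹ := by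
        intro k
        induction k with
        | zero => simp
        | succ k ih =>
          rw [show d ^ (k + 1) * y * (d ^ (k + 1))⁻¹ = d * (d ^ k * y * (d ^ k)⁻¹) * d⁻¹ by rw [pow_succ']; group,
            ← ih, ← conj_pow, ← ha, ← pow_mul, pow_succ']
      have h1 : ((a : ZMod m)) ^ p = 1 := by
        rw [← Nat.cast_pow, ← Nat.cast_one, ZMod.natCast_eq_natCast_iff, hm, ← pow_eq_pow_iff_modEq, hap,
          ← hdo, pow_orderOf_eq_one]
        simp
      have h2 : ∀ q ∈ m.primeFactors, (q : ℤ) ∣ (a : ℤ) - 1 := by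
        intro q hq
        have hqp := Nat.prime_of_mem_primeFactors hq
        have hqm := Nat.dvd_of_mem_primeFactors hq
        have hzo : orderOf (y ^ (m / q)) = q := by
          rw [orderOf_pow, ← hm, Nat.gcd_eq_right (Nat.div_dvd_of_dvd hqm), Nat.div_div_self hqm hm0.ne']
        have hconj : d * y ^ (m / q) * d⁻¹ = (y ^ (m / q)) ^ a := by
          rw [← conj_pow, ← ha, ← pow_mul, ← pow_mul, mul_comm]
        have hc := hpq d (y ^ (m / q)) (by rw [hdo]; exact hpp) (by rw [hzo]; exact hqp) (by rw [hconj]; exact pow_mem (mem_zpowers _) a)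
        have h3 : (y ^ (m / q)) ^ a = (y ^ (m / q)) ^ 1 := by
          rw [← hconj, hc.eq, mul_inv_cancel_right, pow_one]
        rw [pow_eq_pow_iff_modEq, hzo] at h3
        exact Int.modEq_iff_dvd.1 (Int.natCast_modEq_iff.2 h3.symm)
      have hunit : IsUnit (∑ k ∈ Finset.range p, (a : ZMod m) ^ k) := by
        rw [show (∑ k ∈ Finset.range p, (a : ZMod m) ^ k) = ((∑ k ∈ Finset.range p, a ^ k : ℕ) : ZMod m) by push_cast; rfl,
          ZMod.isUnit_iff_coprime]
        refine Nat.coprime_of_dvd fun q hq hqS hqm => ?_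
        have hqa := h2 q (Nat.mem_primeFactors.2 ⟨hq, hqm, hm0.ne'⟩)
        have h4 : ((∑ k ∈ Finset.range p, a ^ k : ℕ) : ZMod q) = 0 := (ZMod.natCast_eq_zero_iff _ _).2 hqS
        have h5 : (a : ZMod q) = 1 := by
          have := (ZMod.intCast_zmod_eq_zero_iff_dvd _ q).2 hqa
          push_cast at this
          exact sub_eq_zero.1 this
        push_cast at h4
        simp only [h5, one_pow, Finset.sum_const, Finset.card_range, nsmul_eq_mul, mul_one] at h4
        have h6 := (Nat.prime_dvd_prime_iff_eq hq hpp).1 ((ZMod.natCast_eq_zero_iff _ _).1 h4)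
        exact hq.ne_one (Nat.eq_one_of_dvd_coprimes hcop (h6 ▸ hpn) hqm)
      have ha1 : (a : ZMod m) = 1 := by
        have h7 := geom_sum_mul (a : ZMod m) p
        rw [h1, sub_self] at h7
        exact sub_eq_zero.1 (hunit.mul_right_eq_zero.1 h7)
      have hdy : d * y * d⁻¹ = y := by
        rw [← ha]
        conv_rhs => rw [← pow_one y]
        rw [pow_eq_pow_iff_modEq, ← hm, ← ZMod.natCast_eq_natCast_iff, ha1, Nat.cast_one]
      refine MulEquiv.ext fun z => Subtype.ext ?_
      rw [MulAut.conjNormal_apply, MulAut.one_apply]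
      obtain ⟨i, hi⟩ := hCz _ z.2
      rw [← (show y ^ i = (z : G) from hi), ← conj_zpow, hdy]
    have htn : t * ∏ p ∈ n.primeFactors, p ∣ n := by
      have htd : t ∣ n := orderOf_dvd_of_pow_eq_one (by rw [← map_pow, hn, pow_orderOf_eq_one, map_one])
      obtain ⟨u, hu⟩ := htd
      have ht0 : 0 < t := orderOf_pos _
      rw [hu]
      refine mul_dvd_mul_left t (Finset.prod_primes_dvd u (fun p hp => (Nat.prime_of_mem_primeFactors hp).prime)
        fun p hp => ?_)
      rw [← hu] at hp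
      have hpn := Nat.dvd_of_mem_primeFactors hp
      have h8 : p * t ∣ n := (Nat.dvd_div_iff_mul_dvd hpn).1 (htp p hp)
      rw [hu, mul_comm p t] at h8
      exact (Nat.mul_dvd_mul_iff_left ht0).1 h8
    have hpi : 0 < ∏ p ∈ n.primeFactors, p := Finset.prod_pos fun p hp => Nat.pos_of_mem_primeFactors hp
    have htd : t ∣ n / ∏ p ∈ n.primeFactors, p := by
      rw [Nat.dvd_div_iff_mul_dvd ((dvd_mul_left _ t).trans htn), mul_comm]
      exact htn
    have hfix : MulAut.conjNormal (H := commutator G) (x ^ (n / ∏ p ∈ n.primeFactors, p))⁻¹ ⟨y, hyc⟩ = ⟨y, hyc⟩ := by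
      rw [map_inv, map_pow, orderOf_dvd_iff_pow_eq_one.1 htd, inv_one, MulAut.one_apply]
    have h9 := congrArg Subtype.val hfix
    rw [MulAut.conjNormal_apply, inv_inv, hpow] at h9
    have h10 : y ^ r ^ (n / ∏ p ∈ n.primeFactors, p) = y ^ 1 := h9.trans (pow_one y).symm
    rw [pow_eq_pow_iff_modEq, ← hm] at h10
    exact h10
  · exact nonempty_presentation hn0 hm0 (pow_orderOf_eq_one x) (pow_orderOf_eq_one y) hr hgen hcard

/-- A group of order four embeds in the symmetric group of degree four. -/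
theorem exists_injective_perm_four {Q : Type*} [Group Q] [Finite Q] (h : Nat.card Q = 4) :
    ∃ f : Q →* Equiv.Perm (Fin 4), Function.Injective f := by
  obtain ⟨ε⟩ : Nonempty (Q ≃ Fin 4) := ⟨(Finite.equivFin Q).trans (finCongr h)⟩
  exact ⟨ε.permCongrHom.toMonoidHom.comp (MulAction.toPermHom Q Q),
    ε.permCongrHom.injective.comp MulAction.toPerm_injective⟩

namespace Rep

universe u

variable {G : Type u} {L V : Type*} [Group G] [Field L] [AddCommGroup V] [Module L V] (P : Rep G L V)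
variable [Finite G] [IsAlgClosed L] [FiniteDimensional L V] [Nontrivial V]

include P in
/-- The structure of soluble fixed point free groups. -/
theorem solvable_structure (p : ℕ) [Fact p.Prime] [CharP L p] [Group.IsSolvable G] :
    ∃ G₀ : Subgroup G, G₀.Normal ∧ (∃ f : G →* Equiv.Perm (Fin 4), f.ker = G₀) ∧
      (∀ (q : ℕ) [Fact q.Prime] (Q : Sylow q G₀), IsCyclic Q) ∧
      ∃ n m r : ℕ, 0 < n ∧ 0 < m ∧ Nat.Coprime (r - 1) m ∧ Nat.Coprime n m ∧ 1 ≤ r ∧
        r ^ (n / ∏ p ∈ n.primeFactors, p) % m = 1 % m ∧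
        Nonempty (G₀ ≃* PresentedGroup
          ({FreeGroup.of (0 : Fin 2) ^ n, FreeGroup.of (1 : Fin 2) ^ m,
            (FreeGroup.of (0 : Fin 2))⁻¹ * FreeGroup.of 1 * FreeGroup.of 0 * (FreeGroup.of (1 : Fin 2) ^ r)⁻¹} :
            Set (FreeGroup (Fin 2)))) := by
  obtain ⟨N, hN, hcyc, hq⟩ := P.exists_six_solvable
  haveI : IsZGroup N := ⟨fun q hq Q => hcyc q hq _ Q.2⟩
  refine ⟨N, hN, ?_, fun q hqf Q => hcyc q hqf.out _ Q.2,
    exists_presentation fun d x hd hx hn => (P.restrict N).commute_of_prime_orders p hd hx hn⟩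
  rcases hq with h | ⟨f, hf, hk⟩ | ⟨f, hf, hk⟩ | ⟨f, hf, hk⟩ | ⟨f, hf, hk⟩ | ⟨f, hf, hk⟩
  · exact ⟨1, by rw [h]; ext; simp⟩
  · obtain ⟨g, hg⟩ := exists_injective_perm_four (Q := DihedralGroup 2) (by rw [DihedralGroup.nat_card])
    exact ⟨g.comp f, by rw [← hk]; ext t; simp [MonoidHom.mem_ker, map_eq_one_iff g hg]⟩
  · exact ⟨(alternatingGroup (Fin 4)).subtype.comp f, by
      rw [← hk]; ext t
      simp only [MonoidHom.mem_ker, MonoidHom.comp_apply]
      exact map_eq_one_iff _ (Subgroup.subtype_injective _)⟩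
  · exact ⟨f, hk⟩
  · exact absurd (Group.isSolvable_of_surjective hf) (fun hs => by
      haveI : IsSimpleGroup (alternatingGroup (Fin 5)) := alternatingGroup.isSimpleGroup_five
      haveI := hs
      refine (Group.IsSolvable.commutator_lt_top_of_nontrivial (alternatingGroup (Fin 5))).ne ?_
      rcases (commutator_normal (⊤ : Subgroup (alternatingGroup (Fin 5))) ⊤).eq_bot_or_eq_top with h | h
      · obtain ⟨a, b, hab⟩ : ∃ a b : alternatingGroup (Fin 5), a * b ≠ b * a :=
          ⟨⟨Equiv.swap 0 1 * Equiv.swap 2 3, Equiv.Perm.mem_alternatingGroup.2 (by decide)⟩,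
            ⟨Equiv.swap 0 2 * Equiv.swap 3 4, Equiv.Perm.mem_alternatingGroup.2 (by decide)⟩, by decide⟩
        exact absurd (commutatorElement_eq_one_iff_mul_comm.1
          (mem_bot.1 (h ▸ commutator_mem_commutator (mem_top a) (mem_top b)))) hab
      · exact h)
  · exact absurd (Group.isSolvable_of_surjective hf) Equiv.Perm.fin_5_not_solvable

end Rep

end CfsgLib.Recog.Zassenhaus
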