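import Cfsg.Agent.Lib.Recog.Zassenhaus.Rep
import Cfsg.Agent.Lib.Classical.Dickson.Structure
import Cfsg.Agent.Lib.ClassSizes.Kulakoff
import Cfsg.Agent.Lib.Recog.AltFive

/-!
# Two elements of order three in a fixed point free group

They generate a binary polyhedral group, so the anticommutator of their `gam`s is `±2` or squares to `20`.
-/

set_option autoImplicit false
set_option linter.all false

namespace CfsgLib.Recog.Zassenhaus

open Matrix
open scoped MatrixGroups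

theorem perm_four : ∀ x y : Equiv.Perm (Fin 4), x ^ 3 = 1 → y ^ 3 = 1 → (x * y) ^ 2 = 1 ∨ (x * y) ^ 3 = 1 := by
  decide +kernel

theorem alt_four : ∀ g : alternatingGroup (Fin 4), g ^ 2 = 1 ∨ g ^ 3 = 1 := by decide +kernel

theorem eq_or_eq_inv_of_cyclic {H : Type*} [Group H] [Finite H] (C : Subgroup H) [IsCyclic C] {x y : H}
    (hxC : x ∈ C) (hyC : y ∈ C) (hx : orderOf x = 3) (hy : orderOf y = 3) : y = x ∨ y = x⁻¹ := by
  have e := CfsgLib.ClassSizes.Kulakoff.eq_of_card_eq_of_isCyclic (G := C) (H := Subgroup.zpowers ⟨x, hxC⟩)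
    (K := Subgroup.zpowers ⟨y, hyC⟩)
    (by rw [Nat.card_zpowers, Nat.card_zpowers, Subgroup.orderOf_mk, Subgroup.orderOf_mk, hx, hy])
  obtain ⟨i, hi⟩ := Subgroup.mem_zpowers_iff.1 (e ▸ Subgroup.mem_zpowers (⟨y, hyC⟩ : C))
  have hi' : y = x ^ i := (congrArg Subtype.val hi).symm
  rw [← zpow_mod_orderOf, hx] at hi'
  have h1 := Int.emod_nonneg i (show ((3 : ℕ) : ℤ) ≠ 0 by norm_num)
  have h2 := Int.emod_lt_of_pos i (show (0 : ℤ) < ((3 : ℕ) : ℤ) by norm_num)
  have h3 : i % ((3 : ℕ) : ℤ) = 0 ∨ i % ((3 : ℕ) : ℤ) = 1 ∨ i % ((3 : ℕ) : ℤ) = 2 := by omega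
  rcases h3 with h | h | h <;> rw [h] at hi'
  · rw [zpow_zero] at hi'
    rw [hi', orderOf_one] at hy
    omega
  · left; rw [hi', zpow_one]
  · right
    rw [hi', eq_inv_iff_mul_eq_one, show x ^ (2 : ℤ) * x = x ^ (3 : ℤ) by group,
      show x ^ (3 : ℤ) = x ^ 3 by norm_cast, ← hx, pow_orderOf_eq_one]

/-- A polyhedral group: two elements of order three are powers of one another or have a product of order
at most five other than four. -/
theorem polyhedral {L : Type*} [Field L] [IsAlgClosed L] {p : ℕ} [Fact p.Prime] [CharP L p]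
    (K : Subgroup (CfsgLib.Classical.Dickson.Mob L)) [Finite K] (hp : ¬ p ∣ Nat.card K) {x y : K}
    (hx : x ^ 3 = 1) (hx1 : x ≠ 1) (hy : y ^ 3 = 1) (hy1 : y ≠ 1) :
    y = x ∨ y = x⁻¹ ∨ (x * y) ^ 2 = 1 ∨ (x * y) ^ 3 = 1 ∨ (x * y) ^ 5 = 1 := by
  haveI : Fact (Nat.Prime 3) := ⟨Nat.prime_three⟩
  have hxo : orderOf x = 3 := orderOf_eq_prime hx hx1
  have hyo : orderOf y = 3 := orderOf_eq_prime hy hy1
  rcases CfsgLib.Classical.Dickson.structure_cases (G := K) (p := p) with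
    ⟨hc, -⟩ | ⟨hpd, -⟩ | ⟨n, hn, -, -, ⟨e⟩⟩ | ⟨⟨e⟩⟩ | ⟨⟨e⟩⟩ | ⟨⟨e⟩⟩ | ⟨a, z, k, m, c, h3, -, -, -, hcard, -⟩
  · haveI : IsCyclic (⊤ : Subgroup K) := isCyclic_of_surjective (Subgroup.topEquiv (G := K)).symm.toMonoidHom
      (Subgroup.topEquiv (G := K)).symm.surjective
    rcases eq_or_eq_inv_of_cyclic ⊤ (Subgroup.mem_top x) (Subgroup.mem_top y) hxo hyo with h | h
    exacts [Or.inl h, Or.inr (Or.inl h)]
  · exact absurd hpd hp
  · haveI : NeZero n := ⟨by omega⟩
    have hmem : ∀ w : K, orderOf w = 3 → e w ∈ Subgroup.zpowers (DihedralGroup.r (1 : ZMod n)) := by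
      intro w hw
      have he : orderOf (e w) = 3 := by rw [MulEquiv.orderOf_eq, hw]
      rcases hc : e w with i | i
      · obtain ⟨j, rfl⟩ := ZMod.intCast_surjective i
        exact ⟨j, DihedralGroup.r_one_zpow j⟩
      · rw [hc, DihedralGroup.orderOf_sr] at he
        omega
    rcases eq_or_eq_inv_of_cyclic _ (hmem x hxo) (hmem y hyo) (by rw [MulEquiv.orderOf_eq, hxo])
      (by rw [MulEquiv.orderOf_eq, hyo]) with h | h
    · exact Or.inl (e.injective h)
    · exact Or.inr (Or.inl (e.injective (by rw [h, map_inv])))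
  · rcases alt_four (e (x * y)) with h | h
    · exact Or.inr (Or.inr (Or.inl (e.injective (by rw [map_pow, h, map_one]))))
    · exact Or.inr (Or.inr (Or.inr (Or.inl (e.injective (by rw [map_pow, h, map_one])))))
  · rcases perm_four (e x) (e y) (by rw [← map_pow, hx, map_one]) (by rw [← map_pow, hy, map_one]) with h | h
    · exact Or.inr (Or.inr (Or.inl (e.injective (by rw [map_pow, map_mul, h, map_one]))))
    · exact Or.inr (Or.inr (Or.inr (Or.inl (e.injective (by rw [map_pow, map_mul, h, map_one])))))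
  · rcases CfsgLib.Recog.AltFive.orders (e (x * y)) with h | h | h
    · exact Or.inr (Or.inr (Or.inl (e.injective (by rw [map_pow, h, map_one]))))
    · exact Or.inr (Or.inr (Or.inr (Or.inl (e.injective (by rw [map_pow, h, map_one])))))
    · exact Or.inr (Or.inr (Or.inr (Or.inr (e.injective (by rw [map_pow, h, map_one])))))
  · refine absurd ?_ hp
    rw [hcard]
    refine ((dvd_pow_self p ?_).mul_right m).mul_left _
    rintro rfl
    rw [pow_zero] at h3
    omega

namespace Rep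

variable {G L V : Type*} [Group G] [Field L] [AddCommGroup V] [Module L V] (P : Rep G L V)

section Plane

variable {w : Fin 2 → V}

/-- The elements acting on `w` through a matrix of determinant one. -/
def planeMonoid (w : Fin 2 → V) : Submonoid G where
  carrier := {g | ∃ M : SL(2, L), ∀ i, P.ρ g (w i) = ∑ j, (M : Matrix (Fin 2) (Fin 2) L) j i • w j}
  one_mem' := ⟨1, fun i => by fin_cases i <;> simp [Fin.sum_univ_two]⟩
  mul_mem' := by
    rintro g h ⟨M, hM⟩ ⟨N, hN⟩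
    refine ⟨M * N, fun i => ?_⟩
    rw [map_mul, Module.End.mul_apply, hN i]
    rw [show ((M * N : SL(2, L)) : Matrix (Fin 2) (Fin 2) L) = M.1 * N.1 from rfl]
    simp only [Fin.sum_univ_two, map_add, map_smul, hM, Matrix.mul_apply, smul_add, add_smul, smul_smul]
    simp only [mul_comm]
    abel

theorem plane_unique (hw : LinearIndependent L w) {g : G} {M N : SL(2, L)}
    (hM : ∀ i, P.ρ g (w i) = ∑ j, (M : Matrix (Fin 2) (Fin 2) L) j i • w j)
    (hN : ∀ i, P.ρ g (w i) = ∑ j, (N : Matrix (Fin 2) (Fin 2) L) j i • w j) : M = N := by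
  apply Subtype.ext
  ext j i
  exact Fintype.linearIndependent_iffₛ.1 hw (fun j => (M : Matrix (Fin 2) (Fin 2) L) j i)
    (fun j => (N : Matrix (Fin 2) (Fin 2) L) j i) ((hM i).symm.trans (hN i)) j

end Plane

theorem central_cases [Finite G] [Nontrivial V] {g : G} {n : ℕ} (h : P.ρ (g ^ n) = 1 ∨ P.ρ (g ^ n) = -1) :
    g ^ n = 1 ∨ P.ρ (g ^ n) = -1 :=
  h.imp_left fun e => P.injective (by rw [e, map_one])

/-- Elements of small order modulo `-1`. -/
theorem trace_cases [Finite G] [Nontrivial V] {p : ℕ} [Fact p.Prime] [CharP L p] {g : G}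
    (h : (g ^ 2 = 1 ∨ P.ρ (g ^ 2) = -1) ∨ (g ^ 3 = 1 ∨ P.ρ (g ^ 3) = -1) ∨ (g ^ 5 = 1 ∨ P.ρ (g ^ 5) = -1)) :
    g = 1 ∨ P.ρ g = -1 ∨ P.ρ g + P.ρ g⁻¹ = 0 ∨ P.ρ g + P.ρ g⁻¹ = 1 ∨ P.ρ g + P.ρ g⁻¹ = -1 ∨
      ((P.ρ g + P.ρ g⁻¹) * (P.ρ g + P.ρ g⁻¹) = P.ρ g + P.ρ g⁻¹ + 1 ∧ P.ρ (g ^ 5) = -1) ∨
      ((P.ρ g + P.ρ g⁻¹) * (P.ρ g + P.ρ g⁻¹) + (P.ρ g + P.ρ g⁻¹) = 1 ∧ ((5 : ℕ) : L) ≠ 0) := by
  have key : ∀ {E : Module.End L V}, P.ρ g * E = 1 → P.ρ g⁻¹ = E := by
    intro E hE
    rw [← mul_one (P.ρ g⁻¹), ← hE, ← mul_assoc, ρ_inv_mul, one_mul]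
  by_cases h1 : g = 1
  · exact Or.inl h1
  by_cases h2 : g ^ 2 = 1
  · exact Or.inr (Or.inl (P.invol h1 h2))
  rcases h with (h | h) | (h | h) | (h | h)
  · exact absurd h h2
  · right; right; left
    rw [key (E := -P.ρ g) (by rw [mul_neg, ← pow_two, ← map_pow, h, neg_neg]), add_neg_cancel]
  · right; right; right; right; left
    rw [P.ρ_inv_cube ⟨h, h1⟩]; abel
  · right; right; right; left
    have h6 : (g ^ 2) ^ 3 = 1 := by
      apply P.injective
      rw [← pow_mul, mul_comm, pow_mul, map_pow, h, map_one, pow_two, neg_one_mul, neg_neg]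
    have hs := P.cube_sum ⟨h6, h2⟩
    rw [map_pow] at hs h
    have e : P.ρ g * P.ρ g + 1 = P.ρ g := by
      calc P.ρ g * P.ρ g + 1 = (P.ρ g ^ 2 * P.ρ g ^ 2 + P.ρ g ^ 2 + 1) - P.ρ g ^ 3 * P.ρ g := by
            noncomm_ring
        _ = P.ρ g := by rw [hs, h]; simp
    rw [key (E := 1 - P.ρ g) (by rw [mul_sub, mul_one]; linear_combination (norm := abel) -e)]
    abel
  · right; right; right; right; right; right
    have h5 : ((5 : ℕ) : L) ≠ 0 := P.natCast_ne_zero (p := p) (by norm_num) h1 h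
    refine ⟨?_, h5⟩
    have hs := P.sum_eq_zero h1 h
    simp only [Finset.sum_range_succ, Finset.sum_range_zero, zero_add] at hs
    have hX : P.ρ g ^ 5 = 1 := by rw [← map_pow, h, map_one]
    rw [key (E := P.ρ g ^ 4) (by rw [← pow_succ', hX])]
    generalize P.ρ g = Y at hs hX
    calc (Y + Y ^ 4) * (Y + Y ^ 4) + (Y + Y ^ 4)
        = (Y ^ 0 + Y ^ 1 + Y ^ 2 + Y ^ 3 + Y ^ 4) + Y ^ 5 + Y ^ 5 + Y ^ 5 * Y ^ 3 - Y ^ 3 - 1 := by
          noncomm_ring
      _ = 1 := by rw [hs, hX, one_mul]; abel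
  · right; right; right; right; right; left
    refine ⟨?_, h⟩
    have h10 : (g ^ 2) ^ 5 = 1 := by
      apply P.injective
      rw [← pow_mul, mul_comm, pow_mul, map_pow, h, map_one, pow_two, neg_one_mul, neg_neg]
    have hs := P.sum_eq_zero h2 h10
    rw [map_pow] at hs h
    simp only [Finset.sum_range_succ, Finset.sum_range_zero, zero_add] at hs
    rw [key (E := -P.ρ g ^ 4) (by rw [mul_neg, ← pow_succ', h, neg_neg])]
    generalize P.ρ g = Y at hs h
    calc (Y + -Y ^ 4) * (Y + -Y ^ 4)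
        = ((Y ^ 2) ^ 0 + (Y ^ 2) ^ 1 + (Y ^ 2) ^ 2 + (Y ^ 2) ^ 3 + (Y ^ 2) ^ 4) - Y ^ 5 * Y - Y ^ 4 - Y ^ 5 - Y ^ 5 - 1 := by
          noncomm_ring
      _ = Y + -Y ^ 4 + 1 := by rw [hs, h, show (-1 : Module.End L V) * Y = -Y by rw [neg_one_mul]]; abel

/-- The trichotomy for two elements of order three. -/
theorem dot_cases [Finite G] [IsAlgClosed L] [FiniteDimensional L V] [Nontrivial V] {p : ℕ} [Fact p.Prime]
    [CharP L p] (h2 : (2 : L) ≠ 0) {a b : G} (ha : Cube a) (hb : Cube b) :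
    b = a ∨ b = a⁻¹ ∨ P.dot a b = 2 ∨ P.dot a b = -2 ∨
      (P.dot a b * P.dot a b = 20 ∧ P.ρ ((a * b) ^ 5) = -1) := by
  classical
  by_cases hba : b = a
  · exact Or.inl hba
  by_cases hba' : b = a⁻¹
  · exact Or.inr (Or.inl hba')
  right; right
  have h3 : ((3 : ℕ) : L) ≠ 0 := P.natCast_ne_zero (p := p) Nat.prime_three ha.2 ha.1
  have h2' : ((2 : ℕ) : L) ≠ 0 := by exact_mod_cast h2
  have hm1 : (-1 : Module.End L V) ≠ 1 := fun h => natCast_ne (R := Module.End L V) h2'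
    (by push_cast; rw [← one_add_one_eq_two]; nth_rewrite 1 [← h]; exact neg_add_cancel 1)
  -- `a` and `b` do not commute
  have hnc : a * b ≠ b * a := by
    intro hc
    have hc' : Commute (P.ρ a) (P.ρ b) := by rw [Commute, SemiconjBy, ← map_mul, hc, map_mul]
    have e1 : (P.ρ b - P.ρ a) * (P.ρ b - P.ρ a⁻¹) = 0 := by
      rw [P.ρ_inv_cube ha]
      calc (P.ρ b - P.ρ a) * (P.ρ b - (-1 - P.ρ a))
          = (P.ρ b * P.ρ b + P.ρ b + 1) - (P.ρ a * P.ρ a + P.ρ a + 1) + (P.ρ b * P.ρ a - P.ρ a * P.ρ b) := by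
            noncomm_ring
        _ = 0 := by rw [P.cube_sum ha, P.cube_sum hb, hc'.eq]; abel
    have e2 : (P.ρ (a⁻¹ * b) - 1) * (P.ρ b - P.ρ a⁻¹) = 0 := by
      calc (P.ρ (a⁻¹ * b) - 1) * (P.ρ b - P.ρ a⁻¹) = P.ρ a⁻¹ * ((P.ρ b - P.ρ a) * (P.ρ b - P.ρ a⁻¹)) := by
            rw [map_mul, ← mul_assoc, mul_sub (P.ρ a⁻¹), ρ_inv_mul]
        _ = 0 := by rw [e1, mul_zero]
    have e3 := P.eq_zero_of_sub_mul (g := a⁻¹ * b) (fun h => hba (inv_mul_eq_one.1 h).symm) e2
    exact hba' (P.injective (sub_eq_zero.1 e3))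
  -- an invariant plane
  obtain ⟨s₀, hs₀⟩ := Module.End.exists_eigenvalue (P.dot a b)
  let U := Module.End.eigenspace (P.dot a b) s₀
  have hUa : ∀ v ∈ U, P.gam a v ∈ U := by
    intro v hv
    rw [Module.End.mem_eigenspace_iff] at hv ⊢
    rw [← Module.End.mul_apply, ← (P.dot_commute_left ha b).eq, Module.End.mul_apply, hv, map_smul]
  haveI : Nontrivial U := Submodule.nontrivial_iff_ne_bot.2 hs₀
  obtain ⟨lam, hlam⟩ := Module.End.exists_eigenvalue ((P.gam a).restrict hUa)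
  obtain ⟨⟨w, hwU⟩, hw, hw0⟩ := hlam.exists_hasEigenvector
  rw [Module.End.mem_eigenspace_iff] at hw
  have hw' : P.gam a w = lam • w := congrArg Subtype.val hw
  have hw0' : w ≠ 0 := fun h => hw0 (Subtype.ext h)
  have hs : P.dot a b w = s₀ • w := Module.End.mem_eigenspace_iff.1 hwU
  have hlam2 : lam * lam = -3 := by
    have e := congrArg (fun f : Module.End L V => f w) (P.gam_sq ha)
    simp only [Module.End.mul_apply, hw', map_smul, smul_smul] at e
    rw [show (-3 : Module.End L V) = algebraMap L _ (-3) by rw [map_neg, map_ofNat], Module.algebraMap_end_apply, ← sub_eq_zero,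
      ← sub_smul, smul_eq_zero] at e
    exact sub_eq_zero.1 (e.resolve_right hw0')
  have hρ : ∀ (g : G) v, P.ρ g v = (2 : L)⁻¹ • (P.gam g v - v) := by
    intro g v
    rw [gam, LinearMap.add_apply, Module.End.one_apply, add_sub_cancel_right, Module.End.mul_apply,
      show (2 : Module.End L V) = algebraMap L _ 2 by rw [map_ofNat], Module.algebraMap_end_apply, inv_smul_smul₀ h2]
  have hwa : P.gam a (P.gam b w) = s₀ • w - lam • P.gam b w := by
    have e := congrArg (fun v => v - P.gam b (P.gam a w)) hs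
    simp only [dot, LinearMap.add_apply, Module.End.mul_apply, add_sub_cancel_right, hw', map_smul] at e
    exact e
  have hwb : P.gam b (P.gam b w) = (-3 : L) • w := by
    rw [← Module.End.mul_apply, P.gam_sq hb, show (-3 : Module.End L V) = algebraMap L _ (-3) by rw [map_neg, map_ofNat],
      Module.algebraMap_end_apply]
  let W : Fin 2 → V := ![w, P.gam b w]
  have hWind : LinearIndependent L W := by
    rw [LinearIndependent.pair_iff' hw0']
    intro μ hμ
    apply hnc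
    have ea : P.ρ a w = ((2 : L)⁻¹ * (lam - 1)) • w := by rw [hρ, hw', mul_smul, sub_smul, one_smul]
    have eb : P.ρ b w = ((2 : L)⁻¹ * (μ - 1)) • w := by rw [hρ, ← hμ, mul_smul, sub_smul, one_smul]
    rw [← inv_mul_eq_one (a := a * b), _root_.mul_inv_rev]
    have hcomm : P.ρ (a * b) w = P.ρ (b * a) w := by
      rw [map_mul, map_mul, Module.End.mul_apply, Module.End.mul_apply, ea, eb, map_smul, map_smul, ea, eb,
        smul_smul, smul_smul, mul_comm]
    apply P.eq_one_of_fix hw0'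
    rw [← _root_.mul_inv_rev, map_mul, Module.End.mul_apply, ← hcomm, ← Module.End.mul_apply, ρ_inv_mul,
      Module.End.one_apply]
  let S : Submonoid G := P.planeMonoid W
  have ha' : a ∈ S := by
    refine ⟨⟨!![(2 : L)⁻¹ * (lam - 1), (2 : L)⁻¹ * s₀; 0, (2 : L)⁻¹ * (-lam - 1)], ?_⟩, fun i => ?_⟩
    · rw [det_fin_two_of]
      field_simp
      linear_combination (-1 : L) * hlam2
    · fin_cases i
      · simp [W, hρ, hw', mul_smul, sub_smul, smul_sub]
      · simp [W, hρ, hwa, mul_smul, sub_smul, smul_sub, neg_smul]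
        abel
  have hb' : b ∈ S := by
    refine ⟨⟨!![-(2 : L)⁻¹, -3 * (2 : L)⁻¹; (2 : L)⁻¹, -(2 : L)⁻¹], ?_⟩, fun i => ?_⟩
    · rw [det_fin_two_of]
      field_simp
      norm_num
    · fin_cases i
      · simp [W, hρ, smul_sub, sub_eq_add_neg, add_comm]
      · simp [W, hρ, hwb, smul_sub, smul_smul, sub_eq_add_neg, mul_comm]
  let K : Subgroup G := Subgroup.closure {a, b}
  have hKS : ∀ k ∈ K, k ∈ S := by
    intro k hk
    induction hk using Subgroup.closure_induction with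
    | mem x hx => rcases hx with rfl | rfl <;> assumption
    | one => exact S.one_mem
    | mul x y _ _ hx hy => exact S.mul_mem hx hy
    | inv x _ hx =>
      rw [← one_mul x⁻¹, ← pow_orderOf_eq_one x, ← Nat.sub_add_cancel (orderOf_pos x), pow_succ, mul_inv_cancel_right]
      exact S.pow_mem hx _
  choose φ hφ using fun k : K => hKS k k.2
  let ψ₀ : K →* SL(2, L) := MonoidHom.mk' φ fun k l => by
    obtain ⟨M, hM⟩ := S.mul_mem (hKS k k.2) (hKS l l.2)
    refine (P.plane_unique hWind (hφ (k * l)) ?_)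
    intro i
    rw [Subgroup.coe_mul, map_mul, Module.End.mul_apply, hφ l i]
    rw [show ((φ k * φ l : SL(2, L)) : Matrix (Fin 2) (Fin 2) L) = (φ k).1 * (φ l).1 from rfl]
    simp only [Fin.sum_univ_two, map_add, map_smul, hφ k, Matrix.mul_apply, smul_add, add_smul, smul_smul]
    simp only [mul_comm]
    abel
  let ψ : K →* CfsgLib.Classical.Dickson.Mob L :=
    (ProjGenLinGroup.mk.comp SpecialLinearGroup.toGL).comp ψ₀
  have hker : ∀ k : K, ψ k = 1 → (k : G) = 1 ∨ P.ρ (k : G) = -1 := by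
    intro k hk
    have hk' : ProjGenLinGroup.mk (SpecialLinearGroup.toGL (φ k)) = (1 : CfsgLib.Classical.Dickson.Mob L) := hk
    rw [ProjGenLinGroup.mk_eq_one, GeneralLinearGroup.center_eq_range_scalar] at hk'
    obtain ⟨u, hu⟩ := hk'
    have e := congrArg (fun g : GL (Fin 2) L => (g : Matrix (Fin 2) (Fin 2) L)) hu
    simp only [GeneralLinearGroup.coe_scalar, SpecialLinearGroup.coe_GL_coe_matrix, Matrix.scalar_apply] at e
    have hkw : P.ρ (k : G) w = (u : L) • w := by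
      have h0 := hφ k 0
      rw [← e] at h0
      simpa [W, Fin.sum_univ_two] using h0
    have hu2 : (u : L) * u = 1 := by
      have hd := (φ k).2
      rw [← e] at hd
      simpa [det_fin_two, Matrix.diagonal] using hd
    have hk2 : (k : G) ^ 2 = 1 := by
      apply P.eq_one_of_fix hw0'
      rw [pow_two, map_mul, Module.End.mul_apply, hkw, map_smul, hkw, smul_smul, hu2, one_smul]
    by_cases hk1 : (k : G) = 1
    exacts [Or.inl hk1, Or.inr (P.invol hk1 hk2)]
  haveI : Finite ψ.range := Finite.of_surjective ψ.rangeRestrict ψ.rangeRestrict_surjective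
  have hp : ¬ p ∣ Nat.card ψ.range :=
    fun h => P.not_dvd_card (p := p) ((h.trans (Subgroup.card_range_dvd ψ)).trans (Subgroup.card_subgroup_dvd_card K))
  let a' : K := ⟨a, Subgroup.subset_closure (Set.mem_insert _ _)⟩
  let b' : K := ⟨b, Subgroup.subset_closure (Set.mem_insert_of_mem _ rfl)⟩
  let f : K →* ψ.range := ψ.rangeRestrict
  have hf : ∀ k : K, f k = 1 → (k : G) = 1 ∨ P.ρ (k : G) = -1 := fun k hk => hker k (congrArg Subtype.val hk)
  have hcube : ∀ {x : G}, Cube x → P.ρ x ≠ -1 := by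
    intro x hx e
    apply hm1
    have h := congrArg P.ρ hx.1
    rw [map_pow, e, map_one] at h
    simpa [pow_succ] using h
  have hfa : f a' ≠ 1 := fun h => (hf a' h).elim ha.2 (hcube ha)
  have hfb : f b' ≠ 1 := fun h => (hf b' h).elim hb.2 (hcube hb)
  have hne : ∀ {x : G}, Cube x → b ≠ x → P.ρ (x⁻¹ * b) ≠ -1 := by
    intro x hx _ e
    apply hm1
    have hb3 := congrArg P.ρ hb.1
    have hbx : P.ρ b = -P.ρ x := by
      calc P.ρ b = P.ρ x * P.ρ (x⁻¹ * b) := by rw [← map_mul, mul_inv_cancel_left]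
        _ = -P.ρ x := by rw [e, mul_neg, mul_one]
    rw [map_pow, hbx, map_one, neg_pow, ← map_pow, hx.1, map_one, mul_one] at hb3
    simpa [pow_succ] using hb3
  have hcase : ((a * b) ^ 2 = 1 ∨ P.ρ ((a * b) ^ 2) = -1) ∨ ((a * b) ^ 3 = 1 ∨ P.ρ ((a * b) ^ 3) = -1) ∨
      ((a * b) ^ 5 = 1 ∨ P.ρ ((a * b) ^ 5) = -1) := by
    have ha3 : f a' ^ 3 = 1 := by rw [← map_pow, show a' ^ 3 = 1 from Subtype.ext ha.1, map_one]
    have hb3 : f b' ^ 3 = 1 := by rw [← map_pow, show b' ^ 3 = 1 from Subtype.ext hb.1, map_one]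
    rcases polyhedral (p := p) ψ.range hp ha3 hfa hb3 hfb with h | h | h | h | h
    · rcases hf (a'⁻¹ * b') (by rw [map_mul, map_inv, h, inv_mul_cancel]) with e | e
      · exact absurd (inv_mul_eq_one.1 e).symm hba
      · exact absurd e (hne ha hba)
    · rcases hf (a'⁻¹⁻¹ * b') (by rw [map_mul, map_inv, map_inv, h, inv_mul_cancel]) with e | e
      · exact absurd (inv_mul_eq_one.1 e).symm hba'
      · exact absurd e (hne ha.inv hba')
    · exact Or.inl (hf ((a' * b') ^ 2) (by rw [map_pow, map_mul, h]))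
    · exact Or.inr (Or.inl (hf ((a' * b') ^ 3) (by rw [map_pow, map_mul, h])))
    · exact Or.inr (Or.inr (hf ((a' * b') ^ 5) (by rw [map_pow, map_mul, h])))
  -- the traces
  have hv : P.ρ (a * b) + P.ρ (a * b)⁻¹ = P.ρ a * P.ρ b + P.ρ b * P.ρ a + P.ρ a + P.ρ b + 1 := by
    rw [_root_.mul_inv_rev, map_mul, map_mul, P.ρ_inv_cube ha, P.ρ_inv_cube hb]; noncomm_ring
  have hv' : P.ρ (a * b⁻¹) + P.ρ (a * b⁻¹)⁻¹ = 1 - (P.ρ (a * b) + P.ρ (a * b)⁻¹) := by
    rw [hv, _root_.mul_inv_rev, inv_inv, map_mul, map_mul, P.ρ_inv_cube ha, P.ρ_inv_cube hb]; noncomm_ring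
  have hsv : P.dot a b = 4 * (P.ρ (a * b) + P.ρ (a * b)⁻¹) - 2 := by
    rw [hv, dot, gam, gam, show (4 : Module.End L V) = 1 + 1 + 1 + 1 by norm_num,
      show (2 : Module.End L V) = 1 + 1 by norm_num]
    noncomm_ring
  have hgab : a * b ≠ 1 := fun h => hba' (eq_inv_of_mul_eq_one_right h)
  have hgab' : P.ρ (a * b) ≠ -1 := fun e => hne ha.inv hba' (by rw [inv_inv]; exact e)
  rcases P.trace_cases (p := p) hcase with h | h | h | h | h | ⟨h, h'⟩ | ⟨h, h5⟩
  · exact absurd h hgab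
  · exact absurd h hgab'
  · right; left; rw [hsv, h]; norm_num
  · left; rw [hsv, h]; norm_num
  · -- then `a b⁻¹` would be unipotent
    exfalso
    rw [h] at hv'
    apply hba
    have e1 : (P.ρ (a * b⁻¹) - 1) * (P.ρ (a * b⁻¹) - 1) = 0 := by
      calc (P.ρ (a * b⁻¹) - 1) * (P.ρ (a * b⁻¹) - 1)
          = P.ρ (a * b⁻¹) * (P.ρ (a * b⁻¹) + P.ρ (a * b⁻¹)⁻¹ - (1 - -1)) +
              (1 - P.ρ (a * b⁻¹) * P.ρ (a * b⁻¹)⁻¹) := by noncomm_ring
        _ = 0 := by rw [hv', ρ_mul_inv]; noncomm_ring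
    by_contra hne'
    have e2 := P.eq_zero_of_sub_mul (g := a * b⁻¹) (fun h => hne' (mul_inv_eq_one.1 h).symm) e1
    exact hne' (mul_inv_eq_one.1 (P.injective ((sub_eq_zero.1 e2).trans (map_one _).symm))).symm
  · right; right
    refine ⟨?_, h'⟩
    rw [hsv]
    generalize P.ρ (a * b) + P.ρ (a * b)⁻¹ = v at h
    calc (4 * v - 2) * (4 * v - 2) = 16 * (v * v - v - 1) + 20 := by
          noncomm_ring
          simp only [nsmul_eq_mul, zsmul_eq_mul]
          norm_num
      _ = 20 := by rw [h]; simp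
  · -- then `a b⁻¹` has no admissible order
    exfalso
    have hinv : Cube b⁻¹ := hb.inv
    have hcase' : a * b⁻¹ = 1 ∨ P.ρ (a * b⁻¹) = -1 ∨ ∃ X, X = P.ρ (a * b⁻¹) + P.ρ (a * b⁻¹)⁻¹ ∧
        (X = 0 ∨ X = 1 ∨ X = -1 ∨ X * X = X + 1 ∨ X * X + X = 1) := by
      have : ((a * b⁻¹) ^ 2 = 1 ∨ P.ρ ((a * b⁻¹) ^ 2) = -1) ∨ ((a * b⁻¹) ^ 3 = 1 ∨ P.ρ ((a * b⁻¹) ^ 3) = -1) ∨
          ((a * b⁻¹) ^ 5 = 1 ∨ P.ρ ((a * b⁻¹) ^ 5) = -1) := by
        have ha3 : f a' ^ 3 = 1 := by rw [← map_pow, show a' ^ 3 = 1 from Subtype.ext ha.1, map_one]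
        have hb3 : f b'⁻¹ ^ 3 = 1 := by rw [← map_pow, show b'⁻¹ ^ 3 = 1 from Subtype.ext hinv.1, map_one]
        have hfb' : f b'⁻¹ ≠ 1 := by rw [map_inv]; exact inv_ne_one.2 hfb
        rcases polyhedral (p := p) ψ.range hp ha3 hfa hb3 hfb' with h | h | h | h | h
        · rcases hf (a'⁻¹⁻¹ * b') (by rw [map_mul, map_inv, map_inv, ← h, map_inv, inv_inv, inv_mul_cancel]) with e | e
          · exact absurd (inv_mul_eq_one.1 e).symm hba'
          · exact absurd e (hne ha.inv hba')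
        · rcases hf (a'⁻¹ * b') (by rw [map_mul, map_inv, ← h, map_inv, inv_mul_cancel]) with e | e
          · exact absurd (inv_mul_eq_one.1 e).symm hba
          · exact absurd e (hne ha hba)
        · exact Or.inl (hf ((a' * b'⁻¹) ^ 2) (by rw [map_pow, map_mul, h]))
        · exact Or.inr (Or.inl (hf ((a' * b'⁻¹) ^ 3) (by rw [map_pow, map_mul, h])))
        · exact Or.inr (Or.inr (hf ((a' * b'⁻¹) ^ 5) (by rw [map_pow, map_mul, h])))
      rcases P.trace_cases (p := p) this with e | e | e | e | e | ⟨e, -⟩ | ⟨e, -⟩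
      exacts [Or.inl e, Or.inr (Or.inl e), Or.inr (Or.inr ⟨_, rfl, Or.inl e⟩),
        Or.inr (Or.inr ⟨_, rfl, Or.inr (Or.inl e)⟩), Or.inr (Or.inr ⟨_, rfl, Or.inr (Or.inr (Or.inl e))⟩),
        Or.inr (Or.inr ⟨_, rfl, Or.inr (Or.inr (Or.inr (Or.inl e)))⟩),
        Or.inr (Or.inr ⟨_, rfl, Or.inr (Or.inr (Or.inr (Or.inr e)))⟩)]
    rcases hcase' with e | e | ⟨X, hX, e⟩
    · exact hba (mul_inv_eq_one.1 e).symm
    · refine hne ha hba ?_
      rw [show a⁻¹ * b = (b⁻¹ * a)⁻¹ by group]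
      have e' : P.ρ (b⁻¹ * a) = -1 := by
        calc P.ρ (b⁻¹ * a) = P.ρ b⁻¹ * P.ρ (a * b⁻¹) * P.ρ b := by
              rw [← map_mul, ← map_mul]; congr 1; group
          _ = -1 := by rw [e]; simp [ρ_inv_mul]
      calc P.ρ (b⁻¹ * a)⁻¹ = -(P.ρ (b⁻¹ * a)⁻¹ * P.ρ (b⁻¹ * a)) := by rw [e']; simp
        _ = -1 := by rw [ρ_inv_mul]
    generalize P.ρ (a * b) + P.ρ (a * b)⁻¹ = v at h hv'
    rw [← hX] at hv'
    subst hv'
    have one : ∀ {n : ℕ}, (n : L) ≠ 0 → (n : Module.End L V) = 0 → False := fun hn h => natCast_ne hn h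
    rcases e with e | e | e | e | e
    · rw [sub_eq_zero] at e
      rw [← e] at h
      exact one (n := 1) (by simp) (by simpa using h)
    · rw [sub_eq_self] at e
      rw [e] at h
      exact one (n := 1) (by simp) (by simp at h)
    · have e' : v = 2 := by
        rw [show (2 : Module.End L V) = 1 + 1 by norm_num]
        linear_combination (norm := abel) -e
      rw [e'] at h
      refine one h5 ?_
      calc ((5 : ℕ) : Module.End L V) = (2 * 2 + 2) - 1 := by norm_num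
        _ = 0 := by rw [h, sub_self]
    · have hv0 : (2 : ℕ) * v = 0 := by
        calc ((2 : ℕ) : Module.End L V) * v = (v * v + v - 1) - ((1 - v) * (1 - v) - ((1 - v) + 1)) := by
              push_cast; noncomm_ring
          _ = 0 := by rw [h, e]; abel
      have := eq_zero_of_natMul h2' hv0
      rw [this] at h
      exact one (n := 1) (by simp) (by simpa using h.symm)
    · have hv1 : (4 : ℕ) * v = (2 : ℕ) := by
        calc ((4 : ℕ) : Module.End L V) * v
            = (v * v + v - 1) - ((1 - v) * (1 - v) + (1 - v) - 1) + 2 := by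
              push_cast
              rw [show (4 : Module.End L V) = 1 + 1 + 1 + 1 by norm_num, show (2 : Module.End L V) = 1 + 1 by norm_num]
              noncomm_ring
          _ = (2 : ℕ) := by rw [h, e]; push_cast; abel
      have h4v : (2 : ℕ) * v = 1 := by
        refine eq_of_natMul h2' ?_
        rw [← mul_assoc, mul_one, ← Nat.cast_mul]
        exact hv1
      refine one (n := 1) (by simp) ?_
      calc ((1 : ℕ) : Module.End L V)
          = 4 - ((2 : ℕ) * v) * ((2 : ℕ) * v) - 2 * ((2 : ℕ) * v) := by rw [h4v]; norm_num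
        _ = -(4 * (v * v + v - 1)) := by
            push_cast
            rw [show (4 : Module.End L V) = 1 + 1 + 1 + 1 by norm_num, show (2 : Module.End L V) = 1 + 1 by norm_num]
            noncomm_ring
        _ = 0 := by rw [h]; simp

end Rep

end CfsgLib.Recog.Zassenhaus
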