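import Cfsg.Agent.Lib.Recog.Zassenhaus.Frame

/-!
# Fixed point free representations: elementary identities

For a fixed point free representation and elements `g` of order three, `gam g = 2 g + 1` squares to `-3`.
-/

set_option autoImplicit false
set_option linter.all false

namespace CfsgLib.Recog.Zassenhaus

/-- A fixed point free representation. -/
structure Rep (G L V : Type*) [Group G] [Field L] [AddCommGroup V] [Module L V] where
  ρ : G →* Module.End L V
  fpf : ∀ g : G, g ≠ 1 → ∀ v : V, ρ g v = v → v = 0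

namespace Rep

variable {G L V : Type*} [Group G] [Field L] [AddCommGroup V] [Module L V] (P : Rep G L V)

theorem ρ_inv_mul (g : G) : P.ρ g⁻¹ * P.ρ g = 1 := by rw [← map_mul, inv_mul_cancel, map_one]

theorem ρ_mul_inv (g : G) : P.ρ g * P.ρ g⁻¹ = 1 := by rw [← map_mul, mul_inv_cancel, map_one]

theorem eq_one_of_fix {g : G} {v : V} (hv : v ≠ 0) (h : P.ρ g v = v) : g = 1 :=
  by_contra fun hg => hv (P.fpf g hg v h)

theorem eq_zero_of_sub_mul {g : G} (hg : g ≠ 1) {E : Module.End L V} (h : (P.ρ g - 1) * E = 0) : E = 0 := by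
  ext v
  have h1 := congrArg (fun f : Module.End L V => f v) h
  simp only [Module.End.mul_apply, LinearMap.sub_apply, Module.End.one_apply, LinearMap.zero_apply] at h1
  exact P.fpf g hg _ (sub_eq_zero.1 h1)

theorem injective [Nontrivial V] : Function.Injective P.ρ := by
  intro g h hgh
  obtain ⟨v, hv⟩ := exists_ne (0 : V)
  rw [← inv_mul_eq_one]
  apply P.eq_one_of_fix hv
  rw [map_mul, ← hgh, ρ_inv_mul, Module.End.one_apply]

theorem sum_eq_zero {g : G} (hg : g ≠ 1) {n : ℕ} (h : g ^ n = 1) :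
    ∑ i ∈ Finset.range n, P.ρ g ^ i = 0 :=
  P.eq_zero_of_sub_mul hg (by rw [mul_geom_sum, ← map_pow, h, map_one, sub_self])

theorem invol {g : G} (hg : g ≠ 1) (h : g ^ 2 = 1) : P.ρ g = -1 := by
  have h1 := P.sum_eq_zero hg h
  rw [Finset.sum_range_succ, Finset.sum_range_one, pow_zero, pow_one, add_comm] at h1
  exact eq_neg_of_add_eq_zero_left h1

include P in
theorem not_dvd_card [Finite G] [Nontrivial V] {p : ℕ} [hp : Fact p.Prime] [CharP L p] : ¬ p ∣ Nat.card G := by
  intro hd
  obtain ⟨g, hg⟩ := exists_prime_orderOf_dvd_card' p hd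
  have hg1 : g ≠ 1 := fun h => by rw [h, orderOf_one] at hg; exact hp.out.one_lt.ne hg
  haveI : CharP (Module.End L V) p :=
    charP_of_injective_algebraMap (FaithfulSMul.algebraMap_injective L (Module.End L V)) p
  have h : (P.ρ g - 1) ^ p = 0 := by
    rw [sub_pow_char_of_commute p (Commute.one_right _), ← map_pow, ← hg, pow_orderOf_eq_one, map_one, hg, one_pow, sub_self]
  have : ∀ n, (P.ρ g - 1) ^ n = 0 → (1 : Module.End L V) = 0 := by
    intro n
    induction n with
    | zero => intro h; simpa using h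
    | succ n ih =>
      intro h
      rw [pow_succ'] at h
      exact ih (P.eq_zero_of_sub_mul hg1 h)
  exact one_ne_zero (this p h)

include P in
theorem natCast_ne_zero [Finite G] [Nontrivial V] {p : ℕ} [hp : Fact p.Prime] [CharP L p] {g : G} {q : ℕ}
    (hq : q.Prime) (hg : g ≠ 1) (h : g ^ q = 1) : (q : L) ≠ 0 := by
  haveI := Fact.mk hq
  rw [Ne, CharP.cast_eq_zero_iff L p]
  intro hd
  have e := (Nat.prime_dvd_prime_iff_eq hp.out hq).1 hd
  subst e
  exact P.not_dvd_card (p := p) (orderOf_eq_prime h hg ▸ orderOf_dvd_natCard g)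

/-- Elements of order three. -/
def Cube (g : G) : Prop := g ^ 3 = 1 ∧ g ≠ 1

theorem cube_sum {g : G} (hg : Cube g) : P.ρ g * P.ρ g + P.ρ g + 1 = 0 := by
  have h1 := P.sum_eq_zero hg.2 hg.1
  rw [Finset.sum_range_succ, Finset.sum_range_succ, Finset.sum_range_one, pow_zero, pow_one, pow_two] at h1
  rw [← h1]; abel

theorem Cube.inv {g : G} (hg : Cube g) : Cube g⁻¹ :=
  ⟨by rw [inv_pow, hg.1, inv_one], inv_ne_one.2 hg.2⟩

theorem Cube.conj {g : G} (hg : Cube g) (h : G) : Cube (h * g * h⁻¹) :=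
  ⟨by rw [conj_pow, hg.1, mul_one, mul_inv_cancel], fun e => hg.2 (by simpa using e)⟩

theorem ρ_inv_cube {g : G} (hg : Cube g) : P.ρ g⁻¹ = -1 - P.ρ g := by
  have h : g⁻¹ = g * g := inv_eq_of_mul_eq_one_right (by rw [← hg.1, pow_succ, pow_two, mul_assoc])
  rw [h, map_mul]
  linear_combination (norm := abel) P.cube_sum hg

/-- `2 g + 1`. -/
def gam (g : G) : Module.End L V := 2 * P.ρ g + 1

theorem gam_sq {g : G} (hg : Cube g) : P.gam g * P.gam g = -3 := by
  calc P.gam g * P.gam g = 4 * (P.ρ g * P.ρ g + P.ρ g + 1) + -3 := by rw [gam, show (4 : Module.End L V) = 1 + 1 + 1 + 1 by norm_num, show (3 : Module.End L V) = 1 + 1 + 1 by norm_num, show (2 : Module.End L V) = 1 + 1 by norm_num]; noncomm_ring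
    _ = -3 := by rw [P.cube_sum hg, mul_zero, zero_add]

theorem gam_inv {g : G} (hg : Cube g) : P.gam g⁻¹ = -P.gam g := by
  rw [gam, gam, P.ρ_inv_cube hg]; noncomm_ring

theorem gam_conj (h g : G) : P.gam (h * g * h⁻¹) = P.ρ h * P.gam g * P.ρ h⁻¹ := by
  rw [gam, gam, map_mul, map_mul, mul_add, add_mul, mul_one, ρ_mul_inv]
  noncomm_ring

theorem gam_injective [Nontrivial V] (h2 : (2 : L) ≠ 0) : Function.Injective P.gam := by
  intro g h e
  refine P.injective (eq_of_natMul (L := L) (n := 2) (by exact_mod_cast h2) ?_)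
  simpa [gam] using e

/-- The anticommutator of two elements of order three. -/
def dot (g h : G) : Module.End L V := P.gam g * P.gam h + P.gam h * P.gam g

theorem dot_comm (g h : G) : P.dot g h = P.dot h g := by rw [dot, dot, add_comm]

theorem dot_inv_right {g h : G} (hh : Cube h) : P.dot g h⁻¹ = -P.dot g h := by
  rw [dot, dot, P.gam_inv hh]; noncomm_ring

theorem dot_inv_left {g h : G} (hg : Cube g) : P.dot g⁻¹ h = -P.dot g h := by
  rw [dot, dot, P.gam_inv hg]; noncomm_ring

theorem dot_self {g : G} (hg : Cube g) : P.dot g g = -6 := by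
  rw [dot, P.gam_sq hg]; norm_num

theorem dot_conj (k g h : G) : P.dot (k * g * k⁻¹) (k * h * k⁻¹) = P.ρ k * P.dot g h * P.ρ k⁻¹ := by
  have e : ∀ z, P.ρ k⁻¹ * (P.ρ k * z) = z := fun z => by rw [← mul_assoc, ρ_inv_mul, one_mul]
  rw [dot, dot, P.gam_conj, P.gam_conj]
  simp only [mul_add, add_mul, mul_assoc, e]

theorem dot_commute_left {g : G} (hg : Cube g) (h : G) : Commute (P.gam g) (P.dot g h) := by
  show _ * _ = _ * _
  calc P.gam g * P.dot g h = (P.gam g * P.gam g) * P.gam h + P.gam g * P.gam h * P.gam g := by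
        rw [dot]; noncomm_ring
    _ = P.gam h * (P.gam g * P.gam g) + P.gam g * P.gam h * P.gam g := by rw [P.gam_sq hg]; noncomm_ring
    _ = P.dot g h * P.gam g := by rw [dot]; noncomm_ring

theorem dot_commute_right (g : G) {h : G} (hh : Cube h) : Commute (P.gam h) (P.dot g h) := by
  rw [P.dot_comm]; exact P.dot_commute_left hh g

end Rep

end CfsgLib.Recog.Zassenhaus
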