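import Mathlib
import Cfsg.Agent.Lib.Perm.RegularLinear

/-!
# Regular linear groups with an irreducible cyclic normal subgroup are semilinear
-/

set_option autoImplicit false
set_option linter.all false

namespace CfsgLib.Recog.Zassenhaus

open Subgroup

variable {q : ℕ} [Fact q.Prime] {V : Type*} [AddCommGroup V] [Module (ZMod q) V] [Finite V] [Nontrivial V]

/-- An irreducible cyclic normal subgroup of a regular linear group makes it semilinear and metacyclic. -/
theorem exists_semilinear (H : Subgroup (V ≃ₗ[ZMod q] V))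
    (hreg : ∀ v w : V, v ≠ 0 → w ≠ 0 → ∃! h : H, (h : V ≃ₗ[ZMod q] V) v = w) (A : Subgroup H) (hA : A.Normal)
    (hAc : IsCyclic A)
    (hirr : ∀ W : Submodule (ZMod q) V, (∀ a ∈ A, ∀ v ∈ W, ((a : H) : V ≃ₗ[ZMod q] V) v ∈ W) → W = ⊥ ∨ W = ⊤) :
    (∃ (F : Type) (_ : Field F) (_ : Fintype F) (e : V ≃+ F),
        ∀ h : H, ∃ (a : F) (σ : F ≃+* F), ∀ v : V, e ((h : V ≃ₗ[ZMod q] V) v) = a * σ (e v)) ∧
      ∃ C : Subgroup H, ∃ _ : C.Normal, IsCyclic C ∧ IsCyclic (H ⧸ C) := by
  haveI := CfsgLib.Perm.RegularLinear.finite_group (H := H)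
  obtain ⟨a0, ha0⟩ := hAc.exists_generator
  set T0 : Module.End (ZMod q) V := (((a0 : H) : V ≃ₗ[ZMod q] V) : V →ₗ[ZMod q] V) with hT0
  set K := Algebra.adjoin (ZMod q) ({T0} : Set (Module.End (ZMod q) V)) with hK
  have hT0K : T0 ∈ K := Algebra.subset_adjoin rfl
  have hcomm : ∀ x ∈ K, Commute x T0 := by
    intro x hx
    induction hx using Algebra.adjoin_induction with
    | mem x hx => rw [Set.mem_singleton_iff.1 hx]
    | algebraMap r => exact Algebra.commute_algebraMap_left r T0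
    | add x y _ _ ex ey => exact ex.add_left ey
    | mul x y _ _ ex ey => exact ex.mul_left ey
  have hpowA : ∀ a ∈ A, ∃ m : ℕ, (((a : H) : V ≃ₗ[ZMod q] V) : V →ₗ[ZMod q] V) = T0 ^ m := by
    intro a ha
    obtain ⟨m, hm⟩ := (Submonoid.mem_powers_iff _ _).1 (mem_powers_iff_mem_zpowers.2 (ha0 ⟨a, ha⟩))
    refine ⟨m, ?_⟩
    have h1 : (a : H) = (a0 : H) ^ m := by
      have := congrArg Subtype.val hm
      rw [Subgroup.coe_pow] at this
      exact this.symm
    rw [h1, hT0]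
    clear h1 hm
    induction m with
    | zero => rfl
    | succ m ih => rw [pow_succ, pow_succ, ← ih]; rfl
  have hinvW : ∀ W : Submodule (ZMod q) V, (∀ v ∈ W, T0 v ∈ W) → W = ⊥ ∨ W = ⊤ := by
    intro W hW
    refine hirr W fun a ha v hv => ?_
    obtain ⟨m, hm⟩ := hpowA a ha
    have hh : ((a : H) : V ≃ₗ[ZMod q] V) v = (T0 ^ m) v := LinearMap.congr_fun hm v
    rw [hh]
    clear hh hm
    induction m with
    | zero => exact hv
    | succ m ih => rw [pow_succ', Module.End.mul_apply]; exact hW _ ih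
  have hzero : ∀ x ∈ K, ∀ v : V, v ≠ 0 → x v = 0 → x = 0 := by
    intro x hx v hv hxv
    rcases hinvW (LinearMap.ker x) (fun w hw => by
        rw [LinearMap.mem_ker, ← Module.End.mul_apply, (hcomm x hx).eq, Module.End.mul_apply,
          LinearMap.mem_ker.1 hw, map_zero]) with h | h
    · exact absurd ((Submodule.mem_bot _).1 (h ▸ LinearMap.mem_ker.2 hxv)) hv
    · exact LinearMap.ker_eq_top.1 h
  obtain ⟨v0, hv0⟩ := exists_ne (0 : V)
  haveI : Nontrivial K := ⟨0, 1, fun e => hv0 (by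
    have := LinearMap.congr_fun (congrArg Subtype.val e) v0
    simpa using this.symm)⟩
  haveI : NoZeroDivisors K := ⟨fun {x y} hxy => by
    by_cases hy : (y : Module.End (ZMod q) V) v0 = 0
    · exact Or.inr (Subtype.ext (hzero _ y.2 v0 hv0 hy))
    · refine Or.inl (Subtype.ext (hzero _ x.2 _ hy ?_))
      rw [← Module.End.mul_apply, ← Subalgebra.coe_mul, hxy]
      simp⟩
  haveI : IsDomain K := NoZeroDivisors.to_isDomain K
  haveI : Finite (Module.End (ZMod q) V) := Finite.of_injective _ DFunLike.coe_injective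
  haveI : Finite K := inferInstance
  letI : Field K := (Finite.isDomain_to_isField K).toField
  -- the identification of `V` with `K`
  let φ0 : K →ₗ[ZMod q] V := (LinearMap.applyₗ v0).comp K.val.toLinearMap
  have hφ : ∀ x : K, φ0 x = (x : Module.End (ZMod q) V) v0 := fun x => rfl
  have hinj : Function.Injective φ0 := by
    rw [← LinearMap.ker_eq_bot, Submodule.eq_bot_iff]
    exact fun x hx => Subtype.ext (hzero _ x.2 v0 hv0 (LinearMap.mem_ker.1 hx))
  have hsurj : Function.Surjective φ0 := by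
    rw [← LinearMap.range_eq_top]
    refine (hinvW _ ?_).resolve_left fun h => ?_
    · rintro _ ⟨x, rfl⟩
      exact ⟨⟨T0, hT0K⟩ * x, rfl⟩
    · exact hv0 ((Submodule.mem_bot _).1 (h ▸ LinearMap.mem_range.2 ⟨1, rfl⟩))
  let φ : K ≃ₗ[ZMod q] V := LinearEquiv.ofBijective φ0 ⟨hinj, hsurj⟩
  have hφs : ∀ v : V, ((φ.symm v : K) : Module.End (ZMod q) V) v0 = v := fun v => φ.apply_symm_apply v
  -- the field automorphisms
  have hmem : ∀ (h : H), ∀ x ∈ K, (h : V ≃ₗ[ZMod q] V).conjAlgEquiv (ZMod q) x ∈ K := by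
    intro h x hx
    have h1 : K.map ((h : V ≃ₗ[ZMod q] V).conjAlgEquiv (ZMod q)).toAlgHom ≤ K := by
      rw [hK, AlgHom.map_adjoin_singleton, Algebra.adjoin_le_iff, Set.singleton_subset_iff]
      obtain ⟨m, hm⟩ := hpowA _ (hA.conj_mem _ a0.2 h)
      have h2 : ((h : V ≃ₗ[ZMod q] V).conjAlgEquiv (ZMod q)).toAlgHom T0 = T0 ^ m := by
        rw [← hm]; rfl
      rw [h2]
      exact Subalgebra.pow_mem _ (Algebra.subset_adjoin (Set.mem_singleton _)) m
    exact h1 ⟨x, hx, rfl⟩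
  let c : H → (K ≃ₐ[ZMod q] K) := fun h => AlgEquiv.ofBijective
    ((((h : V ≃ₗ[ZMod q] V).conjAlgEquiv (ZMod q)).toAlgHom.comp K.val).codRestrict K fun x => hmem h x x.2)
    ((Finite.injective_iff_bijective).1 fun x y hxy =>
      Subtype.ext (((h : V ≃ₗ[ZMod q] V).conjAlgEquiv (ZMod q)).injective (congrArg Subtype.val hxy)))
  have hc : ∀ (h : H) (x : K) (v : V), ((c h x : K) : Module.End (ZMod q) V) ((h : V ≃ₗ[ZMod q] V) v) =
      (h : V ≃ₗ[ZMod q] V) ((x : Module.End (ZMod q) V) v) := by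
    intro h x v
    show (h : V ≃ₗ[ZMod q] V) ((x : Module.End (ZMod q) V) ((h : V ≃ₗ[ZMod q] V).symm ((h : V ≃ₗ[ZMod q] V) v))) = _
    rw [LinearEquiv.symm_apply_apply]
  let ν : H → K := fun h => φ.symm ((h : V ≃ₗ[ZMod q] V) v0)
  have key : ∀ (h : H) (v : V), φ.symm ((h : V ≃ₗ[ZMod q] V) v) = ν h * c h (φ.symm v) := by
    intro h v
    apply φ.injective
    rw [φ.apply_symm_apply, mul_comm]
    show _ = ((c h (φ.symm v) : K) : Module.End (ZMod q) V) (((ν h : K) : Module.End (ZMod q) V) v0)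
    rw [hφs, hc, hφs]
  let Φ : H →* (K ≃ₐ[ZMod q] K) := MonoidHom.mk' c fun g h => AlgEquiv.ext fun x => Subtype.ext (LinearMap.ext fun v => by
    obtain ⟨w, rfl⟩ := ((g * h : H) : V ≃ₗ[ZMod q] V).surjective v
    rw [hc]
    show _ = ((c g (c h x) : K) : Module.End (ZMod q) V) ((g : V ≃ₗ[ZMod q] V) ((h : V ≃ₗ[ZMod q] V) w))
    rw [hc, hc]
    rfl)
  refine ⟨?_, Φ.ker, inferInstance, ?_, ?_⟩
  · haveI : Small.{0} K := Countable.toSmall K
    refine ⟨Shrink.{0} K, inferInstance, Fintype.ofFinite _, φ.symm.toAddEquiv.trans (Shrink.ringEquiv K).symm.toAddEquiv,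
      fun h => ⟨(Shrink.ringEquiv K).symm (ν h),
        (Shrink.ringEquiv K).trans ((c h).toRingEquiv.trans (Shrink.ringEquiv K).symm), fun v => ?_⟩⟩
    show (Shrink.ringEquiv K).symm (φ.symm ((h : V ≃ₗ[ZMod q] V) v)) = _ *
      (Shrink.ringEquiv K).symm (c h ((Shrink.ringEquiv K) ((Shrink.ringEquiv K).symm (φ.symm v))))
    rw [RingEquiv.apply_symm_apply, key, map_mul]
  · let f : Φ.ker →* K :=
      { toFun := fun h => ν (h : H)
        map_one' := φ.injective (by rw [φ.apply_symm_apply]; rfl)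
        map_mul' := fun g h => by
          have hg : c (g : H) = 1 := g.2
          show φ.symm (((g : H) : V ≃ₗ[ZMod q] V) (((h : H) : V ≃ₗ[ZMod q] V) v0)) = ν (g : H) * ν (h : H)
          rw [key, hg]
          rfl }
    refine isCyclic_of_subgroup_isDomain f fun g h hgh => Subtype.ext ?_
    obtain ⟨u, -, hu⟩ := hreg v0 (((g : H) : V ≃ₗ[ZMod q] V) v0) hv0
      (fun e => hv0 ((LinearEquiv.map_eq_zero_iff _).1 e))
    exact (hu _ rfl).trans (hu _ (φ.symm.injective hgh).symm).symm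
  · exact isCyclic_of_injective (QuotientGroup.kerLift Φ) (QuotientGroup.kerLift_injective Φ)

end CfsgLib.Recog.Zassenhaus
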