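import Cfsg.Agent.Lib.Recog.Zassenhaus.Nonsolvable
import Cfsg.Agent.Lib.Recog.Zassenhaus.Aut

/-!
# The core quotient of a fixed point free group
-/

set_option autoImplicit false
set_option linter.all false

namespace CfsgLib.Recog.Zassenhaus

open Subgroup
open scoped MatrixGroups

universe u

/-- The normal subgroups with cyclic Sylow subgroups and one of the five quotients, or everything. -/
def Quot6 {G : Type u} [Group G] (N : Subgroup G) : Prop :=
  N = ⊤ ∨ (∃ f : G →* DihedralGroup 2, Function.Surjective f ∧ f.ker = N) ∨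
    (∃ f : G →* alternatingGroup (Fin 4), Function.Surjective f ∧ f.ker = N) ∨
    (∃ f : G →* Equiv.Perm (Fin 4), Function.Surjective f ∧ f.ker = N) ∨
    (∃ f : G →* alternatingGroup (Fin 5), Function.Surjective f ∧ f.ker = N) ∨
    (∃ f : G →* Equiv.Perm (Fin 5), Function.Surjective f ∧ f.ker = N)

/-- All Sylow subgroups cyclic. -/
def CycSylow (X : Type*) [Group X] : Prop := ∀ (p : ℕ), p.Prime → ∀ R : Subgroup X, IsPGroup p R → IsCyclic R

namespace Rep

variable {G : Type u} {L V : Type*} [Group G] [Field L] [AddCommGroup V] [Module L V] (P : Rep G L V)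
variable [Finite G] [IsAlgClosed L] [FiniteDimensional L V] [Nontrivial V]

include P in
theorem cycSylow_of_two (N : Subgroup G) (h : ∀ R : Subgroup G, R ≤ N → IsPGroup 2 R → IsCyclic R) :
    CycSylow N := by
  intro r hr R hR
  haveI := Fact.mk hr
  have e := R.equivMapOfInjective N.subtype N.subtype_injective
  haveI : IsCyclic (R.map N.subtype) := by
    rcases eq_or_ne r 2 with rfl | hr2
    · exact h _ (map_subtype_le R) (hR.map _)
    · exact (P.pGroup_cases _ (hR.map _)).resolve_right fun h => hr2 h.1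
  exact isCyclic_of_surjective e.symm.toMonoidHom e.symm.surjective

include P in
theorem exists_six_nonsolvable (p : ℕ) [Fact p.Prime] [CharP L p] (h : ¬ Group.IsSolvable G) :
    ∃ N : Subgroup G, N.Normal ∧ CycSylow N ∧ Quot6 N := by
  obtain ⟨S, hSn, -, ⟨e⟩⟩ := P.exists_normal_sl25 p h
  haveI := hSn
  haveI : Fact (Nat.Prime 2) := ⟨Nat.prime_two⟩
  haveI : IsSimpleGroup (alternatingGroup (Fin 5)) := alternatingGroup.isSimpleGroup_five
  obtain ⟨g1, g2, g3, g4, g5, g6, g7, g8⟩ := gen_facts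
  let ι : SL(2, ZMod 5) →* G := S.subtype.comp e.symm.toMonoidHom
  have hι : Function.Injective ι := S.subtype_injective.comp e.symm.injective
  set x := ι genX with hxd
  set y := ι genY with hyd
  set z := ι (-1) with hzd
  have hx3 : x ^ 3 = 1 := by rw [hxd, ← map_pow, g1, map_one]
  have hy5 : y ^ 5 = 1 := by rw [hyd, ← map_pow, g2, map_one]
  have hxy : (x * y) ^ 2 = z := by rw [hxd, hyd, hzd, ← map_mul, ← map_pow, g3]
  have hz2 : z ^ 2 = 1 := by rw [hzd, ← map_pow, g4, map_one]
  have hz1 : z ≠ 1 := fun e => g5 (hι (by rw [map_one]; exact e))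
  have hx1 : x ≠ 1 := fun e => g6 (hι (by rw [map_one]; exact e))
  have hnc : x * y ≠ y * x := fun e => gen_noncomm (hι (by rw [map_mul, map_mul]; exact e))
  have hgen : Subgroup.closure ({x, y} : Set G) = S := by
    have h1 := congrArg (Subgroup.map ι) sl25_closure
    rw [MonoidHom.map_closure, Set.image_pair] at h1
    rw [h1, ← MonoidHom.range_eq_map]
    exact le_antisymm (by rintro _ ⟨t, rfl⟩; exact (e.symm t).2) fun s hs => ⟨e ⟨s, hs⟩, by simp [ι]⟩
  have hxS : x ∈ S := (e.symm genX).2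
  have hyS : y ∈ S := (e.symm genY).2
  have hzC : ∀ g, Commute z g := P.invol_central hz1 hz2
  haveI hZn : (zpowers z).Normal := ⟨fun n hn g => by
    obtain ⟨i, rfl⟩ := hn
    simp only
    rw [← ((hzC g).zpow_left i).eq, mul_inv_cancel_right]
    exact ⟨i, rfl⟩⟩
  set q := QuotientGroup.mk' (zpowers z) with hq
  set N := S.map q with hN
  haveI : N.Normal := hSn.map _ (QuotientGroup.mk'_surjective _)
  have hzq : q z = 1 := (QuotientGroup.eq_one_iff _).2 (mem_zpowers z)
  obtain ⟨f, hf⟩ := exists_hom_icosahedral (H := N) (x := ⟨q x, mem_map_of_mem q hxS⟩)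
      (y := ⟨q y, mem_map_of_mem q hyS⟩) (Subtype.ext (by simp [← map_pow, hx3]))
      (Subtype.ext (by simp [← map_pow, hy5]))
      (Subtype.ext (by simp [← map_mul, ← map_pow, hxy, hzq]))
      (by
        apply map_injective N.subtype_injective
        rw [MonoidHom.map_closure, ← MonoidHom.range_eq_map, range_subtype, Set.image_pair]
        refine Eq.trans ?_ (congrArg (Subgroup.map q) hgen)
        rw [MonoidHom.map_closure, Set.image_pair]
        rfl)
  obtain ⟨e5⟩ : Nonempty (N ≃* alternatingGroup (Fin 5)) := by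
    rcases (MonoidHom.normal_ker f).eq_bot_or_eq_top with h | h
    · exact ⟨(MulEquiv.ofBijective f ⟨(MonoidHom.ker_eq_bot_iff f).1 h, hf⟩).symm⟩
    · exfalso
      obtain ⟨t, ht⟩ := hf ⟨q x, mem_map_of_mem q hxS⟩
      rw [MonoidHom.mem_ker.1 (h ▸ mem_top t)] at ht
      have hxz : x ∈ zpowers z := (QuotientGroup.eq_one_iff _).1 (congrArg Subtype.val ht).symm
      have h2 : x ^ 2 = 1 :=
        orderOf_dvd_iff_pow_eq_one.1 (orderOf_eq_prime hz2 hz1 ▸ orderOf_dvd_of_mem_zpowers hxz)
      exact hx1 (by rw [← hx3, pow_succ, h2, one_mul])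
  -- conjugation on the quotient as permutations of five points
  let β : Equiv.Perm (Fin 5) ≃* MulAut (alternatingGroup (Fin 5)) :=
    MulEquiv.ofBijective MulAut.conjNormal
      (CfsgLib.ClassSizes.AlternatingAut.conjNormal_bijective (by decide) (by decide))
  let Ψ : G →* Equiv.Perm (Fin 5) :=
    (β.symm.toMonoidHom.comp ((MulAut.congr e5).toMonoidHom.comp MulAut.conjNormal)).comp q
  have hker : Ψ.ker ≤ centralizer (S : Set G) := by
    intro g hg
    have h2 : MulAut.conjNormal (H := N) (q g) = 1 := by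
      apply (MulAut.congr e5).injective
      apply β.symm.injective
      rw [map_one, map_one]
      exact hg
    rw [← hgen, centralizer_closure, mem_centralizer_iff]
    have fix : ∀ w ∈ S, ∀ k : ℕ, Odd k → w ^ k = 1 → w * g = g * w := by
      intro w hw k hk hwk
      have h3 := congrArg Subtype.val (DFunLike.congr_fun h2 ⟨q w, mem_map_of_mem q hw⟩)
      rw [MulAut.conjNormal_apply, MulAut.one_apply] at h3
      have h3' : q (g * w * g⁻¹) = q w := by rw [map_mul, map_mul, map_inv]; exact h3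
      obtain ⟨i, hi⟩ : w⁻¹ * (g * w * g⁻¹) ∈ zpowers z := QuotientGroup.eq.1 h3'.symm
      simp only at hi
      have e : g * w * g⁻¹ = z ^ i * w := by
        rw [((hzC w).zpow_left i).eq, hi]; group
      have e' : (g * w * g⁻¹) ^ k = 1 := by rw [conj_pow, hwk, mul_one, mul_inv_cancel]
      rw [e, ((hzC w).zpow_left i).mul_pow, hwk, mul_one] at e'
      have hzi : z ^ i = 1 := by
        rw [← orderOf_eq_one_iff]
        refine Nat.eq_one_of_dvd_coprimes (Nat.coprime_two_right.2 hk) (orderOf_dvd_of_pow_eq_one e')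
          (orderOf_dvd_of_pow_eq_one ?_)
        rw [← zpow_natCast, ← zpow_mul, mul_comm, zpow_mul, zpow_natCast, hz2, one_zpow]
      rw [hzi, one_mul] at e
      exact (mul_inv_eq_iff_eq_mul.1 e).symm
    intro w hw
    rcases hw with hw | hw
    · rw [hw]; exact fix x hxS 3 (by decide) hx3
    · rw [Set.mem_singleton_iff.1 hw]; exact fix y hyS 5 (by decide) hy5
  have hC4 : ∀ c ∈ centralizer (S : Set G), orderOf c ≠ 4 := by
    intro c hc hc4
    have hzxy : orderOf (x * y) = 4 := orderOf_eq_prime_pow (p := 2) (n := 1)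
      (by rw [pow_one, hxy]; exact hz1) (by rw [show 2 ^ (1 + 1) = 2 * 2 by norm_num, pow_mul, hxy, hz2])
    obtain ⟨i, hi⟩ := P.mem_zpowers_of_commute (x := c) (y := x * y)
      (mem_centralizer_iff.1 hc _ (mul_mem hxS hyS)).symm
      (by rw [hc4, ← hzxy, pow_orderOf_eq_one])
    simp only at hi
    have hxc : Commute x (c ^ i) :=
      (show Commute x c from mem_centralizer_iff.1 hc x hxS).zpow_right i
    rw [hi] at hxc
    refine hnc (mul_left_cancel (a := x) ?_)
    rw [hxc.eq, mul_assoc]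
  refine ⟨Ψ.ker, inferInstance, P.cycSylow_of_two _ fun R hR hR2 =>
    P.isCyclic_of_no_four R hR2 fun w hw => hC4 w (hker (hR hw)), ?_⟩
  -- the image contains the alternating group
  have hA : alternatingGroup (Fin 5) ≤ Ψ.range := by
    intro σ hσ
    obtain ⟨s, hs, hs'⟩ := (e5.symm ⟨σ, hσ⟩).2
    refine ⟨s, ?_⟩
    show β.symm _ = σ
    rw [MulEquiv.symm_apply_eq]
    refine MulEquiv.ext fun t => Subtype.ext ?_
    show ((e5 (MulAut.conjNormal (q s) (e5.symm t)) : alternatingGroup (Fin 5)) : Equiv.Perm (Fin 5)) = _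
    rw [show MulAut.conjNormal (q s) (e5.symm t) = (e5.symm ⟨σ, hσ⟩) * e5.symm t * (e5.symm ⟨σ, hσ⟩)⁻¹ from
      Subtype.ext (by rw [MulAut.conjNormal_apply, hs']; rfl), map_mul, map_mul, map_inv, e5.apply_symm_apply,
      e5.apply_symm_apply]
    rfl
  rcases eq_or_ne Ψ.range ⊤ with ht | ht
  · exact Or.inr (Or.inr (Or.inr (Or.inr (Or.inr ⟨Ψ, MonoidHom.range_eq_top.1 ht, rfl⟩))))
  · have he : Ψ.range = alternatingGroup (Fin 5) := by
      have hd := index_dvd_of_le hA
      rw [alternatingGroup.index_eq_two] at hd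
      rcases Nat.prime_two.eq_one_or_self_of_dvd _ hd with h | h
      · exact absurd (index_eq_one.1 h) ht
      · exact Equiv.Perm.eq_alternatingGroup_of_index_eq_two h
    refine Or.inr (Or.inr (Or.inr (Or.inr (Or.inl ⟨(MulEquiv.subgroupCongr he).toMonoidHom.comp Ψ.rangeRestrict,
      (MulEquiv.subgroupCongr he).surjective.comp Ψ.rangeRestrict_surjective, ?_⟩))))
    rw [← MonoidHom.ker_rangeRestrict Ψ]
    ext t
    simp [MonoidHom.mem_ker]

include P in
theorem exists_six_solvable [Group.IsSolvable G] : ∃ N : Subgroup G, N.Normal ∧ CycSylow N ∧ Quot6 N := by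
  haveI : Fact (Nat.Prime 2) := ⟨Nat.prime_two⟩
  obtain ⟨S⟩ : Nonempty (Sylow 2 G) := inferInstance
  have hsub : ∀ R : Subgroup G, IsPGroup 2 R → IsCyclic (S : Subgroup G) → IsCyclic R := by
    intro R hR hS
    obtain ⟨S', hRS'⟩ := hR.exists_le_sylow
    haveI : IsCyclic (S' : Subgroup G) := isCyclic_of_surjective (S.equiv S').toMonoidHom (S.equiv S').surjective
    exact isCyclic_of_injective (Subgroup.inclusion hRS') (Subgroup.inclusion_injective hRS')
  rcases P.pGroup_cases (S : Subgroup G) S.2 with hcS | ⟨-, n, ⟨e⟩⟩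
  · exact ⟨⊤, inferInstance, P.cycSylow_of_two ⊤ fun R _ hR => hsub R hR hcS, Or.inl rfl⟩
  rcases n with - | n
  · haveI := QuaternionGroup.quaternionGroup_one_isCyclic
    have hcS : IsCyclic (S : Subgroup G) := isCyclic_of_surjective e.symm.toMonoidHom e.symm.surjective
    exact ⟨⊤, inferInstance, P.cycSylow_of_two ⊤ fun R _ hR => hsub R hR hcS, Or.inl rfl⟩
  set W := Cfsg.pPrimeCore 2 G with hW
  set π := QuotientGroup.mk' W with hπ
  haveI : Group.IsSolvable (G ⧸ W) := Group.isSolvable_of_surjective (QuotientGroup.mk'_surjective W)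
  have hO : Cfsg.pPrimeCore 2 (G ⧸ W) = ⊥ := CfsgLib.Core.pPrimeCore_quotient_pPrimeCore 2 G
  have hinj : ∀ R : Subgroup G, IsPGroup 2 R → Function.Injective (π.comp R.subtype) := fun R hR => by
    rw [injective_iff_map_eq_one]
    exact fun g hg => Subtype.ext (sylow_quotient_inj R hR g.2 ((QuotientGroup.eq_one_iff _).1 hg))
  let S' : Sylow 2 (G ⧸ W) := S.mapSurjective (QuotientGroup.mk'_surjective W)
  by_cases hX : IsPGroup 2 (G ⧸ W)
  · -- four group
    have htop : (S' : Subgroup (G ⧸ W)) = ⊤ := S'.is_maximal' (hX.to_subgroup ⊤) le_top ▸ rfl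
    have hsurj : Function.Surjective (π.comp (S : Subgroup G).subtype) := fun t => by
      have ht : t ∈ (S : Subgroup G).map π := by
        have h := htop.ge (mem_top t)
        exact h
      obtain ⟨s, hs, rfl⟩ := ht
      exact ⟨⟨s, hs⟩, rfl⟩
    let ι := MulEquiv.ofBijective _ ⟨hinj _ S.2, hsurj⟩
    let φ : G →* QuaternionGroup (2 ^ (n + 1)) := (e.toMonoidHom.comp ι.symm.toMonoidHom).comp π
    have h2n : 2 ∣ 2 ^ (n + 1) := dvd_pow_self 2 (by omega)
    refine ⟨((quatToFour h2n).comp φ).ker, inferInstance, P.cycSylow_of_two _ fun R hR hR2 => ?_,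
      Or.inr (Or.inl ⟨(quatToFour h2n).comp φ, ?_, rfl⟩)⟩
    · have hRi : Function.Injective (φ.comp R.subtype) := by
        show Function.Injective ((e.toMonoidHom.comp ι.symm.toMonoidHom) ∘ (π.comp R.subtype))
        exact (e.injective.comp ι.symm.injective).comp (hinj R hR2)
      have hrg : ∀ r : R, φ (r : G) ∈ zpowers (QuaternionGroup.a 1 : QuaternionGroup (2 ^ (n + 1))) :=
        fun r => quatToFour_ker h2n (hR r.2)
      exact isCyclic_of_injective (MonoidHom.codRestrict (φ.comp R.subtype) _ hrg)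
        (fun a b hab => hRi (congrArg Subtype.val hab))
    · exact (quatToFour_surjective h2n).comp
        ((e.surjective.comp ι.symm.surjective).comp (QuotientGroup.mk'_surjective W))
  -- the quaternion group of order 8 is the 2-core of the quotient
  set F := Cfsg.pCore 2 (G ⧸ W) with hF
  haveI : F.Normal := CfsgLib.Components.pCore_normal 2
  have hFp : IsPGroup 2 F := CfsgLib.Core.isPGroup_pCore 2 _
  set F₀ := (S : Subgroup G) ⊓ F.comap π with hF₀
  have hF₀p : IsPGroup 2 F₀ := S.2.to_le inf_le_left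
  have eF : F₀ ≃* F := MulEquiv.ofBijective (MonoidHom.codRestrict (π.comp F₀.subtype) F fun t => t.2.2)
    ⟨fun a b hab => hinj F₀ hF₀p (congrArg Subtype.val hab), fun t => by
      obtain ⟨s, hs, hst⟩ : (t : G ⧸ W) ∈ (S : Subgroup G).map π := CfsgLib.Core.pCore_le_sylow S' t.2
      exact ⟨⟨s, hs, show π s ∈ F from hst ▸ t.2⟩, Subtype.ext hst⟩⟩
  have haut : ¬ ((IsCyclic F ∨ ∃ m, m ≠ 1 ∧ Nonempty (F ≃* QuaternionGroup (2 ^ m)))) :=
    fun h => hX (isPGroup_of_aut hO (aut_two_power hFp h))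
  obtain ⟨eQ⟩ : Nonempty (F ≃* QuaternionGroup 2) := by
    rcases P.pGroup_cases F₀ hF₀p with h | ⟨-, m, ⟨e'⟩⟩
    · exact absurd (Or.inl (isCyclic_of_surjective eF.toMonoidHom eF.surjective)) haut
    · rcases eq_or_ne m 1 with rfl | hm
      · exact ⟨eF.symm.trans e'⟩
      · exact absurd (Or.inr ⟨m, hm, ⟨eF.symm.trans e'⟩⟩) haut
  have hCF : centralizer (F : Set (G ⧸ W)) ≤ F := CfsgLib.Core.centralizer_pCore_le_of_pPrimeCore_eq_bot hO
  have hsup : F ⊔ centralizer (F : Set (G ⧸ W)) = F := sup_of_le_left hCF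
  have hnorm : normalizer (F : Set (G ⧸ W)) = ⊤ := normalizer_eq_top F
  have hidx : F.index ∣ 6 := by
    have h := CfsgLib.TwoGroups.quat_relIndex_dvd_six (Q := F) eQ
    rwa [hsup, hnorm, relIndex_top_right] at h
  have hFcard : Nat.card F = 8 := by
    rw [Nat.card_congr eQ.toEquiv, Nat.card_eq_fintype_card, QuaternionGroup.card]
  have hXcard : Nat.card (G ⧸ W) = 24 ∨ Nat.card (G ⧸ W) = 48 := by
    have h := F.card_mul_index
    rw [hFcard] at h
    have hle := Nat.le_of_dvd (by norm_num) hidx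
    interval_cases hi : F.index
    · exact absurd hidx (by norm_num)
    · exact absurd (IsPGroup.of_card (p := 2) (n := 3) (by rw [← h]; norm_num)) hX
    · exact absurd (IsPGroup.of_card (p := 2) (n := 4) (by rw [← h]; norm_num)) hX
    · exact Or.inl h.symm
    · exact absurd hidx (by norm_num)
    · exact absurd hidx (by norm_num)
    · exact Or.inr h.symm
  -- the central involution
  obtain ⟨zF, hzF⟩ : ∃ zF : F, zF = eQ.symm (QuaternionGroup.a 2) := ⟨_, rfl⟩
  have hz1 : (zF : G ⧸ W) ≠ 1 := by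
    intro h
    rw [OneMemClass.coe_eq_one, hzF, MulEquiv.map_eq_one_iff] at h
    exact absurd h (by decide)
  have huniq : ∀ v : QuaternionGroup 2, v ≠ 1 → v ^ 2 = 1 → v = QuaternionGroup.a 2 := by decide
  have hzX : ∀ g : G ⧸ W, Commute (zF : G ⧸ W) g := by
    intro g
    have hz2 : zF ^ 2 = 1 := by
      rw [hzF, ← map_pow]; exact (map_eq_one_iff _ eQ.symm.injective).2 (by decide)
    have hconj : eQ (MulAut.conjNormal g zF) = QuaternionGroup.a 2 :=
      huniq _ (fun h => hz1 (by
        have h' := (map_eq_one_iff _ eQ.injective).1 h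
        rw [map_eq_one_iff _ (MulAut.conjNormal g).injective] at h'
        rw [h']; rfl)) (by rw [← map_pow, ← map_pow, hz2, map_one, map_one])
    have h2 : MulAut.conjNormal g zF = zF := eQ.injective (by rw [hconj, hzF, eQ.apply_symm_apply])
    have h3 := congrArg Subtype.val h2
    rw [MulAut.conjNormal_apply] at h3
    exact (mul_inv_eq_iff_eq_mul.1 h3).symm
  set Z := zpowers (zF : G ⧸ W) with hZ
  haveI hZn : Z.Normal := ⟨fun n hn g => by
    obtain ⟨i, rfl⟩ := hn
    simp only
    rw [← ((hzX g).zpow_left i).eq, mul_inv_cancel_right]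
    exact ⟨i, rfl⟩⟩
  have hZ2 : Nat.card Z = 2 := by
    rw [hZ, Nat.card_zpowers]
    refine orderOf_eq_prime ?_ hz1
    rw [← Subgroup.coe_pow, OneMemClass.coe_eq_one, hzF, ← map_pow]
    exact (map_eq_one_iff _ eQ.symm.injective).2 (by decide)
  set ω := QuotientGroup.mk' Z with hω
  have hYcard : Nat.card ((G ⧸ W) ⧸ Z) = 12 ∨ Nat.card ((G ⧸ W) ⧸ Z) = 24 := by
    have h := card_eq_card_quotient_mul_card_subgroup Z
    rw [hZ2] at h
    omega
  haveI : Fact (Nat.Prime 3) := ⟨Nat.prime_three⟩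
  obtain ⟨T⟩ : Nonempty (Sylow 3 ((G ⧸ W) ⧸ Z)) := inferInstance
  have hT3 : Nat.card (T : Subgroup ((G ⧸ W) ⧸ Z)) = 3 := by
    rw [T.card_eq_multiplicity]
    rcases hYcard with h | h <;> rw [h]
    · rw [show (12 : ℕ) = 3 * 4 by norm_num, Nat.factorization_mul (by norm_num) (by norm_num),
        Finsupp.add_apply, Nat.Prime.factorization_self Nat.prime_three,
        Nat.factorization_eq_zero_of_not_dvd (by norm_num : ¬ 3 ∣ 4)]
      norm_num
    · rw [show (24 : ℕ) = 3 * 8 by norm_num, Nat.factorization_mul (by norm_num) (by norm_num),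
        Finsupp.add_apply, Nat.Prime.factorization_self Nat.prime_three,
        Nat.factorization_eq_zero_of_not_dvd (by norm_num : ¬ 3 ∣ 8)]
      norm_num
  -- no element of order three has a normal image, and it moves the three four element subgroups
  have hmove : ∀ (K : Subgroup (G ⧸ W)), K ≤ F → Nat.card K = 4 → ¬ K.Normal := by
    intro K hKF hK4 hKn
    obtain ⟨t, ht⟩ := exists_prime_orderOf_dvd_card' (G := G ⧸ W) 3 (by rcases hXcard with h | h <;> rw [h] <;> norm_num)
    let pt : CfsgLib.TwoGroups.QuatPts F := ⟨K, hKF, hK4⟩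
    let tN : normalizer (F : Set (G ⧸ W)) := ⟨t, hnorm ▸ mem_top t⟩
    have hfix : tN • pt = pt := Subtype.ext (by
      rw [CfsgLib.TwoGroups.quatPts_smul_val]
      exact CfsgLib.TwoGroups.map_conj_eq_iff_mem_normalizer.2 ((normalizer_eq_top K).symm ▸ mem_top t))
    have hodd : Odd (orderOf tN) := by
      rw [← Subgroup.orderOf_coe, ht]; decide
    have hk : tN ∈ CfsgLib.TwoGroups.threeKer (normalizer (F : Set (G ⧸ W))) (CfsgLib.TwoGroups.QuatPts F) :=
      CfsgLib.TwoGroups.mem_threeKer.2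
        (CfsgLib.TwoGroups.three_odd_fix_all (CfsgLib.TwoGroups.natCard_quatPts eQ) hodd hfix)
    rw [CfsgLib.TwoGroups.threeKer_quat eQ, mem_subgroupOf, hsup] at hk
    have := Subgroup.orderOf_dvd_natCard F hk
    rw [ht, hFcard] at this
    norm_num at this
  have hTn : ¬ (T : Subgroup ((G ⧸ W) ⧸ Z)).Normal := by
    intro hn
    haveI := hn
    set U := (T : Subgroup ((G ⧸ W) ⧸ Z)).comap ω with hU
    have hUcard : Nat.card U = 6 := by rw [hU, CfsgLib.Core.card_comap_mk', hT3, hZ2]
    obtain ⟨t, ht⟩ := exists_prime_orderOf_dvd_card' (G := U) 3 (by rw [hUcard]; norm_num)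
    have hconj : ∀ g : G ⧸ W, g * (t : G ⧸ W) * g⁻¹ ∈ zpowers (t : G ⧸ W) := by
      intro g
      have hmem : g * (t : G ⧸ W) * g⁻¹ ∈ U := (hn.comap ω).conj_mem _ t.2 g
      have hZU : Z ≤ U := fun a ha => by
        show ω a ∈ (T : Subgroup ((G ⧸ W) ⧸ Z))
        rw [hω, QuotientGroup.mk'_apply, (QuotientGroup.eq_one_iff a).2 ha]
        exact one_mem _
      have hTn' : (zpowers t).Normal := normal_of_index_eq_two (by
        have := (zpowers t).card_mul_index
        rw [Nat.card_zpowers, ht, hUcard] at this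
        omega)
      haveI := hTn'
      have ho : orderOf (QuotientGroup.mk' (zpowers t) (⟨_, hmem⟩ : U)) = 1 := by
        refine Nat.eq_one_of_dvd_coprimes (show Nat.Coprime 3 2 by norm_num) ((orderOf_map_dvd _ _).trans (dvd_of_eq ?_)) ((_root_.orderOf_dvd_natCard _).trans (dvd_of_eq ?_))
        · rw [← Subgroup.orderOf_coe]
          show orderOf (MulAut.conj g (t : G ⧸ W)) = 3
          rw [MulEquiv.orderOf_eq, Subgroup.orderOf_coe, ht]
        · rw [← Subgroup.index_eq_card]
          have := (zpowers t).card_mul_index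
          rw [Nat.card_zpowers, ht, hUcard] at this
          omega
      obtain ⟨i, hi⟩ := (QuotientGroup.eq_one_iff _).1 (orderOf_eq_one_iff.1 ho)
      exact ⟨i, congrArg Subtype.val hi⟩
    -- `t` centralises the 2-core
    have htF : (t : G ⧸ W) ∈ centralizer (F : Set (G ⧸ W)) := mem_centralizer_iff.2 fun f hf => by
      have h1 : f * t * f⁻¹ * (t : G ⧸ W)⁻¹ ∈ zpowers (t : G ⧸ W) := mul_mem (hconj f) (inv_mem (mem_zpowers _))
      have h2 : f * t * f⁻¹ * (t : G ⧸ W)⁻¹ ∈ F := by
        rw [show f * t * f⁻¹ * (t : G ⧸ W)⁻¹ = f * ((t : G ⧸ W) * f⁻¹ * (t : G ⧸ W)⁻¹) by group]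
        exact mul_mem hf ((inferInstance : F.Normal).conj_mem _ (inv_mem hf) _)
      have h3 : f * t * f⁻¹ * (t : G ⧸ W)⁻¹ = 1 := by
        rw [← orderOf_eq_one_iff]
        exact Nat.eq_one_of_dvd_coprimes (show Nat.Coprime 3 8 by norm_num)
          ((orderOf_dvd_of_mem_zpowers h1).trans (dvd_of_eq (by rw [Subgroup.orderOf_coe, ht])))
          (hFcard ▸ Subgroup.orderOf_dvd_natCard F h2)
      exact mul_inv_eq_iff_eq_mul.1 (mul_inv_eq_one.1 h3)
    have := Subgroup.orderOf_dvd_natCard F (hCF htF)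
    rw [Subgroup.orderOf_coe, ht, hFcard] at this
    norm_num at this
  have hn4 : Nat.card (Sylow 3 ((G ⧸ W) ⧸ Z)) = 4 := by
    have h1 : Nat.card (Sylow 3 ((G ⧸ W) ⧸ Z)) % 3 = 1 := card_sylow_modEq_one 3 _
    have h2 := T.card_dvd_index
    have h3 : (T : Subgroup ((G ⧸ W) ⧸ Z)).index ∣ 8 := by
      have := (T : Subgroup ((G ⧸ W) ⧸ Z)).card_mul_index
      rw [hT3] at this
      rcases hYcard with h | h <;> rw [h] at this
      · exact ⟨2, by omega⟩
      · exact ⟨1, by omega⟩
    have h4 : Nat.card (Sylow 3 ((G ⧸ W) ⧸ Z)) ≠ 1 := fun h => hTn (by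
      haveI : Subsingleton (Sylow 3 ((G ⧸ W) ⧸ Z)) := (Nat.card_eq_one_iff_unique.1 h).1
      exact T.normal_of_subsingleton)
    have h5 := Nat.le_of_dvd (by norm_num) (h2.trans h3)
    have h6 := h2.trans h3
    interval_cases hm : Nat.card (Sylow 3 ((G ⧸ W) ⧸ Z)) <;> omega
  obtain ⟨ε⟩ : Nonempty (Sylow 3 ((G ⧸ W) ⧸ Z) ≃ Fin 4) := ⟨(Finite.equivFin _).trans (finCongr hn4)⟩
  let Φ : (G ⧸ W) ⧸ Z →* Equiv.Perm (Fin 4) :=
    ε.permCongrHom.toMonoidHom.comp (MulAction.toPermHom ((G ⧸ W) ⧸ Z) (Sylow 3 ((G ⧸ W) ⧸ Z)))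
  have hΦ : Function.Injective Φ := by
    refine ε.permCongrHom.injective.comp ((MonoidHom.ker_eq_bot_iff _).1 ?_)
    by_contra hK
    set K := (MulAction.toPermHom ((G ⧸ W) ⧸ Z) (Sylow 3 ((G ⧸ W) ⧸ Z))).ker with hKd
    haveI : K.Normal := MonoidHom.normal_ker _
    have hKN : ∀ Q : Sylow 3 ((G ⧸ W) ⧸ Z), K ≤ normalizer (Q : Set ((G ⧸ W) ⧸ Z)) := by
      intro Q k hk
      rw [← Sylow.smul_eq_iff_mem_normalizer]
      exact DFunLike.congr_fun (MonoidHom.mem_ker.1 hk) Q
    have hN : Nat.card (normalizer (T : Set ((G ⧸ W) ⧸ Z))) ∣ 6 := by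
      have h := (normalizer (T : Set ((G ⧸ W) ⧸ Z))).card_mul_index
      rw [← T.card_eq_index_normalizer, hn4] at h
      rcases hYcard with h' | h' <;> rw [h'] at h
      · exact ⟨2, by omega⟩
      · exact ⟨1, by omega⟩
    have hK6 : Nat.card K ∣ 6 := (card_dvd_of_le (hKN T)).trans hN
    have hK3 : ¬ 3 ∣ Nat.card K := by
      intro h3
      obtain ⟨k, hk⟩ := exists_prime_orderOf_dvd_card' (G := K) 3 h3
      have hkp : IsPGroup 3 (zpowers (k : (G ⧸ W) ⧸ Z)) :=
        IsPGroup.of_card (n := 1) (by rw [Nat.card_zpowers, Subgroup.orderOf_coe, hk, pow_one])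
      have heq : ∀ Q : Sylow 3 ((G ⧸ W) ⧸ Z), (Q : Subgroup ((G ⧸ W) ⧸ Z)) = zpowers (k : (G ⧸ W) ⧸ Z) := by
        intro Q
        have hle : zpowers (k : (G ⧸ W) ⧸ Z) ≤ Q := by
          have h := IsPGroup.inf_normalizer_sylow hkp Q
          rw [inf_of_le_left ((zpowers_le.2 k.2).trans (hKN Q))] at h
          exact h.le.trans inf_le_right
        refine (eq_of_le_of_card_ge hle ?_).symm
        rw [Nat.card_zpowers, Subgroup.orderOf_coe, hk, Q.card_eq_multiplicity, ← T.card_eq_multiplicity, hT3]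
      haveI : Subsingleton (Sylow 3 ((G ⧸ W) ⧸ Z)) := ⟨fun a b => Sylow.ext ((heq a).trans (heq b).symm)⟩
      rw [Nat.card_eq_one_iff_unique.2 ⟨inferInstance, inferInstance⟩] at hn4
      norm_num at hn4
    have hK2 : Nat.card K = 2 := by
      have h1 := Nat.le_of_dvd (by norm_num) hK6
      have h0 : Nat.card K ≠ 1 := fun h => hK (card_eq_one.1 h)
      have := Nat.card_pos (α := K)
      interval_cases hc : Nat.card K <;> omega
    have hc4 : Nat.card (K.comap ω) = 4 := by rw [CfsgLib.Core.card_comap_mk', hK2, hZ2]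
    refine hmove (K.comap ω) ?_ hc4 inferInstance
    exact CfsgLib.Core.le_pCore (IsPGroup.of_card (n := 2) (by rw [hc4]; norm_num))
  set N := ((ω.comp π)).ker with hN
  have hNcyc : CycSylow N := P.cycSylow_of_two _ fun R hR hR2 => by
    have hle : ∀ r : R, π (r : G) ∈ Z := fun r => (QuotientGroup.eq_one_iff _).1 (hR r.2)
    exact isCyclic_of_injective (MonoidHom.codRestrict (π.comp R.subtype) Z hle)
      (fun a b hab => hinj R hR2 (congrArg Subtype.val hab))
  refine ⟨N, inferInstance, hNcyc, ?_⟩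
  have hcardR : Nat.card Φ.range = Nat.card ((G ⧸ W) ⧸ Z) := (Nat.card_congr (MonoidHom.ofInjective hΦ).toEquiv).symm
  have hsurj : Function.Surjective (ω.comp π) :=
    (QuotientGroup.mk'_surjective Z).comp (QuotientGroup.mk'_surjective W)
  have hP4 : Nat.card (Equiv.Perm (Fin 4)) = 24 := by rw [Nat.card_perm, Nat.card_fin]; rfl
  rcases hYcard with h | h
  · have hi : Φ.range.index = 2 := by
      have := Φ.range.card_mul_index
      rw [hcardR, h, hP4] at this
      omega
    let ν := (MonoidHom.ofInjective hΦ).trans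
      (MulEquiv.subgroupCongr (Equiv.Perm.eq_alternatingGroup_of_index_eq_two hi))
    exact Or.inr (Or.inr (Or.inl ⟨ν.toMonoidHom.comp (ω.comp π), ν.surjective.comp hsurj,
      by ext t; simp [hN, MonoidHom.mem_ker]⟩))
  · let ν := MulEquiv.ofBijective Φ ((Nat.bijective_iff_injective_and_card Φ).2 ⟨hΦ, h.trans hP4.symm⟩)
    exact Or.inr (Or.inr (Or.inr (Or.inl ⟨ν.toMonoidHom.comp (ω.comp π), ν.surjective.comp hsurj,
      by ext t; simp [hN, MonoidHom.mem_ker]⟩)))

end Rep

end CfsgLib.Recog.Zassenhaus
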