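import Cfsg.Agent.Lib.Recog.Zassenhaus.SixTypes

/-!
# Uniqueness of the core with one of the six quotients
-/

set_option autoImplicit false
set_option linter.all false
set_option maxRecDepth 100000
set_option maxHeartbeats 1000000

namespace CfsgLib.Recog.Zassenhaus

open Subgroup

universe u

theorem isZGroup_of_cycSylow {X : Type*} [Group X] (h : CycSylow X) : IsZGroup X :=
  ⟨fun p hp S => h p hp (S : Subgroup X) S.2⟩

/-- No two commuting involutions in a `Z`-group. -/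
theorem not_isZGroup_of_four {Y : Type*} [Group Y] [Finite Y] (K : Subgroup Y) [IsZGroup K] {a b : Y} (ha : a ∈ K)
    (hb : b ∈ K) (ha1 : a ≠ 1) (hb1 : b ≠ 1) (hab : b ≠ a) (hc : a * b = b * a) (ha2 : a * a = 1) (hb2 : b * b = 1) :
    False := by
  classical
  set A := Subgroup.closure ({⟨a, ha⟩, ⟨b, hb⟩} : Set K) with hA
  haveI : IsMulCommutative A := isMulCommutative_closure (by
    rintro x (rfl | rfl) y (rfl | rfl)
    exacts [rfl, Subtype.ext hc, Subtype.ext hc.symm, rfl])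
  letI : CommGroup A := { (inferInstance : Group A) with mul_comm := mul_comm' }
  haveI : Group.IsNilpotent A := CommGroup.isNilpotent
  haveI : IsCyclic A := inferInstance
  haveI := Fintype.ofFinite A
  have h2 := IsCyclic.card_pow_eq_one_le (α := A) (n := 2) two_pos
  let x : A := ⟨⟨a, ha⟩, subset_closure (Set.mem_insert _ _)⟩
  let y : A := ⟨⟨b, hb⟩, subset_closure (Set.mem_insert_of_mem _ rfl)⟩
  have hx : x ^ 2 = 1 := Subtype.ext (Subtype.ext (by simp [x, pow_two, ha2]))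
  have hy : y ^ 2 = 1 := Subtype.ext (Subtype.ext (by simp [y, pow_two, hb2]))
  have e1 : x ≠ 1 := fun h => ha1 (congrArg (fun t : A => ((t : K) : Y)) h)
  have e2 : y ≠ 1 := fun h => hb1 (congrArg (fun t : A => ((t : K) : Y)) h)
  have e3 : y ≠ x := fun h => hab (congrArg (fun t : A => ((t : K) : Y)) h)
  have h3 : ({1, x, y} : Finset A).card = 3 := by
    rw [Finset.card_insert_of_notMem (by simp [e1.symm, e2.symm]), Finset.card_pair e3.symm]
  have h4 : ({1, x, y} : Finset A).card ≤ 2 := by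
    refine le_trans (Finset.card_le_card ?_) h2
    intro t ht
    simp only [Finset.mem_insert, Finset.mem_singleton] at ht
    rcases ht with rfl | rfl | rfl <;> simp [hx, hy]
  omega

theorem four_in_normal_perm : ∀ σ : Equiv.Perm (Fin 4), σ ≠ 1 → ∃ g : Equiv.Perm (Fin 4),
    g * σ * g⁻¹ * σ⁻¹ ≠ 1 ∧ (g * σ * g⁻¹ * σ⁻¹) * (g * σ * g⁻¹ * σ⁻¹) = 1 ∧ ∃ h : Equiv.Perm (Fin 4),
      h * (g * σ * g⁻¹ * σ⁻¹) * h⁻¹ ≠ g * σ * g⁻¹ * σ⁻¹ ∧
      (g * σ * g⁻¹ * σ⁻¹) * (h * (g * σ * g⁻¹ * σ⁻¹) * h⁻¹) =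
        (h * (g * σ * g⁻¹ * σ⁻¹) * h⁻¹) * (g * σ * g⁻¹ * σ⁻¹) := by
  decide +kernel

theorem four_in_normal_alt : ∀ σ : alternatingGroup (Fin 4), σ ≠ 1 → ∃ g : alternatingGroup (Fin 4),
    g * σ * g⁻¹ * σ⁻¹ ≠ 1 ∧ (g * σ * g⁻¹ * σ⁻¹) * (g * σ * g⁻¹ * σ⁻¹) = 1 ∧ ∃ h : alternatingGroup (Fin 4),
      h * (g * σ * g⁻¹ * σ⁻¹) * h⁻¹ ≠ g * σ * g⁻¹ * σ⁻¹ ∧
      (g * σ * g⁻¹ * σ⁻¹) * (h * (g * σ * g⁻¹ * σ⁻¹) * h⁻¹) =
        (h * (g * σ * g⁻¹ * σ⁻¹) * h⁻¹) * (g * σ * g⁻¹ * σ⁻¹) := by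
  decide +kernel

theorem bot_of_four {Y : Type*} [Group Y] [Finite Y] (hY : ∀ σ : Y, σ ≠ 1 → ∃ g : Y,
    g * σ * g⁻¹ * σ⁻¹ ≠ 1 ∧ (g * σ * g⁻¹ * σ⁻¹) * (g * σ * g⁻¹ * σ⁻¹) = 1 ∧ ∃ h : Y,
      h * (g * σ * g⁻¹ * σ⁻¹) * h⁻¹ ≠ g * σ * g⁻¹ * σ⁻¹ ∧
      (g * σ * g⁻¹ * σ⁻¹) * (h * (g * σ * g⁻¹ * σ⁻¹) * h⁻¹) =
        (h * (g * σ * g⁻¹ * σ⁻¹) * h⁻¹) * (g * σ * g⁻¹ * σ⁻¹))
    (K : Subgroup Y) [K.Normal] [IsZGroup K] : K = ⊥ := by
  rw [eq_bot_iff_forall]
  intro σ hσ
  by_contra h1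
  obtain ⟨g, ha1, ha2, h, hab, hc⟩ := hY σ h1
  have ha : g * σ * g⁻¹ * σ⁻¹ ∈ K := mul_mem (Normal.conj_mem inferInstance σ hσ g) (inv_mem hσ)
  exact not_isZGroup_of_four K ha (Normal.conj_mem inferInstance _ ha h) ha1
    (fun e => ha1 (by simpa using e)) hab hc ha2 (by rw [← pow_two, conj_pow, pow_two, ha2, mul_one, mul_inv_cancel])

theorem bot_alt_five (K : Subgroup (alternatingGroup (Fin 5))) [K.Normal] [IsZGroup K] : K = ⊥ := by
  haveI := alternatingGroup.isSimpleGroup_five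
  refine (inferInstance : K.Normal).eq_bot_or_eq_top.resolve_right fun h => ?_
  subst h
  have hne : ∃ a b : alternatingGroup (Fin 5), a ≠ 1 ∧ b ≠ 1 ∧ b ≠ a ∧ a * b = b * a ∧ a * a = 1 ∧ b * b = 1 :=
    ⟨⟨Equiv.swap 0 1 * Equiv.swap 2 3, Equiv.Perm.mem_alternatingGroup.2 (by decide)⟩, ⟨Equiv.swap 0 2 * Equiv.swap 1 3, Equiv.Perm.mem_alternatingGroup.2 (by decide)⟩, by decide, by decide,
      by decide, by decide, by decide, by decide⟩
  obtain ⟨a, b, h1, h2, h3, h4, h5, h6⟩ := hne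
  exact not_isZGroup_of_four ⊤ (mem_top a) (mem_top b) h1 h2 h3 h4 h5 h6

theorem center_perm_five : ∀ σ : Equiv.Perm (Fin 5),
    σ * Equiv.swap 0 1 = Equiv.swap 0 1 * σ → σ * finRotate 5 = finRotate 5 * σ → σ = 1 := by
  decide +kernel

theorem bot_perm_five (K : Subgroup (Equiv.Perm (Fin 5))) [K.Normal] [IsZGroup K] : K = ⊥ := by
  haveI : IsZGroup (K.subgroupOf (alternatingGroup (Fin 5))) := IsZGroup.of_injective
    (f := ((alternatingGroup (Fin 5)).subtype.comp (K.subgroupOf (alternatingGroup (Fin 5))).subtype).codRestrict K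
      fun x => x.2) fun x y hxy => Subtype.ext (Subtype.ext (congrArg Subtype.val hxy :))
  have h := bot_alt_five (K.subgroupOf (alternatingGroup (Fin 5)))
  rw [eq_bot_iff_forall]
  intro σ hσ
  have hsgn : ∀ τ ∈ K, Equiv.Perm.sign τ = 1 → τ = 1 := fun τ hτ hs => by
    have hm : (⟨τ, Equiv.Perm.mem_alternatingGroup.2 hs⟩ : alternatingGroup (Fin 5)) ∈
        K.subgroupOf (alternatingGroup (Fin 5)) := hτ
    rw [h, mem_bot] at hm
    exact congrArg Subtype.val hm
  have hcen : ∀ g, σ * g = g * σ := fun g => by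
    have := hsgn (g * σ * g⁻¹ * σ⁻¹) (mul_mem (Normal.conj_mem inferInstance σ hσ g) (inv_mem hσ))
      (by rcases Int.units_eq_one_or (Equiv.Perm.sign σ) with e | e <;> rcases Int.units_eq_one_or (Equiv.Perm.sign g) with e' | e' <;> simp [e, e'])
    rw [mul_inv_eq_one, mul_inv_eq_iff_eq_mul] at this
    exact this.symm
  exact center_perm_five σ (hcen _) (hcen _)

theorem not_isZGroup_four_group : ¬ IsZGroup (DihedralGroup 2) := by
  intro h
  haveI : IsZGroup (⊤ : Subgroup (DihedralGroup 2)) := IsZGroup.of_injective (f := (⊤ : Subgroup _).subtype) Subtype.val_injective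
  exact not_isZGroup_of_four (⊤ : Subgroup (DihedralGroup 2)) (mem_top (DihedralGroup.r 1)) (mem_top (DihedralGroup.sr 0))
    (by decide) (by decide) (by decide) (by decide) (by decide) (by decide)

theorem map_isZGroup {G : Type u} {Y : Type*} [Group G] [Finite G] [Group Y] (f : G →* Y) (N : Subgroup G) [IsZGroup N] :
    IsZGroup (N.map f) :=
  IsZGroup.of_surjective (f := f.subgroupMap N) (f.subgroupMap_surjective N)

/-- The quotient is not the four group. -/
theorem le_of_nonfour {G : Type u} [Group G] [Finite G] {N N' : Subgroup G}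
    (hN : N = ⊤ ∨ (∃ f : G →* alternatingGroup (Fin 4), Function.Surjective f ∧ f.ker = N) ∨
      (∃ f : G →* Equiv.Perm (Fin 4), Function.Surjective f ∧ f.ker = N) ∨
      (∃ f : G →* alternatingGroup (Fin 5), Function.Surjective f ∧ f.ker = N) ∨
      (∃ f : G →* Equiv.Perm (Fin 5), Function.Surjective f ∧ f.ker = N))
    [N'.Normal] [IsZGroup N'] : N' ≤ N := by
  rcases hN with rfl | ⟨f, hf, rfl⟩ | ⟨f, hf, rfl⟩ | ⟨f, hf, rfl⟩ | ⟨f, hf, rfl⟩
  · exact le_top
  all_goals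
    haveI : (N'.map f).Normal := (inferInstance : N'.Normal).map f hf
    haveI := map_isZGroup f N'
  · exact (map_eq_bot_iff N').1 (bot_of_four four_in_normal_alt (N'.map f))
  · exact (map_eq_bot_iff N').1 (bot_of_four four_in_normal_perm (N'.map f))
  · exact (map_eq_bot_iff N').1 (bot_alt_five (N'.map f))
  · exact (map_eq_bot_iff N').1 (bot_perm_five (N'.map f))

namespace Rep

variable {G : Type u} {L V : Type*} [Group G] [Field L] [AddCommGroup V] [Module L V] (P : Rep G L V)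
variable [Finite G] [IsAlgClosed L] [FiniteDimensional L V] [Nontrivial V]

include P in
theorem four_kernel_le (f₁ f₂ : G →* DihedralGroup 2) (h₁ : Function.Surjective f₁) (h₂ : Function.Surjective f₂) :
    f₁.ker ≤ f₂.ker := by
  haveI : Fact (Nat.Prime 2) := ⟨Nat.prime_two⟩
  have hV : ∀ v : DihedralGroup 2, v ^ 2 = 1 := by decide
  have key : ∀ g ∈ f₁.ker, ∀ k, g ^ 2 ^ k = 1 → f₂ g = 1 := by
    intro g hg k hk
    obtain ⟨S, hS⟩ := (IsPGroup.of_card (p := 2) (n := k.min (Nat.log 2 (orderOf g))) (by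
      obtain ⟨j, hj, hjo⟩ := (Nat.dvd_prime_pow Nat.prime_two).1 (orderOf_dvd_of_pow_eq_one hk)
      rw [Nat.card_zpowers, hjo, Nat.log_pow (by norm_num), show k.min j = j from Nat.min_eq_right hj]) :
        IsPGroup 2 (zpowers g)).exists_le_sylow
    have himg : ∀ (f : G →* DihedralGroup 2), Function.Surjective f →
        Function.Surjective (f.comp (S : Subgroup G).subtype) := by
      intro f hf t
      have h4 : IsPGroup 2 (DihedralGroup 2) := fun v => ⟨1, by simpa using hV v⟩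
      have htop : ((S.mapSurjective hf : Sylow 2 (DihedralGroup 2)) : Subgroup (DihedralGroup 2)) = ⊤ :=
        (S.mapSurjective hf).is_maximal' (h4.to_subgroup ⊤) le_top ▸ rfl
      obtain ⟨s, hs, hst⟩ : t ∈ (S : Subgroup G).map f := htop.ge (mem_top t)
      exact ⟨⟨s, hs⟩, hst⟩
    rcases P.pGroup_cases (S : Subgroup G) S.2 with hc | ⟨-, n, ⟨e⟩⟩
    · exfalso
      haveI : IsCyclic (DihedralGroup 2) := isCyclic_of_surjective _ (himg f₁ h₁)
      exact DihedralGroup.not_isCyclic (n := 2) (by norm_num) inferInstance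
    let a : QuaternionGroup (2 ^ n) := QuaternionGroup.a 1
    have hker : ∀ (f : G →* DihedralGroup 2), Function.Surjective f →
        ((f.comp (S : Subgroup G).subtype).comp e.symm.toMonoidHom).ker = zpowers (a ^ 2) := by
      intro f hf
      set φ := (f.comp (S : Subgroup G).subtype).comp e.symm.toMonoidHom with hφ
      have hle : zpowers (a ^ 2) ≤ φ.ker := by
        rw [zpowers_le, MonoidHom.mem_ker, map_pow, hV]
      refine (eq_of_le_of_card_ge hle ?_).symm
      have hc := φ.ker.card_mul_index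
      rw [index_ker, show φ.range = ⊤ from MonoidHom.range_eq_top.2 ((himg f hf).comp e.symm.surjective), card_top,
        DihedralGroup.nat_card, Nat.card_eq_fintype_card (α := QuaternionGroup (2 ^ n)), QuaternionGroup.card] at hc
      rw [Nat.card_zpowers, orderOf_pow, QuaternionGroup.orderOf_a_one, Nat.gcd_mul_right_left,
        Nat.mul_div_cancel_left _ two_pos]
      omega
    have hm : e ⟨g, hS (mem_zpowers g)⟩ ∈ zpowers (a ^ 2) := by
      rw [← hker f₁ h₁, MonoidHom.mem_ker]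
      simp [MonoidHom.mem_ker.1 hg]
    rw [← hker f₂ h₂, MonoidHom.mem_ker] at hm
    simpa using hm
  intro g hg
  obtain ⟨k, m, hm, hkm⟩ := Nat.exists_eq_two_pow_mul_odd (orderOf_pos g).ne'
  have h := key (g ^ m) (pow_mem hg m) k (by rw [← pow_mul, mul_comm, ← hkm, pow_orderOf_eq_one])
  rw [map_pow] at h
  rw [MonoidHom.mem_ker, ← orderOf_eq_one_iff]
  exact Nat.eq_one_of_dvd_coprimes (Nat.coprime_two_right.2 hm) (orderOf_dvd_of_pow_eq_one h)
    (orderOf_dvd_of_pow_eq_one (hV _))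

include P in
theorem six_unique (N N' : Subgroup G) (hN : N.Normal) (hN' : N'.Normal) (hc : CycSylow N) (hc' : CycSylow N')
    (hq : Quot6 N) (hq' : Quot6 N') : N = N' := by
  haveI := hN
  haveI := hN'
  haveI := isZGroup_of_cycSylow hc
  haveI := isZGroup_of_cycSylow hc'
  have mixed : ∀ (M M' : Subgroup G) [M.Normal] [IsZGroup M] [M'.Normal] [IsZGroup M'] (f : G →* DihedralGroup 2),
      Function.Surjective f → f.ker = M →
      (M' = ⊤ ∨ (∃ f : G →* alternatingGroup (Fin 4), Function.Surjective f ∧ f.ker = M') ∨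
      (∃ f : G →* Equiv.Perm (Fin 4), Function.Surjective f ∧ f.ker = M') ∨
      (∃ f : G →* alternatingGroup (Fin 5), Function.Surjective f ∧ f.ker = M') ∨
      (∃ f : G →* Equiv.Perm (Fin 5), Function.Surjective f ∧ f.ker = M')) → False := by
    intro M M' _ _ _ _ f hf hfM h
    have hle : M ≤ M' := le_of_nonfour h
    have hd := index_dvd_of_le hle
    rw [← hfM, index_ker, MonoidHom.range_eq_top.2 hf, card_top, DihedralGroup.nat_card] at hd
    rcases h with h | ⟨g, hg, hgM⟩ | ⟨g, hg, hgM⟩ | ⟨g, hg, hgM⟩ | ⟨g, hg, hgM⟩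
    · subst h
      haveI : IsZGroup G := IsZGroup.of_surjective (f := (⊤ : Subgroup G).subtype)
        (fun x => ⟨⟨x, mem_top x⟩, rfl⟩)
      exact not_isZGroup_four_group (IsZGroup.of_surjective hf)
    all_goals
      rw [← hgM, index_ker, MonoidHom.range_eq_top.2 hg, card_top] at hd
    · rw [nat_card_alternatingGroup, Nat.card_fin] at hd; norm_num [Nat.factorial] at hd
    · rw [Nat.card_perm, Nat.card_fin] at hd; norm_num [Nat.factorial] at hd
    · rw [card_alt_five] at hd; norm_num at hd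
    · rw [Nat.card_perm, Nat.card_fin] at hd; norm_num [Nat.factorial] at hd
  rcases hq with h | ⟨f, hf, hfN⟩ | h <;> rcases hq' with h' | ⟨f', hf', hfN'⟩ | h'
  · rw [h, h']
  · exact (mixed N' N f' hf' hfN' (Or.inl h)).elim
  · exact le_antisymm (le_of_nonfour (Or.inr h')) (le_of_nonfour (Or.inl h))
  · exact (mixed N N' f hf hfN (Or.inl h')).elim
  · rw [← hfN, ← hfN']
    exact le_antisymm (P.four_kernel_le f f' hf hf') (P.four_kernel_le f' f hf' hf)
  · exact (mixed N N' f hf hfN (Or.inr h')).elim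
  · exact le_antisymm (le_of_nonfour (Or.inl h')) (le_of_nonfour (Or.inr h))
  · exact (mixed N' N f' hf' hfN' (Or.inr h)).elim
  · exact le_antisymm (le_of_nonfour (Or.inr h')) (le_of_nonfour (Or.inr h))

end Rep

end CfsgLib.Recog.Zassenhaus
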