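import Cfsg.Agent.Lib.Recog.Zassenhaus.SixTypes
import Cfsg.Agent.Lib.Recog.Zassenhaus.SmallRecog
import Cfsg.Agent.Lib.Signalizer.Count

/-!
# Soluble fixed point free groups without subgroups of index two
-/

set_option autoImplicit false
set_option linter.all false

namespace CfsgLib.Recog.Zassenhaus

open Subgroup

/-- A group with cyclic quotient of even order has a subgroup of index two. -/
theorem exists_index_two_of_quotient {G : Type*} [Group G] [Finite G] (N : Subgroup G) [N.Normal]
    (hc : IsCyclic (G ⧸ N)) (h2 : 2 ∣ Nat.card (G ⧸ N)) : ∃ H : Subgroup G, H.index = 2 := by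
  haveI : Fact (Nat.Prime 2) := ⟨Nat.prime_two⟩
  obtain ⟨T⟩ : Nonempty (Sylow 2 (G ⧸ N)) := inferInstance
  haveI := hc
  obtain ⟨H, hH⟩ := CfsgLib.Signalizer.index_two_of_cyclic_sylow (even_iff_two_dvd.2 h2) T inferInstance
  exact ⟨H.comap (QuotientGroup.mk' N), by rw [index_comap_of_surjective _ (QuotientGroup.mk'_surjective N), hH]⟩

/-- A metacyclic group of even order has a subgroup of index two. -/
theorem exists_index_two_of_metacyclic {G : Type*} [Group G] [Finite G] (C : Subgroup G) [C.Normal]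
    (hC : IsCyclic C) (hQ : IsCyclic (G ⧸ C)) (h2 : 2 ∣ Nat.card G) : ∃ H : Subgroup G, H.index = 2 := by
  by_cases hev : 2 ∣ Nat.card (G ⧸ C)
  · exact exists_index_two_of_quotient C hQ hev
  haveI : Fact (Nat.Prime 2) := ⟨Nat.prime_two⟩
  obtain ⟨T⟩ : Nonempty (Sylow 2 G) := inferInstance
  have hTC : (T : Subgroup G) ≤ C := by
    intro t ht
    rw [← QuotientGroup.eq_one_iff (N := C)]
    obtain ⟨k, hk⟩ := T.2 ⟨t, ht⟩
    have h1 : orderOf (t : G ⧸ C) ∣ 2 ^ k := (orderOf_map_dvd (QuotientGroup.mk' C) t).trans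
      (orderOf_dvd_of_pow_eq_one (congrArg Subtype.val hk))
    obtain ⟨j, hj, hjo⟩ := (Nat.dvd_prime_pow Nat.prime_two).1 h1
    rcases j with - | j
    · exact orderOf_eq_one_iff.1 hjo
    · exact absurd ((dvd_pow_self 2 (by omega)).trans (hjo ▸ _root_.orderOf_dvd_natCard (t : G ⧸ C))) hev
  exact CfsgLib.Signalizer.index_two_of_cyclic_sylow (even_iff_two_dvd.2 h2) T
    (isCyclic_of_injective (Subgroup.inclusion hTC) (Subgroup.inclusion_injective hTC))

theorem alt_four_facts : (∀ b : alternatingGroup (Fin 4), ∃ a a' : alternatingGroup (Fin 4),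
      a ^ 3 = 1 ∧ a' ^ 3 = 1 ∧ b = a * a') ∧
    (∀ a : alternatingGroup (Fin 4), a ^ 4 = 1 → a ^ 2 = 1) ∧
    (∀ a b : alternatingGroup (Fin 4), a ^ 3 = 1 → a ≠ 1 → b ^ 2 = 1 → a * b = b * a → b = 1) := by
  refine ⟨?_, ?_, ?_⟩ <;> decide +kernel

namespace Rep

universe u

variable {G : Type u} {L V : Type*} [Group G] [Field L] [AddCommGroup V] [Module L V] (P : Rep G L V)
variable [Finite G] [IsAlgClosed L] [FiniteDimensional L V] [Nontrivial V]

include P in
/-- Without a subgroup of index two the quotient by a normal subgroup with cyclic Sylow subgroups is `A₄`. -/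
theorem exists_alt_four [Group.IsSolvable G] (h2 : 2 ∣ Nat.card G) (hno : ∀ H : Subgroup G, H.index ≠ 2) :
    ∃ f : G →* alternatingGroup (Fin 4), Function.Surjective f ∧ CycSylow f.ker := by
  haveI : Fact (Nat.Prime 2) := ⟨Nat.prime_two⟩
  obtain ⟨N, hN, hcyc, h | ⟨f, hf, hk⟩ | ⟨f, hf, hk⟩ | ⟨f, hf, hk⟩ | ⟨f, hf, hk⟩ | ⟨f, hf, hk⟩⟩ := P.exists_six_solvable
  · exfalso
    obtain ⟨T⟩ : Nonempty (Sylow 2 G) := inferInstance
    subst h
    haveI : IsCyclic ((T : Subgroup G).subgroupOf ⊤) :=
      hcyc 2 Nat.prime_two _ (T.2.comap_subtype)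
    obtain ⟨H, hH⟩ := CfsgLib.Signalizer.index_two_of_cyclic_sylow (even_iff_two_dvd.2 h2) T
      (isCyclic_of_surjective (subgroupOfEquivOfLe (le_top : (T : Subgroup G) ≤ ⊤)).toMonoidHom
        (MulEquiv.surjective _))
    exact hno H hH
  · exfalso
    obtain ⟨K, hK⟩ := Sylow.exists_subgroup_card_pow_prime (G := DihedralGroup 2) 2 (n := 1)
      (by rw [DihedralGroup.nat_card]; norm_num)
    refine hno (K.comap f) ?_
    rw [index_comap_of_surjective _ hf]
    have := K.card_mul_index
    rw [hK, DihedralGroup.nat_card] at this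
    omega
  · exact ⟨f, hf, hk ▸ hcyc⟩
  · exfalso
    refine hno ((alternatingGroup (Fin 4)).comap f) ?_
    rw [index_comap_of_surjective _ hf, alternatingGroup.index_eq_two]
  · exact absurd (Group.isSolvable_of_surjective hf) (by
      intro hs
      haveI : IsSimpleGroup (alternatingGroup (Fin 5)) := alternatingGroup.isSimpleGroup_five
      have h1 := Group.IsSolvable.commutator_lt_top_of_nontrivial (alternatingGroup (Fin 5))
      rcases (commutator_normal (⊤ : Subgroup (alternatingGroup (Fin 5))) ⊤).eq_bot_or_eq_top with h | h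
      · have : ∀ a b : alternatingGroup (Fin 5), a * b = b * a := fun a b =>
          commutatorElement_eq_one_iff_mul_comm.1
            (mem_bot.1 (h ▸ commutator_mem_commutator (mem_top a) (mem_top b)))
        exact absurd (this ⟨Equiv.swap 0 1 * Equiv.swap 2 3, Equiv.Perm.mem_alternatingGroup.2 (by decide)⟩
          ⟨Equiv.swap 0 2 * Equiv.swap 3 4, Equiv.Perm.mem_alternatingGroup.2 (by decide)⟩) (by decide)
      · exact h1.ne h)
  · exfalso
    refine hno ((alternatingGroup (Fin 5)).comap f) ?_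
    rw [index_comap_of_surjective _ hf, alternatingGroup.index_eq_two]

include P in
/-- The order of such a group is not divisible by 16. -/
theorem not_sixteen_dvd [Group.IsSolvable G] (hno : ∀ H : Subgroup G, H.index ≠ 2) : ¬ 16 ∣ Nat.card G := by
  intro h16
  haveI : Fact (Nat.Prime 2) := ⟨Nat.prime_two⟩
  have h2 : 2 ∣ Nat.card G := (by norm_num : 2 ∣ 16).trans h16
  obtain ⟨f, hf, hcyc⟩ := P.exists_alt_four h2 hno
  obtain ⟨hgen, hfour, -⟩ := alt_four_facts
  set N := f.ker with hN
  have hcard : 12 * Nat.card N = Nat.card G := by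
    have h := N.card_mul_index
    have hA : Nat.card (alternatingGroup (Fin 4)) = 12 := by rw [Nat.card_eq_fintype_card]; decide
    rw [hN, index_ker, MonoidHom.range_eq_top.2 hf, Subgroup.card_top, hA] at h
    linarith
  obtain ⟨RN⟩ : Nonempty (Sylow 2 N) := inferInstance
  set R := (RN : Subgroup N).map N.subtype with hR
  haveI hRc : IsCyclic R := by
    haveI := hcyc 2 Nat.prime_two _ RN.2
    exact isCyclic_of_surjective ((RN : Subgroup N).equivMapOfInjective _ N.subtype_injective).toMonoidHom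
      (MulEquiv.surjective _)
  have hR4 : 4 ∣ Nat.card R := by
    rw [← Nat.card_congr ((RN : Subgroup N).equivMapOfInjective _ N.subtype_injective).toEquiv]
    exact RN.pow_dvd_card_of_pow_dvd_card (n := 2) (by
      have h48 : 16 ∣ 4 * (3 * Nat.card N) := by rw [← mul_assoc]; exact hcard ▸ h16
      have h3 : 4 ∣ 3 * Nat.card N := (Nat.mul_dvd_mul_iff_left (by norm_num : 0 < 4)).1 h48
      exact (Nat.Coprime.dvd_of_dvd_mul_left (by norm_num) h3))
  set C := centralizer (R : Set G) with hC
  have hMsup : normalizer (R : Set G) ⊔ N = ⊤ := RN.normalizer_sup_eq_top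
  have hthree : ∀ a : alternatingGroup (Fin 4), a ^ 3 = 1 → a ∈ C.map f := by
    intro a ha
    obtain ⟨g, rfl⟩ := hf a
    obtain ⟨m, hm, n, hn, rfl⟩ := (mem_sup_of_normal_right).1 (hMsup.ge (mem_top g))
    have hfm : f (m * n) = f m := by rw [map_mul, MonoidHom.mem_ker.1 hn, mul_one]
    rw [hfm] at ha ⊢
    obtain ⟨r, hr⟩ := RN.2.exists_card_eq
    have hRcard : Nat.card R = 2 ^ r := by
      rw [← Nat.card_congr ((RN : Subgroup N).equivMapOfInjective _ N.subtype_injective).toEquiv]; exact hr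
    obtain ⟨j, hj⟩ : ∃ j, m ^ (2 ^ j) ∈ C := by
      refine ⟨r - 1, ?_⟩
      have h1 : (R.normalizerMonoidHom ⟨m, hm⟩) ^ (2 ^ (r - 1)) = 1 := by
        rw [← orderOf_dvd_iff_pow_eq_one]
        refine (_root_.orderOf_dvd_natCard _).trans ?_
        rw [IsCyclic.card_mulAut, hRcard]
        rcases r with - | r
        · rw [hRcard] at hR4; norm_num at hR4
        · rw [Nat.totient_prime_pow Nat.prime_two (by omega)]
          exact dvd_of_eq (by simp)
      rw [← map_pow, ← MonoidHom.mem_ker, normalizerMonoidHom_ker] at h1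
      exact h1
    have h2j : f m ^ (2 ^ j * 2 ^ j) = f m := by
      have e : (2 ^ j * 2 ^ j) % 3 = 1 := by rw [← mul_pow, Nat.pow_mod]; norm_num
      conv_rhs => rw [← pow_one (f m)]
      rw [← Nat.div_add_mod (2 ^ j * 2 ^ j) 3, e, pow_add, pow_mul, ha, one_pow, one_mul]
    rw [← h2j, pow_mul, ← map_pow f m (2 ^ j), ← map_pow]
    exact mem_map_of_mem f (pow_mem hj _)
  have hCsurj : Function.Surjective (f.comp C.subtype) := by
    intro b
    obtain ⟨a, a', ha, ha', rfl⟩ := hgen b
    obtain ⟨x, hx, hxa⟩ := hthree a ha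
    obtain ⟨y, hy, hya⟩ := hthree a' ha'
    exact ⟨⟨x * y, mul_mem hx hy⟩, by rw [← hxa, ← hya, ← map_mul]; rfl⟩
  obtain ⟨T⟩ : Nonempty (Sylow 2 C) := inferInstance
  set T' := (T : Subgroup C).map C.subtype with hT'
  have hT'p : IsPGroup 2 T' := T.2.map _
  -- the image is a four group
  set U := T.mapSurjective hCsurj with hU
  have hUcard : Nat.card (U : Subgroup (alternatingGroup (Fin 4))) = 4 := by
    rw [CfsgLib.Perm.sylow_card_eq U (k := 2) (m := 3) (by rw [Nat.card_eq_fintype_card]; decide) (by norm_num)]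
    norm_num
  let π : T' →* (U : Subgroup (alternatingGroup (Fin 4))) :=
    (f.comp T'.subtype).codRestrict _ fun t => by
      obtain ⟨c, hc, hct⟩ := t.2
      refine ⟨c, hc, ?_⟩
      show f (C.subtype c) = f (T'.subtype t)
      rw [hct]; rfl
  have hπ : Function.Surjective π := by
    intro u
    obtain ⟨c, hc, hcu⟩ := u.2
    exact ⟨⟨c, mem_map_of_mem _ hc⟩, Subtype.ext hcu⟩
  have hnc : ¬ IsCyclic T' := by
    intro hc
    obtain ⟨u, hu⟩ := (isCyclic_of_surjective π hπ).exists_generator
    have h := orderOf_eq_card_of_forall_mem_zpowers hu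
    rw [hUcard] at h
    have h4 : u ^ 4 = 1 := by
      have := pow_orderOf_eq_one u
      rwa [h] at this
    have h2' : u ^ 2 = 1 := Subtype.ext (by rw [Subgroup.coe_pow]; exact hfour _ (congrArg Subtype.val h4))
    have := orderOf_dvd_of_pow_eq_one h2'
    rw [h] at this
    norm_num at this
  rcases P.pGroup_cases T' hT'p with h | ⟨-, m, ⟨e⟩⟩
  · exact hnc h
  rcases m with - | m
  · haveI := QuaternionGroup.quaternionGroup_one_isCyclic
    exact hnc (isCyclic_of_surjective e.symm.toMonoidHom e.symm.surjective)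
  obtain ⟨g, hg⟩ := hRc.exists_generator
  have hgo := orderOf_eq_card_of_forall_mem_zpowers hg
  obtain ⟨k, hk⟩ := hR4
  have hr : orderOf ((g ^ k : R) : G) = 4 := by
    rw [Subgroup.orderOf_coe, orderOf_pow, hgo, hk]
    have hk0 : 0 < k := Nat.pos_of_ne_zero fun h0 => by rw [h0, mul_zero] at hk; exact Nat.card_pos.ne' hk
    rw [Nat.gcd_eq_right (dvd_mul_left k 4), Nat.mul_div_cancel _ hk0]
  have hsub : ∀ j : ZMod (2 * 2 ^ (m + 1)), ((e.symm (QuaternionGroup.xa j) : T') : G) ∈ zpowers ((g ^ k : R) : G) := by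
    intro j
    refine P.mem_zpowers_of_commute ?_ ?_
    · obtain ⟨c, hc, hct⟩ := (e.symm (QuaternionGroup.xa j)).2
      show _ * _ = _ * _
      rw [← hct]
      exact mem_centralizer_iff.1 c.2 _ (g ^ k).2
    · rw [hr, ← Subgroup.coe_pow, ← map_pow]
      have : (QuaternionGroup.xa j : QuaternionGroup (2 ^ (m + 1))) ^ 4 = 1 := by
        rw [← QuaternionGroup.orderOf_xa j, pow_orderOf_eq_one]
      rw [this, map_one, Subgroup.coe_one]
  obtain ⟨i0, hi0⟩ := hsub 0
  obtain ⟨i1, hi1⟩ := hsub 1
  have hcomm : (QuaternionGroup.xa 0 : QuaternionGroup (2 ^ (m + 1))) * QuaternionGroup.xa 1 =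
      QuaternionGroup.xa 1 * QuaternionGroup.xa 0 := by
    apply e.symm.injective
    apply T'.subtype_injective
    simp only [map_mul, Subgroup.coe_subtype]
    rw [← hi0, ← hi1]
    exact (Commute.zpow_zpow_self _ i0 i1).eq
  rw [QuaternionGroup.xa_mul_xa, QuaternionGroup.xa_mul_xa, QuaternionGroup.a.injEq, add_sub_assoc,
    add_sub_assoc] at hcomm
  have h20 : ((2 : ℕ) : ZMod (2 * 2 ^ (m + 1))) = 0 := by push_cast; linear_combination hcomm
  have := Nat.le_of_dvd (by norm_num) ((ZMod.natCast_eq_zero_iff _ _).1 h20)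
  have : 2 ≤ 2 ^ (m + 1) := by rw [pow_succ]; have := Nat.one_le_two_pow (n := m); omega
  omega

include P in
/-- The case of order 24. -/
theorem sl23_of_card [Group.IsSolvable G] (h24 : Nat.card G = 24) (hno : ∀ H : Subgroup G, H.index ≠ 2) :
    Nonempty (G ≃* Matrix.SpecialLinearGroup (Fin 2) (ZMod 3)) := by
  haveI : Fact (Nat.Prime 2) := ⟨Nat.prime_two⟩
  haveI : Fact (Nat.Prime 3) := ⟨Nat.prime_three⟩
  have h2 : 2 ∣ Nat.card G := by rw [h24]; norm_num
  obtain ⟨f, hf, -⟩ := P.exists_alt_four h2 hno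
  obtain ⟨-, hfour, hmove⟩ := alt_four_facts
  have hA : Nat.card (alternatingGroup (Fin 4)) = 12 := by rw [Nat.card_eq_fintype_card]; decide
  have hcl : ∀ a b : alternatingGroup (Fin 4), a ^ 2 = 1 → b ^ 2 = 1 → (a * b) ^ 2 = 1 := by decide +kernel
  let U : Subgroup (alternatingGroup (Fin 4)) :=
    { carrier := {a | a ^ 2 = 1}, one_mem' := one_pow 2, mul_mem' := fun ha hb => hcl _ _ ha hb,
      inv_mem' := fun {a} ha => by rw [Set.mem_setOf_eq, inv_pow, ha, inv_one] }
  haveI : U.Normal := ⟨fun a ha g => by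
    show (g * a * g⁻¹) ^ 2 = 1
    rw [conj_pow, show a ^ 2 = 1 from ha, mul_one, mul_inv_cancel]⟩
  have hU : Nat.card U = 4 := by
    show Nat.card {a : alternatingGroup (Fin 4) // a ^ 2 = 1} = 4
    rw [Nat.card_eq_fintype_card]; decide +kernel
  set Q := U.comap f with hQ
  have hQ8 : Nat.card Q = 8 := by
    have h1 := Q.card_mul_index
    have h3 := U.card_mul_index
    rw [hU, hA] at h3
    rw [h24, hQ, index_comap_of_surjective _ hf] at h1
    have : U.index = 3 := by omega
    rw [this] at h1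
    rw [hQ]
    omega
  have hQp : IsPGroup 2 Q := IsPGroup.of_card (n := 3) (by rw [hQ8]; norm_num)
  rcases P.pGroup_cases Q hQp with hc | ⟨-, m, ⟨e⟩⟩
  · exfalso
    obtain ⟨T, hT⟩ := hQp.exists_le_sylow
    have hTc : Nat.card (T : Subgroup G) = 8 :=
      (CfsgLib.Perm.sylow_card_eq T (k := 3) (m := 3) (by rw [h24]; norm_num) (by norm_num)).trans (by norm_num)
    have hTQ : Q = (T : Subgroup G) := eq_of_le_of_card_ge hT (by rw [hTc, hQ8])
    obtain ⟨H, hH⟩ := CfsgLib.Signalizer.index_two_of_cyclic_sylow (even_iff_two_dvd.2 h2) T (hTQ ▸ hc)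
    exact hno H hH
  obtain rfl : m = 1 := by
    have h := Nat.card_congr e.toEquiv
    rw [hQ8, Nat.card_eq_fintype_card, QuaternionGroup.card] at h
    exact Nat.pow_right_injective (le_refl 2) (show 2 ^ m = 2 ^ 1 by norm_num; omega)
  obtain ⟨g, hg⟩ := exists_prime_orderOf_dvd_card' (G := G) 3 (by rw [h24]; norm_num)
  refine nonempty_sl23 h24 Q e (g := g) (by rw [← hg, pow_orderOf_eq_one]) fun hgC => ?_
  have hgQ : g ∉ Q := fun h => by
    have := Subgroup.orderOf_dvd_natCard Q h
    rw [hg, hQ8] at this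
    norm_num at this
  have hfg3 : f g ^ 3 = 1 := by rw [← map_pow, ← hg, pow_orderOf_eq_one, map_one]
  have hfg1 : f g ≠ 1 := fun h => hgQ (by show f g ∈ U; rw [h]; exact one_mem _)
  obtain ⟨b, hb1, hb⟩ : ∃ b : U, b ≠ 1 ∧ True := by
    haveI : Nontrivial U := Finite.one_lt_card_iff_nontrivial.1 (by rw [hU]; norm_num)
    obtain ⟨b, hb⟩ := exists_ne (1 : U)
    exact ⟨b, hb, trivial⟩
  obtain ⟨y, hy⟩ := hf b
  refine hb1 (Subtype.ext (hmove (f g) b hfg3 hfg1 b.2 ?_))
  rw [← hy, ← map_mul, ← map_mul, mem_centralizer_iff.1 hgC y (show f y ∈ U from hy ▸ b.2)]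

include P in
/-- Soluble fixed point free groups of order 24, 48, 120 or 528 without a subgroup of index two. -/
theorem solvable_exceptional [Group.IsSolvable G] (hno : ∀ H : Subgroup G, H.index ≠ 2)
    (hcard : Nat.card G = 24 ∨ Nat.card G = 48 ∨ Nat.card G = 120 ∨ Nat.card G = 528) :
    (Nat.card G = 24 ∧ Nonempty (G ≃* Matrix.SpecialLinearGroup (Fin 2) (ZMod 3))) ∨
      (Nat.card G = 120 ∧ Nonempty (G ≃* Matrix.SpecialLinearGroup (Fin 2) (ZMod 3) × Multiplicative (ZMod 5))) := by
  have h2 : 2 ∣ Nat.card G := by rcases hcard with h | h | h | h <;> rw [h] <;> norm_num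
  have h16 := P.not_sixteen_dvd hno
  rcases hcard with h | h | h | h
  · exact Or.inl ⟨h, P.sl23_of_card h hno⟩
  · exact absurd (by rw [h]; norm_num) h16
  · refine Or.inr ⟨h, ?_⟩
    haveI : Fact (Nat.Prime 5) := ⟨Nat.prime_five⟩
    obtain ⟨f, hf, -⟩ := P.exists_alt_four h2 hno
    have hN10 : Nat.card f.ker = 10 := by
      have h1 := f.ker.card_mul_index
      have hA : Nat.card (alternatingGroup (Fin 4)) = 12 := by rw [Nat.card_eq_fintype_card]; decide
      rw [index_ker, MonoidHom.range_eq_top.2 hf, Subgroup.card_top, h, hA] at h1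
      omega
    obtain ⟨S⟩ : Nonempty (Sylow 5 f.ker) := inferInstance
    have hS5 : Nat.card (S : Subgroup f.ker) = 5 :=
      (CfsgLib.Perm.sylow_card_eq S (k := 1) (m := 2) (by rw [hN10]; norm_num) (by norm_num)).trans (by norm_num)
    haveI : (S : Subgroup f.ker).Characteristic := by
      haveI : Subsingleton (Sylow 5 f.ker) := by
        refine (Nat.card_eq_one_iff_unique.1 ?_).1
        have hd : Nat.card (Sylow 5 f.ker) ∣ 2 := CfsgLib.Perm.card_sylow_dvd_of_card_eq (k := 1) (by rw [hN10]; norm_num)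
        have hmod : Nat.card (Sylow 5 f.ker) % 5 = 1 := card_sylow_modEq_one 5 _
        have := Nat.le_of_dvd (by norm_num) hd
        interval_cases hs : Nat.card (Sylow 5 f.ker) <;> omega
      exact S.characteristic_of_subsingleton
    set F := (S : Subgroup f.ker).map f.ker.subtype with hF
    have hF5 : Nat.card F = 5 :=
      (Nat.card_congr ((S : Subgroup f.ker).equivMapOfInjective _ f.ker.subtype_injective).toEquiv).symm.trans hS5
    haveI : F.Normal := inferInstance
    have hFc : centralizer (F : Set G) = ⊤ := by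
      by_contra hne
      let ψ : G →* MulAut F := MulAut.conjNormal
      have hk : ψ.ker = centralizer (F : Set G) := by
        ext t
        rw [MonoidHom.mem_ker, mem_centralizer_iff, MulEquiv.ext_iff]
        constructor
        · intro h x hx
          have := congrArg Subtype.val (h ⟨x, hx⟩)
          rw [MulAut.conjNormal_apply, MulAut.one_apply] at this
          exact (mul_inv_eq_iff_eq_mul.1 this).symm
        · intro h x
          exact Subtype.ext (by rw [MulAut.conjNormal_apply, ← h x x.2, mul_inv_cancel_right]; rfl)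
      haveI : IsCyclic F := isCyclic_of_prime_card hF5
      haveI : IsCyclic (MulAut F) := by
        have E := IsCyclic.mulAutMulEquiv F
        rw [hF5] at E
        exact isCyclic_of_surjective E.symm.toMonoidHom E.symm.surjective
      have hd : Nat.card (G ⧸ ψ.ker) ∣ 4 := by
        refine (Subgroup.card_dvd_of_injective _ (QuotientGroup.kerLift_injective ψ)).trans ?_
        rw [IsCyclic.card_mulAut, hF5]
        exact dvd_of_eq (by decide)
      have h1 : Nat.card (G ⧸ ψ.ker) ≠ 1 := fun h1 =>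
        hne (by rw [← hk]; exact index_eq_one.1 (by rw [index_eq_card]; exact h1))
      obtain ⟨H, hH⟩ := exists_index_two_of_quotient ψ.ker
        (isCyclic_of_injective _ (QuotientGroup.kerLift_injective ψ)) (by
          have := Nat.le_of_dvd (by norm_num) hd
          interval_cases hq : Nat.card (G ⧸ ψ.ker) <;> omega)
      exact hno H hH
    have hFi : F.index = 24 := by
      have := F.card_mul_index
      rw [hF5, h] at this
      omega
    obtain ⟨H, hH⟩ := exists_right_complement'_of_coprime (N := F) (by rw [hF5, hFi]; norm_num)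
    have hH24 : Nat.card H = 24 := by
      have := hH.card_mul
      rw [hF5, h] at this
      omega
    have hcomm : ∀ (x : H) (y : F), Commute (x : G) (y : G) := fun x y =>
      (mem_centralizer_iff.1 (hFc.ge (mem_top (x : G))) y y.2).symm
    let μ : H × F →* G := MonoidHom.noncommCoprod H.subtype F.subtype hcomm
    have hμ : Function.Bijective μ := by
      refine (Nat.bijective_iff_injective_and_card μ).2 ⟨?_, by rw [Nat.card_prod, hH24, hF5, h]⟩
      rintro ⟨a, b⟩ ⟨a', b'⟩ hab
      have hab' : (a : G) * b = a' * b' := hab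
      exact Prod.ext_iff.2 (Prod.ext_iff.1 (hH.symm.1 (a₁ := (a, b)) (a₂ := (a', b')) hab'))
    let ε := (MulEquiv.ofBijective μ hμ).symm
    obtain ⟨e24⟩ := (P.restrict H).sl23_of_card hH24 fun K hK => by
      refine hno (K.comap ((MonoidHom.fst H F).comp ε.toMonoidHom)) ?_
      rw [index_comap_of_surjective, hK]
      exact Prod.fst_surjective.comp ε.surjective
    exact ⟨ε.trans (e24.prodCongr (mulEquivOfPrimeCardEq hF5
      ((Nat.card_congr Multiplicative.toAdd).trans (Nat.card_zmod 5))))⟩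
  · exact absurd (by rw [h]; norm_num) h16

end Rep

end CfsgLib.Recog.Zassenhaus
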