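import Cfsg.Agent.Lib.Recog.Zassenhaus.Axes

/-!
# All elements of order three lie on one frame or in one icosahedral subgroup
-/

set_option autoImplicit false
set_option linter.all false
set_option maxHeartbeats 1000000

namespace CfsgLib.Recog.Zassenhaus

namespace Rep

variable {G L V : Type*} [Group G] [Field L] [AddCommGroup V] [Module L V] {P : Rep G L V}

/-- Frames from tetrahedral pairs. -/
theorem exists_tetra (h2 : (2 : L) ≠ 0) {a b : G} (ha : Cube a) (hb : Cube b) (h : P.dot a b = 2) :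
    ∃ T : Tetra P, T.a = a ∧ T.gi = a * b * a ∧ T.gj = b * a⁻¹ := by
  have two : (2 : Module.End L V) = 1 + 1 := by norm_num
  have four : (4 : Module.End L V) = 1 + 1 + 1 + 1 := by norm_num
  have eight : (8 : Module.End L V) = 1 + 1 + 1 + 1 + 1 + 1 + 1 + 1 := by norm_num
  set α := P.gam a with hα
  set β := P.gam b with hβ
  have hαα : α * α = -(1 + 1 + 1) := by rw [hα, P.gam_sq ha]; norm_num
  have hββ : β * β = -(1 + 1 + 1) := by rw [hβ, P.gam_sq hb]; norm_num
  have hαβ : α * β = (1 + 1) - β * α := by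
    rw [eq_sub_iff_add_eq, ← two]; exact h
  have hαα' : ∀ z, α * (α * z) = -(1 + 1 + 1) * z := fun z => by rw [← mul_assoc, hαα]
  have hββ' : ∀ z, β * (β * z) = -(1 + 1 + 1) * z := fun z => by rw [← mul_assoc, hββ]
  have hαβ' : ∀ z, α * (β * z) = ((1 + 1) - β * α) * z := fun z => by rw [← mul_assoc, hαβ]
  have ea : (2 : Module.End L V) * P.ρ a = α - 1 := by rw [hα, gam, add_sub_cancel_right]
  have ea' : (2 : Module.End L V) * P.ρ a⁻¹ = -α - 1 := by
    rw [hα, ← P.gam_inv ha, gam, add_sub_cancel_right]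
  have eb : (2 : Module.End L V) * P.ρ b = β - 1 := by rw [hβ, gam, add_sub_cancel_right]
  have h8 : ∀ {x y : Module.End L V}, (8 : Module.End L V) * x = 8 * y → x = y := fun {x y} e => by
    refine eq_of_natMul (L := L) (n := 8) ?_ (by exact_mod_cast e)
    rw [show ((8 : ℕ) : L) = 2 ^ 3 by norm_num]
    exact pow_ne_zero _ h2
  have h2' : ∀ {x y : Module.End L V}, (2 : Module.End L V) * x = 2 * y → x = y := fun {x y} e =>
    eq_of_natMul (L := L) (n := 2) (by exact_mod_cast h2) (by exact_mod_cast e)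
  have hI : (2 : Module.End L V) * P.ρ (a * b * a) = α + β := by
    refine h2' (h2' ?_)
    calc (2 : Module.End L V) * (2 * (2 * P.ρ (a * b * a))) = (2 * P.ρ a) * (2 * P.ρ b) * (2 * P.ρ a) := by
          simp only [map_mul]; rw [two]; noncomm_ring
      _ = _ := by
          rw [ea, eb, two]
          simp only [mul_add, add_mul, mul_sub, sub_mul, mul_one, one_mul, mul_assoc, hαα, hββ, hαβ, hαα', hββ', hαβ',
            neg_mul, mul_neg]
          abel
  set X := -(β * α) - β + α + 1 with hX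
  have hJ : (4 : Module.End L V) * P.ρ (b * a⁻¹) = X := by
    calc (4 : Module.End L V) * P.ρ (b * a⁻¹) = (2 * P.ρ b) * (2 * P.ρ a⁻¹) := by
          simp only [map_mul]; rw [four, two]; noncomm_ring
      _ = X := by rw [ea', eb, hX]; noncomm_ring
  have hII : P.ρ (a * b * a) * P.ρ (a * b * a) = -1 := by
    refine h2' (h2' ?_)
    calc (2 : Module.End L V) * (2 * (P.ρ (a * b * a) * P.ρ (a * b * a)))
        = (2 * P.ρ (a * b * a)) * (2 * P.ρ (a * b * a)) := by rw [two]; noncomm_ring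
      _ = _ := by
          rw [hI, two]
          simp only [mul_add, add_mul, mul_sub, sub_mul, mul_one, one_mul, mul_assoc, hαα, hββ, hαβ, hαα', hββ', hαβ',
            neg_mul, mul_neg]
          abel
  have hJJ : P.ρ (b * a⁻¹) * P.ρ (b * a⁻¹) = -1 := by
    refine h2' (h2' (h2' (h2' ?_)))
    calc (2 : Module.End L V) * (2 * (2 * (2 * (P.ρ (b * a⁻¹) * P.ρ (b * a⁻¹)))))
        = (4 * P.ρ (b * a⁻¹)) * (4 * P.ρ (b * a⁻¹)) := by rw [four, two]; noncomm_ring
      _ = _ := by
          rw [hJ, hX, two]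
          simp only [mul_add, add_mul, mul_sub, sub_mul, mul_one, one_mul, mul_assoc, hαα, hββ, hαβ, hαα', hββ', hαβ',
            neg_mul, mul_neg]
          abel
  have hJI : P.ρ (b * a⁻¹) * P.ρ (a * b * a) = -(P.ρ (a * b * a) * P.ρ (b * a⁻¹)) := by
    refine h8 ?_
    calc (8 : Module.End L V) * (P.ρ (b * a⁻¹) * P.ρ (a * b * a))
        = (4 * P.ρ (b * a⁻¹)) * (2 * P.ρ (a * b * a)) := by rw [eight, four, two]; noncomm_ring
      _ = -((2 * P.ρ (a * b * a)) * (4 * P.ρ (b * a⁻¹))) := by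
          rw [hI, hJ, hX]
          simp only [mul_add, add_mul, mul_sub, sub_mul, mul_one, one_mul, mul_assoc, hαα, hββ, hαβ, hαα', hββ', hαβ',
            neg_mul, mul_neg]
          abel
      _ = _ := by rw [eight, four, two]; noncomm_ring
  refine ⟨⟨a, a * b * a, b * a⁻¹, ⟨P.ρ (a * b * a), P.ρ (b * a⁻¹), hII, hJJ, hJI⟩, ha, rfl, rfl, ?_⟩, rfl, rfl, rfl⟩
  show α = _
  refine h8 (Eq.symm ?_)
  simp only [Frame.quat, one_mul, zero_add]
  calc (8 : Module.End L V) * (P.ρ (a * b * a) + P.ρ (b * a⁻¹) + P.ρ (a * b * a) * P.ρ (b * a⁻¹))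
      = (1 + 1 + 1 + 1) * (2 * P.ρ (a * b * a)) + (1 + 1) * (4 * P.ρ (b * a⁻¹)) +
          (2 * P.ρ (a * b * a)) * (4 * P.ρ (b * a⁻¹)) := by rw [eight, four, two]; noncomm_ring
    _ = 8 * α := by
        rw [hI, hJ, hX, eight]
        simp only [mul_add, add_mul, mul_sub, sub_mul, mul_one, one_mul, mul_assoc, hαα, hββ, hαβ, hαα', hββ', hαβ',
          neg_mul, mul_neg]
        abel

/-- A conjugate of `a` by `c` is tetrahedrally related to `a` when the pair is icosahedral. -/
theorem dot_conj_of_twenty (h2 : (2 : L) ≠ 0) {a c : G} (ha : Cube a) (hc : Cube c)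
    (h : P.dot a c * P.dot a c = 20) : P.dot a (c * a * c⁻¹) = -2 := by
  have two : (2 : Module.End L V) = 1 + 1 := by norm_num
  have four : (4 : Module.End L V) = 1 + 1 + 1 + 1 := by norm_num
  set α := P.gam a with hα
  set γ := P.gam c with hγ
  set s := P.dot a c with hs
  have hαα : α * α = -3 := P.gam_sq ha
  have hγγ : γ * γ = -3 := P.gam_sq hc
  have hsα : α * s = s * α := (P.dot_commute_left ha c).eq
  have hs' : γ * α = s - α * γ := by rw [hs, dot, ← hα, ← hγ, add_sub_cancel_left]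
  refine eq_of_natMul (L := L) (n := 4) (by rw [show ((4 : ℕ) : L) = 2 * 2 by norm_num]; exact mul_ne_zero h2 h2) ?_
  push_cast
  have e4 : (4 : Module.End L V) * P.gam (c * a * c⁻¹) = -(s * γ) - 3 * α + α + (α * γ - γ * α) := by
    calc (4 : Module.End L V) * P.gam (c * a * c⁻¹) = (γ - 1) * α * (-γ - 1) := by
          rw [P.gam_conj, ← hα, hγ, ← P.gam_inv hc, gam, gam, four, two]; noncomm_ring
      _ = -((γ * α) * γ) + α + (α * γ - γ * α) := by noncomm_ring
      _ = _ := by
          have e : (γ * α) * γ = s * γ + 3 * α := by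
            rw [hs', sub_mul, mul_assoc, hγγ, show (3 : Module.End L V) = 1 + 1 + 1 by norm_num]; noncomm_ring
          rw [e]; abel
  calc (4 : Module.End L V) * P.dot a (c * a * c⁻¹)
      = α * (4 * P.gam (c * a * c⁻¹)) + (4 * P.gam (c * a * c⁻¹)) * α := by rw [dot, ← hα, four]; noncomm_ring
    _ = -((α * s) * γ + s * (γ * α)) - (1 + 1) * (α * α) - (1 + 1) * (α * α) +
          ((α * α) * γ - γ * (α * α)) := by
        rw [e4, show (3 : Module.End L V) = 1 + 1 + 1 by norm_num]; noncomm_ring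
    _ = -(s * s) - (1 + 1) * (-3) - (1 + 1) * (-3) + ((-3) * γ - γ * (-3)) := by
        rw [hαα, hsα, mul_assoc, ← mul_add, show α * γ + γ * α = s by rw [hs, dot, ← hα, ← hγ]]
    _ = 4 * -2 := by
        rw [h, show (20 : Module.End L V) = 4 * 5 by norm_num, show (3 : Module.End L V) = 1 + 1 + 1 by norm_num,
          show (5 : Module.End L V) = 1 + 1 + 1 + 1 + 1 by norm_num, four, two]
        noncomm_ring

variable [Finite G] [IsAlgClosed L] [FiniteDimensional L V] [Nontrivial V]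

/-- Two elements of order three generating a noncyclic group give a frame. -/
theorem tetra_of_pair (h2 : (2 : L) ≠ 0) (p : ℕ) [Fact p.Prime] [CharP L p] {a b : G} (ha : Cube a) (hb : Cube b)
    (h1 : b ≠ a) (h1' : b ≠ a⁻¹) :
    ∃ (T : Tetra P), T.gj ∈ Subgroup.closure {g : G | Cube g} := by
  obtain ⟨b', hb', h⟩ : ∃ b', Cube b' ∧ P.dot a b' = 2 := by
    rcases P.dot_cases (p := p) h2 ha hb with e | e | e | e | ⟨e, -⟩
    · exact absurd e h1
    · exact absurd e h1'
    · exact ⟨b, hb, e⟩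
    · exact ⟨b⁻¹, hb.inv, by rw [P.dot_inv_right hb, e, neg_neg]⟩
    · exact ⟨(b * a * b⁻¹)⁻¹, (ha.conj b).inv, by rw [P.dot_inv_right (ha.conj b), dot_conj_of_twenty h2 ha hb e,
        neg_neg]⟩
  obtain ⟨T, -, -, hT⟩ := exists_tetra h2 ha hb' h
  refine ⟨T, hT ▸ mul_mem (Subgroup.subset_closure ?_) (inv_mem (Subgroup.subset_closure ?_))⟩
  exacts [hb', ha]

namespace Tetra

variable {T : Tetra P}

theorem Std.conj_back {c k : G} {A : Module.End L V} {M : Subgroup G} (hk : k ∈ M) (h : k * c * k⁻¹ ∈ M) : c ∈ M := by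
  rw [show c = k⁻¹ * (k * c * k⁻¹) * k by group]
  exact mul_mem (mul_mem (inv_mem hk) h) hk

/-- Quaternions with scalar coefficients. -/
def InSpan (T : Tetra P) (x : Module.End L V) : Prop :=
  ∃ l₀ l₁ l₂ l₃ : L, x = T.F.quat (algebraMap L _ l₀) (algebraMap L _ l₁) (algebraMap L _ l₂) (algebraMap L _ l₃)

theorem cen_algebraMap (T : Tetra P) (l : L) : T.F.Cen (algebraMap L (Module.End L V) l) :=
  ⟨(Algebra.commutes l _).symm, (Algebra.commutes l _).symm⟩

theorem InSpan.mul {x y : Module.End L V} (hx : T.InSpan x) (hy : T.InSpan y) : T.InSpan (x * y) := by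
  obtain ⟨a, b, c, d, rfl⟩ := hx
  obtain ⟨e, f, g, h, rfl⟩ := hy
  refine ⟨a * e - b * f - c * g - d * h, a * f + b * e + c * h - d * g, a * g - b * h + c * e + d * f,
    a * h + b * g - c * f + d * e, ?_⟩
  rw [T.F.quat_mul (T.cen_algebraMap e) (T.cen_algebraMap f) (T.cen_algebraMap g) (T.cen_algebraMap h)]
  simp only [map_add, map_sub, map_mul]

theorem span_of_mem (h2 : (2 : L) ≠ 0) {g : G} (hg : g ∈ T.T0) : T.InSpan (P.ρ g) := by
  have one : T.InSpan (1 : Module.End L V) := ⟨1, 0, 0, 0, by simp [Frame.quat]⟩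
  have hmem : g ∈ Submonoid.closure ({T.a, T.gi, T.gj} : Set G) := by
    rw [← Subgroup.closure_toSubmonoid_of_finite]; exact hg
  clear hg
  induction hmem using Submonoid.closure_induction with
  | mem x hx =>
    rcases hx with rfl | rfl | rfl
    · refine ⟨-2⁻¹, 2⁻¹, 2⁻¹, 2⁻¹, ?_⟩
      refine eq_of_natMul (L := L) (n := 2) (by exact_mod_cast h2) ?_
      have e : (2 : Module.End L V) * P.ρ T.a = P.gam T.a - T.F.quat 1 0 0 0 := by
        rw [T.F.quat_scalar, gam, add_sub_cancel_right]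
      push_cast
      rw [e, T.hα, Frame.quat_sub, T.F.quat_smul_natCast, show (2 : Module.End L V) = algebraMap L _ 2 by rw [map_ofNat]]
      simp only [← map_mul, mul_neg, mul_inv_cancel₀ h2]
      simp
    · exact ⟨0, 1, 0, 0, by rw [T.hI]; simp [Frame.quat]⟩
    · exact ⟨0, 0, 1, 0, by rw [T.hJ]; simp [Frame.quat]⟩
  | one => rw [map_one]; exact one
  | mul x y _ _ hx hy => rw [map_mul]; exact hx.mul hy

theorem axis_coef {c : G} (h : T.IsAxis c) : ∃ e₁ e₂ e₃ : L, (e₁ = 1 ∨ e₁ = -1) ∧ (e₂ = 1 ∨ e₂ = -1) ∧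
    (e₃ = 1 ∨ e₃ = -1) ∧ T.Coef c 0 (algebraMap L _ e₁) (algebraMap L _ e₂) (algebraMap L _ e₃) := by
  obtain ⟨k, hk, hc⟩ := h
  have key : ∀ {t : G} {e : L}, (e = 1 ∨ e = -1) → T.Coef t 0 (algebraMap L _ e) (algebraMap L _ e) (algebraMap L _ e) →
      ∃ e₁ e₂ e₃ : L, (e₁ = 1 ∨ e₁ = -1) ∧ (e₂ = 1 ∨ e₂ = -1) ∧
        (e₃ = 1 ∨ e₃ = -1) ∧ T.Coef (k * t * k⁻¹) 0 (algebraMap L _ e₁) (algebraMap L _ e₂) (algebraMap L _ e₃) := by
    intro t e he ht
    have he' : -e = 1 ∨ -e = -1 := by rcases he with rfl | rfl <;> simp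
    rcases hk with rfl | rfl | rfl | rfl
    · exact ⟨e, e, e, he, he, he, by rwa [show (1 : G) * t * 1⁻¹ = t by group]⟩
    · exact ⟨e, -e, -e, he, he', he', by rw [map_neg]; exact ht.conj_gi⟩
    · exact ⟨-e, e, -e, he', he, he', by rw [map_neg]; exact ht.conj_gj⟩
    · refine ⟨-e, -e, e, he', he', he, ?_⟩
      have := ht.conj_gj.conj_gi
      rw [show T.gi * (T.gj * t * T.gj⁻¹) * T.gi⁻¹ = (T.gi * T.gj) * t * (T.gi * T.gj)⁻¹ by group, neg_neg] at this
      rw [map_neg]; exact this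
  rcases hc with rfl | rfl
  · exact key (e := 1) (Or.inl rfl) (by rw [map_one]; exact T.coef_a)
  · refine key (e := -1) (Or.inr rfl) ?_
    rw [map_neg, map_one]
    have := T.coef_a.inv T.ha
    rwa [neg_zero] at this

/-- All elements of order three: one frame, or one icosahedral subgroup. -/
theorem cases (h2 : (2 : L) ≠ 0) (p : ℕ) [Fact p.Prime] [CharP L p] :
    (∀ c, Cube c → T.IsAxis c) ∨
      ∃ c A, T.Std c A ∧ ∀ d, Cube d → d ∈ Subgroup.closure {c, T.gj} := by
  by_cases hex : ∃ c A, T.Std c A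
  · -- an icosahedral subgroup
    right
    obtain ⟨c, A, hcA⟩ := hex
    refine ⟨c, A, hcA, fun d hd => ?_⟩
    have hle := hcA.T0_le h2
    have rel : ∀ e, Cube e → P.dot e T.a = -2 → e ∈ Subgroup.closure {c, T.gj} := by
      intro e he h
      rcases classify h2 p he h with hax | ⟨k, hk, A', hs⟩
      · exact hle (T.axis_mem hax)
      · exact Std.conj_back (A := A) (hle hk) (std_mem h2 p hcA hs)
    rcases P.dot_cases (p := p) h2 T.ha hd with h | h | h | h | ⟨h, h5⟩
    · exact hle (h ▸ T.a_mem)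
    · exact hle (h ▸ inv_mem T.a_mem)
    · rw [← inv_inv d]
      exact inv_mem (rel _ hd.inv (by rw [P.dot_comm, P.dot_inv_right hd, h]))
    · exact rel _ hd (by rw [P.dot_comm, h])
    · have ha := hle T.a_mem
      have hd1 : d * T.a * d⁻¹ ∈ Subgroup.closure {c, T.gj} :=
        rel _ (T.ha.conj d) (by rw [P.dot_comm, dot_conj_of_twenty h2 T.ha hd h])
      have hd2 : d⁻¹ * T.a * d ∈ Subgroup.closure {c, T.gj} := by
        have := rel _ (T.ha.conj d⁻¹) (by
          rw [P.dot_comm, dot_conj_of_twenty h2 T.ha hd.inv (by rw [P.dot_inv_right hd, neg_mul_neg, h])])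
        rwa [inv_inv] at this
      have hz : (T.a * d) ^ 5 = T.gi * T.gi :=
        P.injective (by rw [h5, map_mul, T.hI, T.F.hI])
      have hd3 : d ^ 3 = 1 := hd.1
      have e : (T.a * d) ^ 5 = T.a * (d * T.a * d⁻¹) * (d⁻¹ * T.a * d) * T.a * (d * T.a * d⁻¹) * d⁻¹ := by
        have e1 : d⁻¹ = d * d := inv_eq_of_mul_eq_one_right (by rw [← hd3, pow_succ, pow_two, mul_assoc])
        have e2 : d * (d * d) = 1 := by rw [← mul_assoc, ← pow_two, ← pow_succ, hd3]
        have e3 : ∀ z, d * (d * (d * z)) = z := fun z => by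
          rw [← mul_assoc, ← mul_assoc, ← pow_two, ← pow_succ, hd3, one_mul]
        simp only [pow_succ, pow_zero, one_mul, e1, mul_assoc, e2, e3, mul_one]
      have : d⁻¹ ∈ Subgroup.closure {c, T.gj} := by
        rw [show d⁻¹ = (T.a * (d * T.a * d⁻¹) * (d⁻¹ * T.a * d) * T.a * (d * T.a * d⁻¹))⁻¹ * (T.a * d) ^ 5 by
          rw [e]; group]
        refine mul_mem (inv_mem ?_) (hz ▸ mul_mem (hle T.gi_mem) (hle T.gi_mem))
        exact mul_mem (mul_mem (mul_mem (mul_mem ha hd1) hd2) ha) hd1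
      simpa using inv_mem this
  · -- only the four axes
    left
    have rel : ∀ e, Cube e → P.dot e T.a = -2 → T.IsAxis e := by
      intro e he h
      rcases classify h2 p he h with hax | ⟨k, hk, A', hs⟩
      exacts [hax, absurd ⟨_, A', hs⟩ hex]
    have rel' : ∀ e, Cube e → (P.dot T.a e = 2 ∨ P.dot T.a e = -2) → T.IsAxis e := by
      intro e he h
      rcases h with h | h
      · exact T.axis_inv (rel _ he.inv (by rw [P.dot_comm, P.dot_inv_right he, h]))
      · exact rel _ he (by rw [P.dot_comm, h])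
    intro d hd
    rcases P.dot_cases (p := p) h2 T.ha hd with h | h | h | h | ⟨h, h5⟩
    · exact ⟨1, Or.inl rfl, Or.inl (by rw [h]; group)⟩
    · exact ⟨1, Or.inl rfl, Or.inr (by rw [h]; group)⟩
    · exact rel' d hd (Or.inl h)
    · exact rel' d hd (Or.inr h)
    exfalso
    have hd1 : T.IsAxis (d * T.a * d⁻¹) := rel' _ (T.ha.conj d) (Or.inr (dot_conj_of_twenty h2 T.ha hd h))
    have hd2 : T.IsAxis (d⁻¹ * T.a * d) := by
      have := rel' _ (T.ha.conj d⁻¹) (Or.inr (dot_conj_of_twenty h2 T.ha hd.inv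
        (by rw [P.dot_inv_right hd, neg_mul_neg, h])))
      rwa [inv_inv] at this
    have hz : (T.a * d) ^ 5 = T.gi * T.gi := P.injective (by rw [h5, map_mul, T.hI, T.F.hI])
    have hd3 : d ^ 3 = 1 := hd.1
    have hdmem : d ∈ T.T0 := by
      have e : (T.a * d) ^ 5 = T.a * (d * T.a * d⁻¹) * (d⁻¹ * T.a * d) * T.a * (d * T.a * d⁻¹) * d⁻¹ := by
        have e1 : d⁻¹ = d * d := inv_eq_of_mul_eq_one_right (by rw [← hd3, pow_succ, pow_two, mul_assoc])
        have e2 : d * (d * d) = 1 := by rw [← mul_assoc, ← pow_two, ← pow_succ, hd3]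
        have e3 : ∀ z, d * (d * (d * z)) = z := fun z => by
          rw [← mul_assoc, ← mul_assoc, ← pow_two, ← pow_succ, hd3, one_mul]
        simp only [pow_succ, pow_zero, one_mul, e1, mul_assoc, e2, e3, mul_one]
      have : d⁻¹ ∈ T.T0 := by
        rw [show d⁻¹ = (T.a * (d * T.a * d⁻¹) * (d⁻¹ * T.a * d) * T.a * (d * T.a * d⁻¹))⁻¹ * (T.a * d) ^ 5 by
          rw [e]; group]
        refine mul_mem (inv_mem ?_) (hz ▸ mul_mem T.gi_mem T.gi_mem)
        exact mul_mem (mul_mem (mul_mem (mul_mem T.a_mem (T.axis_mem hd1)) (T.axis_mem hd2)) T.a_mem)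
          (T.axis_mem hd1)
      simpa using inv_mem this
    -- scalar coefficients
    obtain ⟨l₀, l₁, l₂, l₃, hl⟩ : T.InSpan (P.gam d) := by
      obtain ⟨a, b, c, e, he⟩ := span_of_mem h2 hdmem
      refine ⟨2 * a + 1, 2 * b, 2 * c, 2 * e, ?_⟩
      rw [gam, he, T.F.quat_smul_natCast, ← T.F.quat_scalar 1, Frame.quat_add]
      simp [map_ofNat]
    have cl := T.cen_algebraMap
    have hcoef : T.Coef d (algebraMap L _ l₀) (algebraMap L _ l₁) (algebraMap L _ l₂) (algebraMap L _ l₃) :=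
      ⟨cl _, cl _, cl _, cl _, hl⟩
    have inj : Function.Injective (algebraMap L (Module.End L V)) := FaithfulSMul.algebraMap_injective L _
    have q4 : ∀ {x₀ x₁ x₂ x₃ y : L},
        T.F.quat (algebraMap L _ x₀) (algebraMap L _ x₁) (algebraMap L _ x₂) (algebraMap L _ x₃) =
          algebraMap L (Module.End L V) y → x₀ = y ∧ x₁ = 0 ∧ x₂ = 0 ∧ x₃ = 0 := by
      intro x₀ x₁ x₂ x₃ y e
      obtain ⟨e0, e1, e2, e3⟩ := quat_scalar_inj h2 (cl _) (cl _) (cl _) (cl _) (cl _) e
      exact ⟨inj e0, inj (by rw [e1, map_zero]), inj (by rw [e2, map_zero]), inj (by rw [e3, map_zero])⟩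
    have h16 : (16 : L) ≠ 0 := by
      rw [show (16 : L) = 2 ^ 4 by norm_num]; exact pow_ne_zero _ h2
    have h20 : (20 : Module.End L V) = algebraMap L _ 20 := by rw [map_ofNat]
    -- `gam d` squares to `-3`
    have hsq := P.gam_sq hd
    rw [hl, T.F.quat_mul (cl _) (cl _) (cl _) (cl _),
      show (-3 : Module.End L V) = algebraMap L _ (-3) by rw [map_neg, map_ofNat]] at hsq
    simp only [← map_mul, ← map_sub, ← map_add] at hsq
    obtain ⟨g0, g1, g2, g3⟩ := q4 hsq
    have hda := h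
    rw [P.dot_comm, hcoef.dot T.coef_a] at hda
    simp only [mul_zero, zero_mul, mul_one, one_mul, add_zero, zero_add, zero_sub, sub_zero, ← map_neg, ← map_add,
      ← map_sub] at hda
    rw [T.F.quat_mul (cl _) (cl _) (cl _) (cl _), h20] at hda
    simp only [← map_mul, ← map_sub, ← map_add] at hda
    obtain ⟨u0, u1, -, -⟩ := q4 hda
    by_cases hl0 : l₀ = 0
    swap
    · have z1 : l₁ = 0 := (mul_eq_zero.1 (show (2 * l₀) * l₁ = 0 by linear_combination g1)).resolve_left
        (mul_ne_zero h2 hl0)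
      have z2 : l₂ = 0 := (mul_eq_zero.1 (show (2 * l₀) * l₂ = 0 by linear_combination g2)).resolve_left
        (mul_ne_zero h2 hl0)
      have z3 : l₃ = 0 := (mul_eq_zero.1 (show (2 * l₀) * l₃ = 0 by linear_combination g3)).resolve_left
        (mul_ne_zero h2 hl0)
      subst z1 z2 z3
      exact h16 (by linear_combination u0 + 12 * g0)
    subst hl0
    -- the other axes
    have other : ∀ {k : G} {e₁ e₂ e₃ : L}, (k = T.gi ∨ k = T.gj ∨ k = T.gi * T.gj) →
        T.Coef (k * T.a * k⁻¹) 0 (algebraMap L _ e₁) (algebraMap L _ e₂) (algebraMap L _ e₃) →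
        4 * (l₁ * e₁ + l₂ * e₂ + l₃ * e₃) ^ 2 = 20 := by
      intro k e₁ e₂ e₃ hk hco
      have ht : T.IsAxis (k * T.a * k⁻¹) := ⟨k, Or.inr hk, Or.inl rfl⟩
      have fromAxis : T.IsAxis d → False := by
        intro hax
        obtain ⟨f₁, f₂, f₃, hf₁, hf₂, hf₃, hf⟩ := axis_coef hax
        have e := hf.2.2.2.2.symm.trans hl
        rw [← map_zero (algebraMap L (Module.End L V))] at e
        obtain ⟨-, i1, i2, i3⟩ := T.F.quat_inj h2 (cl _) (cl _) (cl _) (cl _) (cl _) (cl _) (cl _) (cl _) e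
        obtain rfl := inj i1
        obtain rfl := inj i2
        obtain rfl := inj i3
        apply h16
        rcases hf₁ with rfl | rfl <;> rcases hf₂ with rfl | rfl <;> rcases hf₃ with rfl | rfl <;>
          first | linear_combination u0 | linear_combination (-1 : L) * u0
      have hco' := hcoef.dot hco
      simp only [mul_zero, zero_mul, map_zero, add_zero, zero_add, zero_sub, sub_zero, ← map_mul, ← map_neg, ← map_add,
        ← map_sub] at hco'
      rcases P.dot_cases (p := p) h2 hd (T.ha.conj k) with e | e | e | e | ⟨e, -⟩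
      · exact (fromAxis (e ▸ ht)).elim
      · exact (fromAxis (T.axis_inv (e ▸ ht))).elim
      all_goals rw [hco'] at e
      · exfalso
        have hk' : k ∈ T.T0 := by
          rcases hk with rfl | rfl | rfl
          exacts [T.gi_mem, T.gj_mem, mul_mem T.gi_mem T.gj_mem]
        have hd' : P.dot T.a (k⁻¹ * d * k) = 2 := by
          have := P.dot_conj k⁻¹ (k * T.a * k⁻¹) d
          rw [show k⁻¹ * (k * T.a * k⁻¹) * k⁻¹⁻¹ = T.a by group, inv_inv, P.dot_comm _ d, hco', e] at this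
          rw [this, show (2 : Module.End L V) = 1 + 1 by norm_num, mul_add, add_mul, mul_one, ρ_inv_mul]
        have hd'' : Cube (k⁻¹ * d * k) := by simpa using hd.conj k⁻¹
        obtain ⟨f₁, f₂, f₃, hf₁, hf₂, hf₃, hf⟩ := axis_coef (rel' _ hd'' (Or.inl hd'))
        have e2 : T.Coef d 0 (algebraMap L _ (f₁ * e₁)) (algebraMap L _ (f₂ * e₂)) (algebraMap L _ (f₃ * e₃)) := by
          rw [show d = k * (k⁻¹ * d * k) * k⁻¹ by group]
          have hb := T.coef_a
          rcases hk with rfl | rfl | rfl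
          · have e' := hb.conj_gi
            obtain ⟨-, j1, j2, j3⟩ := T.F.quat_inj h2 hco.1 hco.2.1 hco.2.2.1 hco.2.2.2.1 e'.1 e'.2.1 e'.2.2.1
              e'.2.2.2.1 (hco.2.2.2.2.symm.trans e'.2.2.2.2)
            rw [map_mul, map_mul, map_mul, j1, j2, j3]
            simpa using hf.conj_gi
          · have e' := hb.conj_gj
            obtain ⟨-, j1, j2, j3⟩ := T.F.quat_inj h2 hco.1 hco.2.1 hco.2.2.1 hco.2.2.2.1 e'.1 e'.2.1 e'.2.2.1
              e'.2.2.2.1 (hco.2.2.2.2.symm.trans e'.2.2.2.2)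
            rw [map_mul, map_mul, map_mul, j1, j2, j3]
            simpa using hf.conj_gj
          · have e' := hb.conj_gj.conj_gi
            rw [show T.gi * (T.gj * T.a * T.gj⁻¹) * T.gi⁻¹ = (T.gi * T.gj) * T.a * (T.gi * T.gj)⁻¹ by group] at e'
            obtain ⟨-, j1, j2, j3⟩ := T.F.quat_inj h2 hco.1 hco.2.1 hco.2.2.1 hco.2.2.2.1 e'.1 e'.2.1 e'.2.2.1
              e'.2.2.2.1 (hco.2.2.2.2.symm.trans e'.2.2.2.2)
            rw [map_mul, map_mul, map_mul, j1, j2, j3]
            have := hf.conj_gj.conj_gi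
            rw [show T.gi * (T.gj * ((T.gi * T.gj)⁻¹ * d * (T.gi * T.gj)) * T.gj⁻¹) * T.gi⁻¹ =
              (T.gi * T.gj) * ((T.gi * T.gj)⁻¹ * d * (T.gi * T.gj)) * (T.gi * T.gj)⁻¹ by group] at this
            simpa using this
        have eq := e2.2.2.2.2.symm.trans hl
        rw [← map_zero (algebraMap L (Module.End L V))] at eq
        obtain ⟨-, i1, i2, i3⟩ := T.F.quat_inj h2 (cl _) (cl _) (cl _) (cl _) (cl _) (cl _) (cl _) (cl _) eq
        obtain rfl := inj i1
        obtain rfl := inj i2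
        obtain rfl := inj i3
        have he : ∀ {f e' : L}, (f = 1 ∨ f = -1) → (e' = 1 ∨ e' = -1) → (f * e' = 1 ∨ f * e' = -1) := by
          rintro f e' (rfl | rfl) (rfl | rfl) <;> simp
        have hsig : ∀ {k' : G} {x y z : L}, T.IsAxis k' →
            T.Coef k' 0 (algebraMap L _ x) (algebraMap L _ y) (algebraMap L _ z) →
            (x = 1 ∨ x = -1) ∧ (y = 1 ∨ y = -1) ∧ (z = 1 ∨ z = -1) := by
          intro k' x y z hax hxyz
          obtain ⟨a', b', c', ha', hb', hc', habc⟩ := axis_coef hax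
          obtain ⟨-, j1, j2, j3⟩ := T.F.quat_inj h2 hxyz.1 hxyz.2.1 hxyz.2.2.1 hxyz.2.2.2.1 habc.1 habc.2.1
            habc.2.2.1 habc.2.2.2.1 (hxyz.2.2.2.2.symm.trans habc.2.2.2.2)
          rw [inj j1, inj j2, inj j3]
          exact ⟨ha', hb', hc'⟩
        obtain ⟨s1, s2, s3⟩ := hsig ht hco
        apply h16
        rcases he hf₁ s1 with q1 | q1 <;> rcases he hf₂ s2 with q2 | q2 <;> rcases he hf₃ s3 with q3 | q3 <;>
          rw [q1, q2, q3] at u0 <;> first | linear_combination u0 | linear_combination (-1 : L) * u0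
      · exfalso
        have hk' : k ∈ T.T0 := by
          rcases hk with rfl | rfl | rfl
          exacts [T.gi_mem, T.gj_mem, mul_mem T.gi_mem T.gj_mem]
        have hd' : P.dot T.a (k⁻¹ * d * k) = -2 := by
          have := P.dot_conj k⁻¹ (k * T.a * k⁻¹) d
          rw [show k⁻¹ * (k * T.a * k⁻¹) * k⁻¹⁻¹ = T.a by group, inv_inv, P.dot_comm _ d, hco', e] at this
          rw [this, show (2 : Module.End L V) = 1 + 1 by norm_num, neg_add, mul_add, add_mul, mul_neg, neg_mul,
            mul_one, ρ_inv_mul]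
        have hd'' : Cube (k⁻¹ * d * k) := by simpa using hd.conj k⁻¹
        obtain ⟨f₁, f₂, f₃, hf₁, hf₂, hf₃, hf⟩ := axis_coef (rel' _ hd'' (Or.inr hd'))
        have e2 : T.Coef d 0 (algebraMap L _ (f₁ * e₁)) (algebraMap L _ (f₂ * e₂)) (algebraMap L _ (f₃ * e₃)) := by
          rw [show d = k * (k⁻¹ * d * k) * k⁻¹ by group]
          have hb := T.coef_a
          rcases hk with rfl | rfl | rfl
          · have e' := hb.conj_gi
            obtain ⟨-, j1, j2, j3⟩ := T.F.quat_inj h2 hco.1 hco.2.1 hco.2.2.1 hco.2.2.2.1 e'.1 e'.2.1 e'.2.2.1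
              e'.2.2.2.1 (hco.2.2.2.2.symm.trans e'.2.2.2.2)
            rw [map_mul, map_mul, map_mul, j1, j2, j3]
            simpa using hf.conj_gi
          · have e' := hb.conj_gj
            obtain ⟨-, j1, j2, j3⟩ := T.F.quat_inj h2 hco.1 hco.2.1 hco.2.2.1 hco.2.2.2.1 e'.1 e'.2.1 e'.2.2.1
              e'.2.2.2.1 (hco.2.2.2.2.symm.trans e'.2.2.2.2)
            rw [map_mul, map_mul, map_mul, j1, j2, j3]
            simpa using hf.conj_gj
          · have e' := hb.conj_gj.conj_gi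
            rw [show T.gi * (T.gj * T.a * T.gj⁻¹) * T.gi⁻¹ = (T.gi * T.gj) * T.a * (T.gi * T.gj)⁻¹ by group] at e'
            obtain ⟨-, j1, j2, j3⟩ := T.F.quat_inj h2 hco.1 hco.2.1 hco.2.2.1 hco.2.2.2.1 e'.1 e'.2.1 e'.2.2.1
              e'.2.2.2.1 (hco.2.2.2.2.symm.trans e'.2.2.2.2)
            rw [map_mul, map_mul, map_mul, j1, j2, j3]
            have := hf.conj_gj.conj_gi
            rw [show T.gi * (T.gj * ((T.gi * T.gj)⁻¹ * d * (T.gi * T.gj)) * T.gj⁻¹) * T.gi⁻¹ =
              (T.gi * T.gj) * ((T.gi * T.gj)⁻¹ * d * (T.gi * T.gj)) * (T.gi * T.gj)⁻¹ by group] at this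
            simpa using this
        have eq := e2.2.2.2.2.symm.trans hl
        rw [← map_zero (algebraMap L (Module.End L V))] at eq
        obtain ⟨-, i1, i2, i3⟩ := T.F.quat_inj h2 (cl _) (cl _) (cl _) (cl _) (cl _) (cl _) (cl _) (cl _) eq
        obtain rfl := inj i1
        obtain rfl := inj i2
        obtain rfl := inj i3
        obtain ⟨a', b', c', ha', hb', hc', habc⟩ := axis_coef ht
        obtain ⟨-, j1, j2, j3⟩ := T.F.quat_inj h2 hco.1 hco.2.1 hco.2.2.1 hco.2.2.2.1 habc.1 habc.2.1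
          habc.2.2.1 habc.2.2.2.1 (hco.2.2.2.2.symm.trans habc.2.2.2.2)
        rw [inj j1, inj j2, inj j3] at u0
        apply h16
        rcases hf₁ with rfl | rfl <;> rcases hf₂ with rfl | rfl <;> rcases hf₃ with rfl | rfl <;>
          rcases ha' with rfl | rfl <;> rcases hb' with rfl | rfl <;> rcases hc' with rfl | rfl <;>
            first | linear_combination u0 | linear_combination (-1 : L) * u0
      · rw [T.F.quat_mul (cl _) (cl _) (cl _) (cl _), h20] at e
        simp only [← map_mul, ← map_sub, ← map_add] at e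
        obtain ⟨w0, w1, w2, w3⟩ := q4 e
        linear_combination w0 + (0 : L) * w1
    have a1 : (algebraMap L (Module.End L V)) 1 = 1 := map_one _
    have k1 := other (e₁ := 1) (e₂ := -1) (e₃ := -1) (Or.inl rfl) (by
      have := T.coef_a.conj_gi; rwa [map_neg, a1])
    have k2 := other (e₁ := -1) (e₂ := 1) (e₃ := -1) (Or.inr (Or.inl rfl)) (by
      have := T.coef_a.conj_gj; rwa [map_neg, a1])
    have k3 := other (e₁ := -1) (e₂ := -1) (e₃ := 1) (Or.inr (Or.inr rfl)) (by
      have := T.coef_a.conj_gj.conj_gi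
      rw [show T.gi * (T.gj * T.a * T.gj⁻¹) * T.gi⁻¹ = (T.gi * T.gj) * T.a * (T.gi * T.gj)⁻¹ by group] at this
      rwa [neg_neg, map_neg, a1] at *)
    apply h16
    apply mul_left_cancel₀ h2
    rw [mul_zero]
    linear_combination (-1 : L) * (u0 + k1 + k2 + k3) - 16 * g0

end Tetra

end Rep

end CfsgLib.Recog.Zassenhaus
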