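import Cfsg.Agent.Lib.Recog.Zassenhaus.Rep
import Cfsg.Agent.Lib.Core.UniqueOrderP

/-!
# Commuting elements and Sylow subgroups of a fixed point free group
-/

set_option autoImplicit false
set_option linter.all false

namespace CfsgLib.Recog.Zassenhaus

open Subgroup

namespace Rep

variable {G L V : Type*} [Group G] [Field L] [AddCommGroup V] [Module L V] (P : Rep G L V)

/-- Restriction to a subgroup. -/
def restrict (H : Subgroup G) : Rep H L V :=
  ⟨P.ρ.comp H.subtype, fun g hg v h => P.fpf g (fun e => hg (Subtype.ext e)) v h⟩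

theorem pow_apply_eigen {g : G} {μ : L} {v : V} (h : P.ρ g v = μ • v) (n : ℕ) : P.ρ (g ^ n) v = μ ^ n • v := by
  induction n with
  | zero => simp
  | succ n ih => rw [pow_succ, map_mul, Module.End.mul_apply, h, map_smul, ih, smul_smul, ← pow_succ']

variable [Finite G] [IsAlgClosed L] [FiniteDimensional L V] [Nontrivial V]

include P in
/-- Commuting elements generate cyclic groups. -/
theorem mem_zpowers_of_commute {x y : G} (hxy : Commute x y) (hy : y ^ orderOf x = 1) : y ∈ zpowers x := by
  obtain ⟨μ, hμ⟩ := Module.End.exists_eigenvalue (P.ρ x)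
  set E := Module.End.eigenspace (P.ρ x) μ with hE
  haveI : Nontrivial E := Submodule.nontrivial_iff_ne_bot.2 (Module.End.hasEigenvalue_iff.1 hμ)
  have hinv : ∀ v ∈ E, P.ρ y v ∈ E := by
    intro v hv
    rw [hE, Module.End.mem_eigenspace_iff] at hv ⊢
    rw [← Module.End.mul_apply, ← map_mul, hxy.eq, map_mul, Module.End.mul_apply, hv, map_smul]
  obtain ⟨ν, hν⟩ := Module.End.exists_eigenvalue ((P.ρ y).restrict hinv)
  obtain ⟨w, hw⟩ := hν.exists_hasEigenvector
  have hwv : P.ρ y (w : V) = ν • (w : V) := congrArg Subtype.val hw.apply_eq_smul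
  have hv0 : (w : V) ≠ 0 := fun h => hw.2 (Subtype.ext h)
  have hxv : P.ρ x (w : V) = μ • (w : V) := Module.End.mem_eigenspace_iff.1 w.2
  have hprim : IsPrimitiveRoot μ (orderOf x) := by
    refine ⟨?_, fun l hl => ?_⟩
    · have h := P.pow_apply_eigen hxv (orderOf x)
      rw [pow_orderOf_eq_one, map_one, Module.End.one_apply] at h
      exact smul_left_injective L hv0 (show _ = _ by simp only [one_smul]; exact h.symm)
    · exact orderOf_dvd_of_pow_eq_one (P.eq_one_of_fix hv0 (by rw [P.pow_apply_eigen hxv, hl, one_smul]))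
  have hν1 : ν ^ orderOf x = 1 := by
    have h := P.pow_apply_eigen hwv (orderOf x)
    rw [hy, map_one, Module.End.one_apply] at h
    exact smul_left_injective L hv0 (show _ = _ by simp only [one_smul]; exact h.symm)
  haveI : NeZero (orderOf x) := ⟨(orderOf_pos x).ne'⟩
  obtain ⟨i, -, hi⟩ := hprim.eq_pow_of_pow_eq_one hν1
  have e : y⁻¹ * x ^ i = 1 := P.eq_one_of_fix hv0 (by
    rw [map_mul, Module.End.mul_apply, P.pow_apply_eigen hxv, hi, ← hwv, ← Module.End.mul_apply, ρ_inv_mul,
      Module.End.one_apply])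
  rw [inv_mul_eq_one] at e
  exact e ▸ pow_mem (mem_zpowers x) i

include P in
/-- A `q`-subgroup is cyclic or quaternion. -/
theorem pGroup_cases {q : ℕ} [hq : Fact q.Prime] (Q : Subgroup G) (hQ : IsPGroup q Q) :
    IsCyclic Q ∨ (q = 2 ∧ ∃ n, Nonempty (Q ≃* QuaternionGroup (2 ^ n))) := by
  refine CfsgLib.Core.UniqueOrderP.isCyclic_or_quaternion_of_unique hQ fun H K hH hK => ?_
  haveI : Nontrivial Q := by
    haveI : Nontrivial H := Finite.one_lt_card_iff_nontrivial.1 (hH.symm ▸ hq.out.one_lt)
    exact H.subtype_injective.nontrivial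
  haveI : Nontrivial (center Q) := hQ.center_nontrivial
  obtain ⟨n, hn0, hn⟩ := IsPGroup.nontrivial_iff_card (hQ.to_subgroup _) |>.1 (inferInstance : Nontrivial (center Q))
  obtain ⟨c, hc⟩ := exists_prime_orderOf_dvd_card' q (G := center Q) (by rw [hn]; exact dvd_pow_self q hn0.ne')
  have hco : orderOf (((c : Q) : G)) = q := by rw [Subgroup.orderOf_coe, Subgroup.orderOf_coe, hc]
  have key : ∀ S : Subgroup Q, Nat.card S = q → S = zpowers (c : Q) := by
    intro S hS
    refine eq_of_le_of_card_ge (fun s hs => ?_) (by rw [hS, Nat.card_zpowers, Subgroup.orderOf_coe, hc])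
    have hsq : s ^ q = 1 := by
      have := pow_card_eq_one' (x := (⟨s, hs⟩ : S))
      rw [hS] at this
      exact congrArg Subtype.val this
    obtain ⟨i, hi⟩ := P.mem_zpowers_of_commute (x := ((c : Q) : G)) (y := (s : G))
      (congrArg Subtype.val (mem_center_iff.1 c.2 s)).symm
      (by rw [hco, ← Subgroup.coe_pow, hsq, Subgroup.coe_one])
    exact ⟨i, Subtype.ext hi⟩
  rw [key H hH, key K hK]

include P in
/-- An element of order four in a quaternion subgroup. -/
theorem isCyclic_of_no_four {q : ℕ} [hq : Fact q.Prime] (Q : Subgroup G) (hQ : IsPGroup q Q)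
    (h4 : ∀ x ∈ Q, orderOf x ≠ 4) : IsCyclic Q := by
  rcases P.pGroup_cases Q hQ with h | ⟨-, n, ⟨e⟩⟩
  · exact h
  · exfalso
    refine h4 _ (e.symm (QuaternionGroup.xa 0)).2 ?_
    rw [Subgroup.orderOf_coe, MulEquiv.orderOf_eq, QuaternionGroup.orderOf_xa]

include P in
theorem isSolvable_of_no_four (h4 : ∀ x : G, orderOf x ≠ 4) : Group.IsSolvable G := by
  haveI : IsZGroup G := ⟨fun q hq S => by
    haveI := Fact.mk hq
    exact P.isCyclic_of_no_four (S : Subgroup G) S.2 fun x _ => h4 x⟩
  infer_instance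

include P in
/-- Fixed point free groups of odd order are soluble. -/
theorem isSolvable_of_odd (h : ¬ 2 ∣ Nat.card G) : Group.IsSolvable G :=
  P.isSolvable_of_no_four fun x hx => h ((show 2 ∣ orderOf x by rw [hx]; norm_num).trans (orderOf_dvd_natCard x))

end Rep

end CfsgLib.Recog.Zassenhaus
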